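import Cfsg.Agent.Helper28.CosetMain
import Cfsg.Prelude.Def_SporCoxeter

set_option autoImplicit false

/-!
# Certified coset enumeration for the Coxeter-style presentations of `Def_SporCoxeter`

Word layout of a certificate for `CoxPresented α edges extra` and subgroup generators `Ylist`:
`[subgroup generators] ++ [(x y)^m(x,y) for all ordered pairs of generator indices] ++ [extra relators]
++ [l, l⁻¹ for every letter] ++ [empty word]`.
-/

namespace Cfsg.Agent.Helper28

open Cfsg.Spor

section Cox

variable {α : Type} [DecidableEq α]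

/-- the Coxeter word `(x y)^m` as letter codes -/
def coxW (ix iy m : Nat) : List Nat := (List.replicate m [2 * ix, 2 * iy]).flatten

/-- the exponent used for the pair of generator indices `(ix, iy)`: the Coxeter label if both are nodes, else `0` -/
def lab (edges : List (α × ℕ × α)) (gen : Nat → α) (ix iy : Nat) : Nat :=
  if gen ix ∈ coxNodes edges ∧ gen iy ∈ coxNodes edges then coxLabel edges (gen ix) (gen iy) else 0

theorem ev_coxW (gen : Nat → α) (ngen ix iy m : Nat) (hx : ix < ngen) (hy : iy < ngen) :
    ev gen ngen (coxW ix iy m) = (FreeGroup.of (gen ix) * FreeGroup.of (gen iy)) ^ m := by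
  induction m with
  | zero => simp [coxW, ev, wv_nil]
  | succ m ih =>
    have e : coxW ix iy (m + 1) = [2 * ix, 2 * iy] ++ coxW ix iy m := by
      simp [coxW, List.replicate_succ]
    unfold ev at ih ⊢
    rw [e, wv_append, ih, pow_succ', wv_cons, wv_cons, wv_nil]
    congr 1
    unfold lam gF
    have e1 : 2 * ix % 2 = 0 := by omega
    have e2 : 2 * iy % 2 = 0 := by omega
    have e3 : 2 * ix / 2 = ix := by omega
    have e4 : 2 * iy / 2 = iy := by omega
    rw [if_pos e1, if_pos e2, e3, e4, if_pos hx, if_pos hy, mul_one]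

variable (edges : List (α × ℕ × α)) (extra : List (FreeGroup α)) (Ylist : List (FreeGroup α))

/-- the relator set of `CoxPresented α edges extra` -/
abbrev coxRels : Set (FreeGroup α) := coxRelators edges ∪ {r | r ∈ extra}

variable (gen : Nat → α) (idx : α → Nat) (ngen : Nat) (T : Tabs) (P : PTabs)

/-- the layout conditions on the word table of a certificate -/
structure Layout : Prop where
  hngen : ngen ≤ 31
  hgi : ∀ a : α, idx a < ngen ∧ gen (idx a) = a
  hig : ∀ k, k < ngen → idx (gen k) = k
  hnsub : T.nsub = Ylist.length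
  hY : ∀ s, s < T.nsub → ev gen ngen (T.word s) = Ylist.getD s 1
  hcoxw : ∀ ix, ix < ngen → ∀ iy, iy < ngen →
    T.word (T.nsub + ix * ngen + iy) = coxW ix iy (lab edges gen ix iy)
  hextra : ∀ j, j < extra.length → ev gen ngen (T.word (T.nsub + ngen * ngen + j)) = extra.getD j 1
  htriv : ∀ l, l < 2 * ngen → T.word (T.nsub + ngen * ngen + extra.length + l) = [l, flipL l]
  hempty : T.word (T.nsub + ngen * ngen + extra.length + 2 * ngen) = []
  hnwords : T.nwords = T.nsub + ngen * ngen + extra.length + 2 * ngen + 1
  hL : P.L = 2 * ngen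
  hletters : ∀ r, r < T.nwords → ∀ l ∈ T.word r, l < P.L

variable {edges extra Ylist gen idx ngen T P}

theorem Layout.mk_cox_eq_one (lay : Layout edges extra Ylist gen idx ngen T P) (ix iy : Nat)
    (hx : ix < ngen) (hy : iy < ngen) :
    PresentedGroup.mk (coxRels edges extra) (ev gen ngen (coxW ix iy (lab edges gen ix iy))) = 1 := by
  rw [ev_coxW gen ngen ix iy _ hx hy]
  unfold lab
  by_cases h : gen ix ∈ coxNodes edges ∧ gen iy ∈ coxNodes edges
  · rw [if_pos h]
    rw [PresentedGroup.mk_eq_one_iff]
    apply Subgroup.subset_normalClosure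
    left
    exact ⟨gen ix, h.1, gen iy, h.2, rfl⟩
  · rw [if_neg h, pow_zero, map_one]

theorem Layout.hrelw (lay : Layout edges extra Ylist gen idx ngen T P) :
    ∀ r, T.nsub ≤ r → r < T.nwords →
      PresentedGroup.mk (coxRels edges extra) (ev gen ngen (T.word r)) = 1 := by
  intro r h1 h2
  rw [lay.hnwords] at h2
  by_cases hc : r < T.nsub + ngen * ngen
  · -- Coxeter word
    have hpos : 0 < ngen := by
      rcases Nat.eq_zero_or_pos ngen with h0 | h0
      · rw [h0] at hc; omega
      · exact h0
    have hq : (r - T.nsub) / ngen < ngen := by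
      rw [Nat.div_lt_iff_lt_mul hpos]; omega
    have hm : (r - T.nsub) % ngen < ngen := Nat.mod_lt _ hpos
    have hr : r = T.nsub + (r - T.nsub) / ngen * ngen + (r - T.nsub) % ngen := by
      have := Nat.div_add_mod' (r - T.nsub) ngen
      omega
    rw [hr, lay.hcoxw _ hq _ hm]
    exact lay.mk_cox_eq_one _ _ hq hm
  · by_cases he : r < T.nsub + ngen * ngen + extra.length
    · -- extra relator
      have hr : r = T.nsub + ngen * ngen + (r - (T.nsub + ngen * ngen)) := by omega
      have hj : r - (T.nsub + ngen * ngen) < extra.length := by omega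
      rw [hr, lay.hextra _ hj, PresentedGroup.mk_eq_one_iff]
      apply Subgroup.subset_normalClosure
      right
      show extra.getD _ 1 ∈ extra
      rw [List.getD_eq_getElem _ _ hj]
      exact List.getElem_mem hj
    · by_cases ht : r < T.nsub + ngen * ngen + extra.length + 2 * ngen
      · -- trivial word
        have hr : r = T.nsub + ngen * ngen + extra.length +
            (r - (T.nsub + ngen * ngen + extra.length)) := by omega
        have hl : r - (T.nsub + ngen * ngen + extra.length) < 2 * ngen := by omega
        rw [hr, lay.htriv _ hl]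
        unfold ev
        rw [wv_cons, wv_cons, wv_nil, lam_flipL]
        simp
      · have hr : r = T.nsub + ngen * ngen + extra.length + 2 * ngen := by omega
        rw [hr, lay.hempty]
        simp [ev, wv_nil]

theorem Layout.hYw (lay : Layout edges extra Ylist gen idx ngen T P) :
    ∀ r, r < T.nsub → ev gen ngen (T.word r) ∈ {y | y ∈ Ylist} := by
  intro r hr
  rw [lay.hY r hr]
  have hr' : r < Ylist.length := by rw [← lay.hnsub]; exact hr
  show Ylist.getD r 1 ∈ Ylist
  rw [List.getD_eq_getElem _ _ hr']
  exact List.getElem_mem hr'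

variable (hinv : invOk P = true)

theorem Layout.hrels (lay : Layout edges extra Ylist gen idx ngen T P)
    (hperm : ∀ r, T.nsub ≤ r → r < T.nsub + ngen * ngen + extra.length →
      relOk P (T.word r) 0 P.n = true) :
    ∀ r ∈ coxRels edges extra, rhoF idx ngen P hinv lay.hL r = 1 := by
  intro r hr
  rcases hr with hr | hr
  · obtain ⟨x, hx, y, hy, rfl⟩ := hr
    have hix := (lay.hgi x).1
    have hiy := (lay.hgi y).1
    have e : (FreeGroup.of x * FreeGroup.of y) ^ coxLabel edges x y =
        ev gen ngen (T.word (T.nsub + idx x * ngen + idx y)) := by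
      rw [lay.hcoxw _ hix _ hiy, ev_coxW gen ngen _ _ _ hix hiy, (lay.hgi x).2, (lay.hgi y).2]
      unfold lab
      rw [(lay.hgi x).2, (lay.hgi y).2, if_pos ⟨hx, hy⟩]
    rw [e]
    have hlt : T.nsub + idx x * ngen + idx y < T.nsub + ngen * ngen := by
      have : idx x * ngen + idx y < ngen * ngen := by
        calc idx x * ngen + idx y < idx x * ngen + ngen := by omega
          _ = (idx x + 1) * ngen := by ring
          _ ≤ ngen * ngen := Nat.mul_le_mul_right _ hix
      omega
    apply rhoF_ev_eq_one gen idx ngen P hinv lay.hL lay.hig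
    · exact lay.hletters _ (by rw [lay.hnwords]; omega)
    · exact hperm _ (by omega) (by omega)
  · have hr' : r ∈ extra := hr
    obtain ⟨j, hj, rfl⟩ := List.getElem_of_mem hr'
    have e : extra[j] = ev gen ngen (T.word (T.nsub + ngen * ngen + j)) := by
      rw [lay.hextra j hj, List.getD_eq_getElem _ _ hj]
    rw [e]
    apply rhoF_ev_eq_one gen idx ngen P hinv lay.hL lay.hig
    · exact lay.hletters _ (by rw [lay.hnwords]; omega)
    · exact hperm _ (by omega) (by omega)

/-- **Index theorem for Coxeter-style presentations.** -/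
theorem cox_cert (lay : Layout edges extra Ylist gen idx ngen T P) (hn : 0 < P.n)
    (hdefs : checkDefs T = true) (F : Nat)
    (hfacts : ∀ f, f < F → VF (HH (coxRels edges extra) {y | y ∈ Ylist}) (gG (coxRels edges extra) gen ngen) T f)
    (hfin : checkFin T P F = true)
    (hpar : parOk P = true)
    (hperm : ∀ r, T.nsub ≤ r → r < T.nsub + ngen * ngen + extra.length →
      relOk P (T.word r) 0 P.n = true)
    (hsubfix : ∀ r, r < T.nsub → relOk P (T.word r) 0 1 = true) :
    (HH (coxRels edges extra) {y | y ∈ Ylist}).index = P.n ∧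
      (∀ y : PresentedGroup (coxRels edges extra),
        rhoG (coxRels edges extra) idx ngen P hinv lay.hL (lay.hrels hinv hperm) y ⟨0, hn⟩ = ⟨0, hn⟩ ↔
          y ∈ HH (coxRels edges extra) {y | y ∈ Ylist}) ∧
      (∀ x : Fin P.n, ∃ y : PresentedGroup (coxRels edges extra),
        rhoG (coxRels edges extra) idx ngen P hinv lay.hL (lay.hrels hinv hperm) y ⟨0, hn⟩ = x) := by
  apply cert_main (coxRels edges extra) {y | y ∈ Ylist} gen idx ngen T P hinv lay.hL lay.hngen lay.hgi lay.hig hn
    ?_ hdefs F hfacts hfin hpar
  intro y hy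
  have hy' : y ∈ Ylist := hy
  obtain ⟨s, hs, rfl⟩ := List.getElem_of_mem hy'
  have hs' : s < T.nsub := by rw [lay.hnsub]; exact hs
  refine ⟨s, hs', lay.hletters s (by rw [lay.hnwords]; omega), ?_, hsubfix s hs'⟩
  rw [lay.hY s hs', List.getD_eq_getElem _ _ hs]

end Cox

end Cfsg.Agent.Helper28
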