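import Mathlib

set_option autoImplicit false

/-!
# Abstract lemmas for certified coset enumeration

`exists_rep_of_table`: if a family `rep i` of group elements contains an element of `H` and is closed,
modulo `H` on the left, under right multiplication by a generating set and its inverses, then the right
cosets `H * rep i` cover the group.  Consequences: an upper bound for the index, and (together with a
transitive action in which `H` fixes a point) the exact index.
-/

namespace Cfsg.Agent.Helper28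

variable {Γ : Type*} [Group Γ]

theorem exists_rep_of_table (H : Subgroup Γ) (gens : Set Γ) (hgens : Subgroup.closure gens = ⊤)
    {I : Type*} (rep : I → Γ) (i0 : I) (h0 : rep i0 ∈ H)
    (hstep : ∀ i : I, ∀ s ∈ gens,
      (∃ j, rep i * s * (rep j)⁻¹ ∈ H) ∧ (∃ j, rep i * s⁻¹ * (rep j)⁻¹ ∈ H)) :
    ∀ x : Γ, ∃ i, x * (rep i)⁻¹ ∈ H := by
  -- the set of good elements is closed under right multiplication by `closure gens`
  have key : ∀ y : Γ, y ∈ Subgroup.closure gens →
      (∀ u : Γ, (∃ i, u * (rep i)⁻¹ ∈ H) → ∃ i, u * y * (rep i)⁻¹ ∈ H) ∧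
      (∀ u : Γ, (∃ i, u * (rep i)⁻¹ ∈ H) → ∃ i, u * y⁻¹ * (rep i)⁻¹ ∈ H) := by
    intro y hy
    induction hy using Subgroup.closure_induction with
    | mem s hs =>
      constructor
      · rintro u ⟨i, hi⟩
        obtain ⟨j, hj⟩ := (hstep i s hs).1
        refine ⟨j, ?_⟩
        have : u * s * (rep j)⁻¹ = (u * (rep i)⁻¹) * (rep i * s * (rep j)⁻¹) := by group
        rw [this]; exact H.mul_mem hi hj
      · rintro u ⟨i, hi⟩
        obtain ⟨j, hj⟩ := (hstep i s hs).2
        refine ⟨j, ?_⟩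
        have : u * s⁻¹ * (rep j)⁻¹ = (u * (rep i)⁻¹) * (rep i * s⁻¹ * (rep j)⁻¹) := by group
        rw [this]; exact H.mul_mem hi hj
    | one =>
      constructor
      · rintro u ⟨i, hi⟩; exact ⟨i, by simpa using hi⟩
      · rintro u ⟨i, hi⟩; exact ⟨i, by simpa using hi⟩
    | mul a b _ _ ha hb =>
      constructor
      · intro u hu
        have := hb.1 (u * a) (ha.1 u hu)
        simpa [mul_assoc] using this
      · intro u hu
        have := ha.2 (u * b⁻¹) (hb.2 u hu)
        simpa [mul_assoc, mul_inv_rev] using this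
    | inv a _ ha =>
      constructor
      · intro u hu; exact ha.2 u hu
      · intro u hu; simpa using ha.1 u hu
  intro x
  have hx : x ∈ Subgroup.closure gens := by rw [hgens]; trivial
  have := (key x hx).1 1 ⟨i0, by simpa using H.inv_mem h0⟩
  simpa using this

/-- The left cosets `(rep i)⁻¹ H` cover `Γ ⧸ H`. -/
theorem surjective_of_table (H : Subgroup Γ) (gens : Set Γ) (hgens : Subgroup.closure gens = ⊤)
    {I : Type*} (rep : I → Γ) (i0 : I) (h0 : rep i0 ∈ H)
    (hstep : ∀ i : I, ∀ s ∈ gens,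
      (∃ j, rep i * s * (rep j)⁻¹ ∈ H) ∧ (∃ j, rep i * s⁻¹ * (rep j)⁻¹ ∈ H)) :
    Function.Surjective (fun i : I => (((rep i)⁻¹ : Γ) : Γ ⧸ H)) := by
  intro q
  obtain ⟨x, rfl⟩ := QuotientGroup.mk_surjective q
  obtain ⟨i, hi⟩ := exists_rep_of_table H gens hgens rep i0 h0 hstep x⁻¹
  refine ⟨i, ?_⟩
  show (((rep i)⁻¹ : Γ) : Γ ⧸ H) = (x : Γ ⧸ H)
  rw [QuotientGroup.eq]
  have : ((rep i)⁻¹)⁻¹ * x = (x⁻¹ * (rep i)⁻¹)⁻¹ := by group
  rw [this]; exact H.inv_mem hi

/-- Exact index from a covering family of `n` cosets and a transitive action on `n` points in which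
`H` fixes a point. Also `H` is the full point stabiliser. -/
theorem index_eq_of_table_of_action (H : Subgroup Γ) (gens : Set Γ)
    (hgens : Subgroup.closure gens = ⊤) (n : ℕ)
    (rep : Fin n → Γ) (i0 : Fin n) (h0 : rep i0 ∈ H)
    (hstep : ∀ i : Fin n, ∀ s ∈ gens,
      (∃ j, rep i * s * (rep j)⁻¹ ∈ H) ∧ (∃ j, rep i * s⁻¹ * (rep j)⁻¹ ∈ H))
    (ρ : Γ →* Equiv.Perm (Fin n)) (x0 : Fin n) (hfix : ∀ h ∈ H, ρ h x0 = x0)
    (htrans : ∀ x : Fin n, ∃ y : Γ, ρ y x0 = x) :
    H.index = n ∧ ∀ y : Γ, ρ y x0 = x0 → y ∈ H := by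
  have hsurj := surjective_of_table H gens hgens rep i0 h0 hstep
  have : Finite (Γ ⧸ H) := Finite.of_surjective _ hsurj
  have hle : Nat.card (Γ ⧸ H) ≤ n := by
    have := Nat.card_le_card_of_surjective _ hsurj
    simpa using this
  -- the orbit map
  let ψ : Γ ⧸ H → Fin n := Quotient.lift (fun y : Γ => ρ y x0) (by
    intro a b hab
    have hab' : a⁻¹ * b ∈ H := QuotientGroup.leftRel_apply.mp hab
    have := hfix _ hab'
    have h2 : ρ b x0 = ρ a (ρ (a⁻¹ * b) x0) := by
      rw [← Equiv.Perm.mul_apply, ← map_mul]; congr 2; group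
    show ρ a x0 = ρ b x0
    rw [h2, this])
  have hψ : ∀ y : Γ, ψ (y : Γ ⧸ H) = ρ y x0 := fun y => rfl
  have hψsurj : Function.Surjective ψ := by
    intro x; obtain ⟨y, hy⟩ := htrans x; exact ⟨(y : Γ ⧸ H), by rw [hψ, hy]⟩
  have hge : n ≤ Nat.card (Γ ⧸ H) := by
    have := Nat.card_le_card_of_surjective _ hψsurj
    simpa using this
  have hcard : Nat.card (Γ ⧸ H) = n := le_antisymm hle hge
  have hψinj : Function.Injective ψ := by
    have hbij : Function.Bijective ψ := by
      rw [Nat.bijective_iff_surjective_and_card]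
      exact ⟨hψsurj, by simpa using hcard⟩
    exact hbij.1
  refine ⟨hcard, ?_⟩
  intro y hy
  have : ψ (y : Γ ⧸ H) = ψ ((1 : Γ) : Γ ⧸ H) := by rw [hψ, hψ, hy, map_one]; rfl
  have := hψinj this
  rw [QuotientGroup.eq] at this
  have h3 : y⁻¹ ∈ H := by simpa using this
  simpa using H.inv_mem h3

end Cfsg.Agent.Helper28
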