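import Cfsg.Agent.Helper28.CosetCox

set_option autoImplicit false

/-!
# Sub-presentations, order bounds along a chain of subgroups, and collapsing quotients
-/

namespace Cfsg.Agent.Helper28

open Cfsg.Spor

section Sub

variable {α β : Type}

/-- the homomorphism of presented groups induced by a map of generators under which the relators hold -/
noncomputable def subHom (ι : β → α) (rels' : Set (FreeGroup β)) (rels : Set (FreeGroup α))
    (h : ∀ r ∈ rels', PresentedGroup.mk rels (FreeGroup.map ι r) = 1) :
    PresentedGroup rels' →* PresentedGroup rels :=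
  PresentedGroup.toGroup (f := fun b => PresentedGroup.mk rels (FreeGroup.of (ι b))) (by
    intro r hr
    have e : FreeGroup.lift (fun b => PresentedGroup.mk rels (FreeGroup.of (ι b))) =
        (PresentedGroup.mk rels).comp (FreeGroup.map ι) := by
      ext b
      simp
    rw [e]
    exact h r hr)

theorem subHom_of (ι : β → α) (rels' : Set (FreeGroup β)) (rels : Set (FreeGroup α))
    (h : ∀ r ∈ rels', PresentedGroup.mk rels (FreeGroup.map ι r) = 1) (b : β) :
    subHom ι rels' rels h (PresentedGroup.of b) = PresentedGroup.mk rels (FreeGroup.of (ι b)) := by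
  unfold subHom
  rw [PresentedGroup.toGroup.of]

theorem subHom_range (ι : β → α) (rels' : Set (FreeGroup β)) (rels : Set (FreeGroup α))
    (h : ∀ r ∈ rels', PresentedGroup.mk rels (FreeGroup.map ι r) = 1)
    (Y : Set (FreeGroup α)) (hY : Y = Set.range (fun b => FreeGroup.of (ι b))) :
    (subHom ι rels' rels h).range = HH rels Y := by
  rw [MonoidHom.range_eq_map, ← PresentedGroup.closure_range_of rels', MonoidHom.map_closure]
  unfold HH
  rw [MonoidHom.map_closure, hY]
  congr 1
  ext g
  constructor
  · rintro ⟨_, ⟨b, rfl⟩, rfl⟩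
    exact ⟨FreeGroup.of (ι b), ⟨b, rfl⟩, (subHom_of ι rels' rels h b).symm⟩
  · rintro ⟨_, ⟨b, rfl⟩, rfl⟩
    exact ⟨PresentedGroup.of b, ⟨b, rfl⟩, subHom_of ι rels' rels h b⟩

/-- one link of the chain: a subgroup of index `n` that is the image of a group of order at most `m` -/
theorem card_le_of_link (ι : β → α) (rels' : Set (FreeGroup β)) (rels : Set (FreeGroup α))
    (h : ∀ r ∈ rels', PresentedGroup.mk rels (FreeGroup.map ι r) = 1)
    (Y : Set (FreeGroup α)) (hY : Y = Set.range (fun b => FreeGroup.of (ι b)))
    (n m : ℕ) (hn : 0 < n) (hidx : (HH rels Y).index = n)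
    (hfin : Finite (PresentedGroup rels')) (hm : Nat.card (PresentedGroup rels') ≤ m) :
    Finite (PresentedGroup rels) ∧ Nat.card (PresentedGroup rels) ≤ n * m ∧
      Nat.card (PresentedGroup rels) = n * Nat.card (HH rels Y) := by
  have hr := subHom_range ι rels' rels h Y hY
  have hsurj : Function.Surjective (subHom ι rels' rels h).rangeRestrict :=
    MonoidHom.rangeRestrict_surjective _
  have hfinR : Finite (subHom ι rels' rels h).range := Finite.of_surjective _ hsurj
  have hcardR : Nat.card (subHom ι rels' rels h).range ≤ Nat.card (PresentedGroup rels') :=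
    Nat.card_le_card_of_surjective _ hsurj
  rw [hr] at hfinR hcardR
  have hmul := Subgroup.card_mul_index (HH rels Y)
  rw [hidx] at hmul
  have hpos : 0 < Nat.card (HH rels Y) := Nat.card_pos
  have hG : Nat.card (PresentedGroup rels) ≠ 0 := by
    rw [← hmul]; exact Nat.mul_ne_zero (by omega) (by omega)
  refine ⟨Nat.finite_of_card_ne_zero hG, ?_, ?_⟩
  · rw [← hmul, mul_comm]
    exact Nat.mul_le_mul_left _ (le_trans hcardR hm)
  · rw [← hmul, mul_comm]

/-- the bottom of the chain: the index of the trivial subgroup is the order -/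
theorem card_of_index_bot (rels : Set (FreeGroup α)) (Y : Set (FreeGroup α)) (hY : Y = ∅) (n : ℕ)
    (hn : 0 < n) (hidx : (HH rels Y).index = n) :
    Finite (PresentedGroup rels) ∧ Nat.card (PresentedGroup rels) = n := by
  have hb : HH rels Y = ⊥ := by
    unfold HH
    rw [hY, Subgroup.closure_empty, Subgroup.map_bot]
  rw [hb, Subgroup.index_bot] at hidx
  exact ⟨Nat.finite_of_card_ne_zero (by omega), hidx⟩

/-- if the group collapses when `x` is added as a relator, the normal closure of `x` is everything -/
theorem normal_eq_top_of_collapse (rels rels' : Set (FreeGroup α)) (x : FreeGroup α)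
    (hsub : ∀ r ∈ rels', r ∈ rels ∨ r = x) (hQ : Subsingleton (PresentedGroup rels'))
    (N : Subgroup (PresentedGroup rels)) (hN : N.Normal) (hx : PresentedGroup.mk rels x ∈ N) :
    N = ⊤ := by
  let π : PresentedGroup rels →* (PresentedGroup rels ⧸ N) := QuotientGroup.mk' N
  have e : FreeGroup.lift (fun a => π (PresentedGroup.mk rels (FreeGroup.of a))) =
      π.comp (PresentedGroup.mk rels) := by
    ext a
    simp
  let ψ : PresentedGroup rels' →* (PresentedGroup rels ⧸ N) :=
    PresentedGroup.toGroup (f := fun a => π (PresentedGroup.mk rels (FreeGroup.of a))) (by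
      intro r hr
      rw [e]
      rcases hsub r hr with h1 | rfl
      · show π (PresentedGroup.mk rels r) = 1
        rw [(PresentedGroup.mk_eq_one_iff).mpr (Subgroup.subset_normalClosure h1), map_one]
      · show π (PresentedGroup.mk rels r) = 1
        exact (QuotientGroup.eq_one_iff _).mpr hx)
  have hψ : ∀ w : FreeGroup α, ψ (PresentedGroup.mk rels' w) = π (PresentedGroup.mk rels w) := by
    intro w
    have : ψ.comp (PresentedGroup.mk rels') = π.comp (PresentedGroup.mk rels) := by
      ext a
      show ψ (PresentedGroup.of a) = _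
      rw [PresentedGroup.toGroup.of]
      rfl
    exact DFunLike.congr_fun this w
  rw [eq_top_iff]
  intro g _
  obtain ⟨w, rfl⟩ := PresentedGroup.mk_surjective rels g
  have h1 : π (PresentedGroup.mk rels w) = 1 := by
    rw [← hψ, Subsingleton.elim (PresentedGroup.mk rels' w) 1, map_one]
  exact (QuotientGroup.eq_one_iff _).mp h1

theorem subsingleton_of_index_bot (rels : Set (FreeGroup α)) (Y : Set (FreeGroup α)) (hY : Y = ∅)
    (hidx : (HH rels Y).index = 1) : Subsingleton (PresentedGroup rels) := by
  obtain ⟨hf, hc⟩ := card_of_index_bot rels Y hY 1 (by omega) hidx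
  exact (Nat.card_eq_one_iff_unique.mp hc).1

end Sub

section SubDiagram

variable {α β : Type} [DecidableEq α] [DecidableEq β]

/-- the relators of a sub-diagram presentation hold in the big group -/
theorem subdiagram_rels (ι : β → α) (edges' : List (β × ℕ × β)) (extra' : List (FreeGroup β))
    (edges : List (α × ℕ × α)) (extra : List (FreeGroup α))
    (hcox : ∀ x ∈ coxNodes edges', ∀ y ∈ coxNodes edges',
      ι x ∈ coxNodes edges ∧ ι y ∈ coxNodes edges ∧ coxLabel edges' x y = coxLabel edges (ι x) (ι y))
    (hextra : ∀ r ∈ extra', FreeGroup.map ι r ∈ coxRels edges extra) :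
    ∀ r ∈ coxRels edges' extra', PresentedGroup.mk (coxRels edges extra) (FreeGroup.map ι r) = 1 := by
  intro r hr
  rw [PresentedGroup.mk_eq_one_iff]
  apply Subgroup.subset_normalClosure
  rcases hr with hr | hr
  · obtain ⟨x, hx, y, hy, rfl⟩ := hr
    obtain ⟨h1, h2, h3⟩ := hcox x hx y hy
    left
    refine ⟨ι x, h1, ι y, h2, ?_⟩
    rw [map_pow, map_mul, FreeGroup.map.of, FreeGroup.map.of, h3]
  · exact hextra r hr

end SubDiagram

end Cfsg.Agent.Helper28
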