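import Cfsg.Agent.Helper28.CosetChain
import Cfsg.Agent.Helper28.SimpleCrit
import Cfsg.Agent.Helper28.SubPres

set_option autoImplicit false

/-!
# Order and simplicity of a presented group from a coset table, a stabiliser chain and an order bound
-/

namespace Cfsg.Agent.Helper28

section

variable {α : Type} (rels : Set (FreeGroup α)) (gen : Nat → α) (idx : α → Nat) (ngen : Nat)
variable (P : PTabs) (hinv : invOk P = true) (hL : P.L = 2 * ngen)
variable (hrels : ∀ r ∈ rels, rhoF idx ngen P hinv hL r = 1)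

theorem rhoG_range : (rhoG rels idx ngen P hinv hL hrels).range = KK idx ngen P hinv hL := by
  ext σ
  constructor
  · rintro ⟨g, rfl⟩
    obtain ⟨w, rfl⟩ := PresentedGroup.mk_surjective rels g
    exact ⟨w, rfl⟩
  · rintro ⟨w, rfl⟩
    exact ⟨PresentedGroup.mk rels w, rfl⟩

/-- the order is exactly `N` and the action is faithful -/
theorem card_eq_and_injective (N : ℕ) (hfin : Finite (PresentedGroup rels))
    (hub : Nat.card (PresentedGroup rels) ≤ N) (hlb : N ≤ Nat.card ↥(KK idx ngen P hinv hL)) :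
    Nat.card (PresentedGroup rels) = N ∧ Function.Injective (rhoG rels idx ngen P hinv hL hrels) := by
  have hsurj : Function.Surjective (rhoG rels idx ngen P hinv hL hrels).rangeRestrict :=
    MonoidHom.rangeRestrict_surjective _
  have h1 : Nat.card (rhoG rels idx ngen P hinv hL hrels).range ≤ Nat.card (PresentedGroup rels) :=
    Nat.card_le_card_of_surjective _ hsurj
  rw [rhoG_range] at h1
  have hN : Nat.card (PresentedGroup rels) = N := le_antisymm hub (le_trans hlb h1)
  refine ⟨hN, ?_⟩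
  have hbij : Function.Bijective (rhoG rels idx ngen P hinv hL hrels).rangeRestrict := by
    rw [Nat.bijective_iff_surjective_and_card]
    refine ⟨hsurj, ?_⟩
    rw [rhoG_range]
    omega
  intro a b hab
  apply hbij.1
  exact Subtype.ext hab

/-- simplicity from the coset table, two levels of orbit records and a normally generating element -/
theorem simple_of_chain (N : ℕ) (hfin : Finite (PresentedGroup rels))
    (hcard : Nat.card (PresentedGroup rels) = N)
    (hinj : Function.Injective (rhoG rels idx ngen P hinv hL hrels))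
    (hig : ∀ k, k < ngen → idx (gen k) = k) (hn : 0 < P.n)
    (ws1 : Nat → List Nat) (nw1 : Nat) (hlet1 : lettersOkW ws1 nw1 P.L = true)
    (hfix1 : fixOkW ws1 nw1 P [] = true) (orb1 : Nat → Nat) (hok1 : checkOrbW ws1 nw1 P orb1 = true)
    (hroot1 : allLt (fun i => Nat.beq (oRoot (orb1 i)) 0) P.n = true)
    (ws2 : Nat → List Nat) (nw2 : Nat) (hlet2 : lettersOkW ws2 nw2 P.L = true)
    (hfix2 : fixOkW ws2 nw2 P [0] = true) (orb2 : Nat → Nat) (hok2 : checkOrbW ws2 nw2 P orb2 = true)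
    (roots : Finset ℕ) (hroots : ∀ i, i < P.n → oRoot (orb2 i) ∈ roots)
    (sz : ℕ → ℕ) (hsz : ∀ t ∈ roots, countEq (fun j => oRoot (orb2 j)) t P.n = sz t)
    (h0 : oRoot (orb2 0) = 0) (hsz0 : sz 0 = 1)
    (hdiv : ∀ T ∈ roots.powerset, 0 ∈ T → (∑ t ∈ T, sz t) ∣ P.n → T = {0} ∨ T = roots)
    (xw : FreeGroup α) (p : ℕ) (wp : List Nat) (hwp : ev gen ngen wp = xw ^ p)
    (hletp : ∀ l ∈ wp, l < P.L) (hrelp : relOk P wp 0 P.n = true)
    (hcop : Nat.Coprime p (N / P.n))
    (hnc : ∀ Nn : Subgroup (PresentedGroup rels), Nn.Normal → PresentedGroup.mk rels xw ∈ Nn → Nn = ⊤)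
    (hN1 : 1 < N) : IsSimpleGroup (PresentedGroup rels) := by
  set ρ := rhoG rels idx ngen P hinv hL hrels with hρ
  letI : MulAction (PresentedGroup rels) (Fin P.n) := MulAction.compHom (Fin P.n) ρ
  have hsmul : ∀ (g : PresentedGroup rels) (i : Fin P.n), g • i = ρ g i := fun _ _ => rfl
  haveI : FaithfulSMul (PresentedGroup rels) (Fin P.n) :=
    ⟨fun {g h} H => hinj (Equiv.ext (fun a => by rw [← hsmul, ← hsmul]; exact H a))⟩
  have hKK : ∀ σ ∈ KK idx ngen P hinv hL, ∃ g : PresentedGroup rels, ρ g = σ := by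
    rintro σ ⟨w, rfl⟩
    exact ⟨PresentedGroup.mk rels w, rfl⟩
  have h00 : 0 ∈ roots := by rw [← h0]; exact hroots 0 hn
  refine isSimpleGroup_of_fibres (G := PresentedGroup rels) (X := Fin P.n) ⟨0, hn⟩ ?_
    (fun i => oRoot (orb2 i.val)) ?_ ?_ roots (fun δ => hroots δ.val δ.2) sz ?_ ?_
    (PresentedGroup.mk rels xw) p ?_ ?_ hnc ?_
  · -- transitivity
    intro δ
    obtain ⟨σ, hσ, k, hk, hkδ⟩ := level_reach gen idx ngen P hinv hL hig ws1 nw1 hlet1 [] hfix1 orb1 hok1 δ
    obtain ⟨g, rfl⟩ := hKK σ hσ.1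
    refine ⟨g, ?_⟩
    rw [hsmul]
    have : k = ⟨0, hn⟩ := by
      apply Fin.ext
      rw [hk]
      have := allLt_sound _ _ hroot1 δ.val δ.2
      rwa [nbeq_eq] at this
    rw [← this]
    exact hkδ
  · -- the fibres are connected by the stabiliser
    intro δ δ' hdd
    obtain ⟨σ, hσ, k, hk, hkδ⟩ := level_reach gen idx ngen P hinv hL hig ws2 nw2 hlet2 [0] hfix2 orb2 hok2 δ
    obtain ⟨σ', hσ', k', hk', hkδ'⟩ :=
      level_reach gen idx ngen P hinv hL hig ws2 nw2 hlet2 [0] hfix2 orb2 hok2 δ'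
    have hkk : k = k' := by
      apply Fin.ext
      rw [hk, hk']
      exact hdd
    have hmem := Subgroup.mul_mem _ hσ' (Subgroup.inv_mem _ hσ)
    obtain ⟨g, hg⟩ := hKK _ hmem.1
    refine ⟨g, ?_, ?_⟩
    · rw [hsmul, hg]
      exact hmem.2 0 (by simp) hn
    · rw [hsmul, hg, Equiv.Perm.mul_apply, ← hkδ, perm_inv_apply_self, hkk, hkδ']
  · -- the fibre of the base point
    intro δ hδ
    have hδ' : oRoot (orb2 δ.val) = 0 := by rw [hδ]; exact h0
    exact eq_of_countEq_one (fun j => oRoot (orb2 j)) 0 P.n (by rw [hsz 0 h00, hsz0]) δ ⟨0, hn⟩ hδ' h0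
  · intro t ht
    rw [card_filter_eq_countEq (fun j => oRoot (orb2 j)) t P.n]
    exact hsz t ht
  · intro T hT h0T hd
    have h0T' : 0 ∈ T := by rw [← h0]; exact h0T
    rw [Fintype.card_fin] at hd
    rcases hdiv T hT h0T' hd with h | h
    · left; rw [h]; show {0} = {oRoot (orb2 0)}; rw [h0]
    · right; exact h
  · -- `x ^ p = 1`
    apply hinj
    rw [map_pow, map_one]
    show (rhoF idx ngen P hinv hL xw) ^ p = 1
    rw [← map_pow, ← hwp]
    exact rhoF_ev_eq_one gen idx ngen P hinv hL hig wp hletp hrelp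
  · rw [hcard, Fintype.card_fin]
    exact hcop
  · rw [← Finite.one_lt_card_iff_nontrivial, hcard]
    exact hN1

end

end Cfsg.Agent.Helper28
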