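import Mathlib

set_option autoImplicit false

/-!
# A simplicity criterion for finite permutation groups (variant allowing unions of fibres of half size)

`G` acts faithfully and transitively on `X`; the orbits of a point stabiliser are the fibres of `root`.
If no union of fibres containing `α`, other than `{α}` and `X`, has a size dividing `|X|` (so the action is
primitive), and an element `x` with `x ^ p = 1`, `p` coprime to `|G| / |X|`, normally generates `G`,
then `G` is simple.
-/

namespace Cfsg.Agent.Helper28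

open MulAction
open scoped Pointwise

theorem isSimpleGroup_of_fibres_half {G X : Type*} [Group G] [Finite G] [Fintype X] [DecidableEq X]
    [MulAction G X] [FaithfulSMul G X]
    (α : X) (htr : ∀ δ : X, ∃ g : G, g • α = δ)
    (root : X → ℕ)
    (hconn : ∀ δ δ' : X, root δ = root δ' → ∃ h : G, h • α = α ∧ h • δ = δ')
    (hα : ∀ δ, root δ = root α → δ = α)
    (roots : Finset ℕ) (hroots : ∀ δ, root δ ∈ roots)
    (sz : ℕ → ℕ) (hsz : ∀ t ∈ roots, (Finset.univ.filter (fun δ => root δ = t)).card = sz t)
    (hdiv : ∀ T ∈ roots.powerset, root α ∈ T → (∑ t ∈ T, sz t) ∣ Fintype.card X →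
      T = {root α} ∨ T = roots ∨ 2 * (∑ t ∈ T, sz t) = Fintype.card X)
    (x : G) (p : ℕ) (hp2 : p % 2 = 1) (hx : x ^ p = 1) (hcop : Nat.Coprime p (Nat.card G / Fintype.card X))
    (hnc : ∀ N : Subgroup G, N.Normal → x ∈ N → N = ⊤)
    (hnt : Nontrivial G) : IsSimpleGroup G := by
  classical
  have : IsPretransitive G X := ⟨fun y z => by
    obtain ⟨g, hg⟩ := htr y
    obtain ⟨h, hh⟩ := htr z
    exact ⟨h * g⁻¹, by rw [mul_smul, ← hg, inv_smul_smul, hh]⟩⟩
  refine { exists_pair_ne := hnt.exists_pair_ne, eq_bot_or_eq_top_of_normal := ?_ }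
  intro N hN
  by_contra hcon
  push Not at hcon
  obtain ⟨hNbot, hNtop⟩ := hcon
  set B : Set X := orbit N α with hB
  have hαB : α ∈ B := mem_orbit_self α
  have hblock : IsBlock G B := IsBlock.orbit_of_normal α
  have hdvd : B.ncard ∣ Fintype.card X := by
    have := hblock.ncard_dvd_card ⟨α, hαB⟩
    rwa [Nat.card_eq_fintype_card] at this
  have hinv : ∀ h : G, h • α = α → ∀ y ∈ B, h • y ∈ B := by
    intro h hh y hy
    obtain ⟨⟨m, hm⟩, rfl⟩ := hy
    refine ⟨⟨h * m * h⁻¹, hN.conj_mem m hm h⟩, ?_⟩
    show (h * m * h⁻¹) • α = h • (m • α)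
    have : h⁻¹ • α = α := by rw [inv_smul_eq_iff, hh]
    rw [mul_smul, mul_smul, this]
  -- `B` is a union of fibres
  have hfull : ∀ y ∈ B, ∀ δ, root δ = root y → δ ∈ B := by
    intro y hy δ hδ
    obtain ⟨h, hh, rfl⟩ := hconn y δ hδ.symm
    exact hinv h hh y hy
  let Bf : Finset X := Finset.univ.filter (fun y => y ∈ B)
  have hBf : ∀ y, y ∈ Bf ↔ y ∈ B := by intro y; simp [Bf]
  have hBfc : Bf.card = B.ncard := by
    rw [← Set.ncard_coe_finset]
    congr 1
    ext y
    simp [Bf]
  let T : Finset ℕ := Bf.image root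
  have hTsub : T ∈ roots.powerset := by
    rw [Finset.mem_powerset]
    intro t ht
    obtain ⟨y, -, rfl⟩ := Finset.mem_image.mp ht
    exact hroots y
  have hαT : root α ∈ T := Finset.mem_image.mpr ⟨α, (hBf α).mpr hαB, rfl⟩
  have hcard : Bf.card = ∑ t ∈ T, sz t := by
    rw [Finset.card_eq_sum_card_fiberwise (f := root) (t := T)
      (fun y hy => Finset.mem_image.mpr ⟨y, hy, rfl⟩)]
    apply Finset.sum_congr rfl
    intro t ht
    rw [← hsz t (Finset.mem_powerset.mp hTsub ht)]
    congr 1
    ext δ
    simp only [Finset.mem_filter, Finset.mem_univ, true_and]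
    constructor
    · exact fun h => h.2
    · intro hδ
      obtain ⟨y, hy, hyt⟩ := Finset.mem_image.mp ht
      exact ⟨(hBf δ).mpr (hfull y ((hBf y).mp hy) δ (by rw [hδ, hyt])), hδ⟩
  rcases hdiv T hTsub hαT (by rw [← hcard, hBfc]; exact hdvd) with hT | hT | hT
  rotate_left 2
  · -- `B` is one of two blocks: its stabiliser has index two and contains `x`
    exfalso
    rw [← hcard, hBfc] at hT
    have hmul := hblock.ncard_block_mul_ncard_orbit_eq ⟨α, hαB⟩
    rw [Nat.card_eq_fintype_card, ← hT] at hmul
    have hBpos : 0 < B.ncard := by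
      rw [Set.ncard_pos (Set.toFinite B)]
      exact ⟨α, hαB⟩
    have horb : (orbit G B).ncard = 2 := by
      have : B.ncard * (orbit G B).ncard = B.ncard * 2 := by rw [hmul]; ring
      exact Nat.eq_of_mul_eq_mul_left hBpos this
    have hidx : (stabilizer G B).index = 2 := by rw [index_stabilizer, horb]
    have hKn : (stabilizer G B).Normal := Subgroup.normal_of_index_eq_two hidx
    have hx2 : x ^ 2 ∈ stabilizer G B := by
      have := Subgroup.pow_index_mem (stabilizer G B) x
      rwa [hidx] at this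
    have hxK : x ∈ stabilizer G B := by
      have h1 : x ^ (2 * (p / 2)) ∈ stabilizer G B := by
        rw [pow_mul]
        exact Subgroup.pow_mem _ hx2 _
      have h2 : x = x ^ p * (x ^ (2 * (p / 2)))⁻¹ := by
        have hp : p = 2 * (p / 2) + 1 := by omega
        have h3 : x ^ p = x * x ^ (2 * (p / 2)) := by
          conv_lhs => rw [hp]
          rw [pow_succ']
        rw [h3, mul_inv_cancel_right]
      rw [h2, hx, one_mul]
      exact Subgroup.inv_mem _ h1
    have htop := hnc (stabilizer G B) hKn hxK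
    rw [htop, Subgroup.index_top] at hidx
    omega
  · -- `N` fixes `α`, hence everything
    have hfixα : ∀ m ∈ N, m • α = α := by
      intro m hm
      have hmB : m • α ∈ B := ⟨⟨m, hm⟩, rfl⟩
      have : root (m • α) ∈ T := Finset.mem_image.mpr ⟨_, (hBf _).mpr hmB, rfl⟩
      rw [hT, Finset.mem_singleton] at this
      exact hα _ this
    apply hNbot
    rw [eq_bot_iff]
    intro m hm
    rw [Subgroup.mem_bot]
    apply FaithfulSMul.eq_of_smul_eq_smul (α := X)
    intro δ
    obtain ⟨g, rfl⟩ := htr δ
    rw [one_smul]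
    have h5 : (g⁻¹ * m * g⁻¹⁻¹) • α = α := hfixα _ (hN.conj_mem m hm g⁻¹)
    rw [inv_inv, mul_smul, mul_smul, inv_smul_eq_iff] at h5
    exact h5
  · -- `B = univ`
    have hBuniv : B = Set.univ := by
      ext y
      simp only [Set.mem_univ, iff_true]
      have : root y ∈ T := by rw [hT]; exact hroots y
      obtain ⟨z, hz, hzy⟩ := Finset.mem_image.mp this
      exact hfull z ((hBf z).mp hz) y hzy.symm
    have hcardN : Fintype.card X ∣ Nat.card N := by
      have h3 : (stabilizer N α).index = B.ncard := index_stabilizer N α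
      rw [hBuniv, Set.ncard_univ, Nat.card_eq_fintype_card] at h3
      rw [← h3]
      exact Subgroup.index_dvd_card _
    have hidx : N.index ∣ Nat.card G / Fintype.card X := by
      obtain ⟨t, ht⟩ := hcardN
      have h4 : Nat.card N * N.index = Nat.card G := Subgroup.card_mul_index N
      have hpos : 0 < Fintype.card X := Fintype.card_pos_iff.mpr ⟨α⟩
      refine ⟨t, ?_⟩
      rw [← h4, ht]
      rw [mul_assoc, Nat.mul_div_cancel_left _ hpos, mul_comm]
    have hcop' : Nat.Coprime p N.index := Nat.Coprime.coprime_dvd_right hidx hcop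
    have hxN : x ∈ N := by
      have e1 : (QuotientGroup.mk x : G ⧸ N) ^ p = 1 := by
        rw [← QuotientGroup.mk_pow, hx, QuotientGroup.mk_one]
      have e2 : (QuotientGroup.mk x : G ⧸ N) ^ N.index = 1 := by
        rw [← QuotientGroup.mk_pow]
        exact (QuotientGroup.eq_one_iff _).mpr (Subgroup.pow_index_mem N x)
      have hd : orderOf (QuotientGroup.mk x : G ⧸ N) ∣ Nat.gcd p N.index :=
        Nat.dvd_gcd (orderOf_dvd_of_pow_eq_one e1) (orderOf_dvd_of_pow_eq_one e2)
      rw [hcop'] at hd
      exact (QuotientGroup.eq_one_iff x).mp (orderOf_eq_one_iff.mp (Nat.dvd_one.mp hd))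
    exact hNtop (hnc N hN hxN)

end Cfsg.Agent.Helper28
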