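import Cfsg.Agent.Helper28.CosetOrbit

set_option autoImplicit false

/-!
# Certificates in pieces

Threshold tries (one comparison per level), checks over ranges of indices, and lemmas that assemble the
pieces, so that every kernel computation stays small in time and memory.
-/

namespace Cfsg.Agent.Helper28

/-- binary search trie with natural-number leaves: `node mid l r` sends indices `< mid` to `l` -/
inductive BTr where
  | leaf (v : Nat)
  | node (mid : Nat) (l r : BTr)

/-- the leaf responsible for the index `i` -/
noncomputable def BTr.get (t : BTr) : Nat → Nat :=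
  BTr.rec (motive := fun _ => Nat → Nat) (fun v _ => v)
    (fun mid _ _ ihl ihr i => Bool.rec (motive := fun _ => Nat) (ihr i) (ihl i) (Nat.blt i mid)) t

/-- entry `i` of a packed table whose leaves hold `2^e` entries of `b` bits each
(`em = 2^e - 1`, `bm = 2^b - 1`) -/
noncomputable def BTr.look (t : BTr) (em b bm i : Nat) : Nat :=
  Nat.land (Nat.shiftRight (t.get i) (Nat.mul b (Nat.land i em))) bm

/-- binary search trie with tries at the leaves -/
inductive LTr where
  | leaf (t : BTr)
  | node (mid : Nat) (l r : LTr)

/-- the trie responsible for the index `i` -/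
noncomputable def LTr.get (t : LTr) : Nat → BTr :=
  LTr.rec (motive := fun _ => Nat → BTr) (fun v _ => v)
    (fun mid _ _ ihl ihr i => Bool.rec (motive := fun _ => BTr) (ihr i) (ihl i) (Nat.blt i mid)) t

/-! ## Ranges -/

/-- `f i = true` for `lo ≤ i < lo + cnt` -/
noncomputable def allLtFrom (f : Nat → Bool) (lo cnt : Nat) : Bool := allLt (fun i => f (Nat.add lo i)) cnt

theorem allLtFrom_sound (f : Nat → Bool) (lo cnt : Nat) (h : allLtFrom f lo cnt = true) :
    ∀ i, lo ≤ i → i < lo + cnt → f i = true := by
  intro i h1 h2
  have := allLt_sound _ _ h (i - lo) (by omega)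
  have e : Nat.add lo (i - lo) = i := by show lo + (i - lo) = i; omega
  rw [e] at this
  exact this

theorem allLt_complete (f : Nat → Bool) (n : Nat) (h : ∀ i, i < n → f i = true) : allLt f n = true := by
  induction n with
  | zero => rfl
  | succ k ih =>
    show (Bool.rec (motive := fun _ => Bool) false (allLt f k) (f k) : Bool) = true
    rw [h k (by omega)]
    exact ih (fun i hi => h i (by omega))

theorem allLt_extend (f : Nat → Bool) (lo cnt hi : Nat) (hhi : lo + cnt = hi)
    (h1 : allLt f lo = true) (h2 : allLtFrom f lo cnt = true) : allLt f hi = true := by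
  apply allLt_complete
  intro i hi'
  by_cases c : i < lo
  · exact allLt_sound _ _ h1 i c
  · exact allLtFrom_sound _ _ _ h2 i (by omega) (by omega)

theorem allLt_zero (f : Nat → Bool) : allLt f 0 = true := rfl

/-! ## Tracing words through threshold tries -/

/-- trace a word given as the list of the tries of its letters -/
noncomputable def traceB (em b bm : Nat) (ts : List BTr) : Nat → Nat :=
  List.rec (motive := fun _ => Nat → Nat) (fun i => i)
    (fun t _ ih i => ih (t.look em b bm i)) ts

theorem trace_eq_traceB (perm : Nat → Nat → Nat) (tab : Nat → BTr) (em b bm : Nat)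
    (hperm : ∀ l i, perm l i = (tab l).look em b bm i) (w : List Nat) :
    ∀ i, trace perm w i = traceB em b bm (w.map tab) i := by
  induction w with
  | nil => intro i; rfl
  | cons l w ih =>
    intro i
    show trace perm w (perm l i) = traceB em b bm (w.map tab) ((tab l).look em b bm i)
    rw [ih, hperm]

/-- the relators `rlo ≤ r < rlo + rcnt` fix the points `plo ≤ i < plo + pcnt` -/
noncomputable def permPiece (word : Nat → List Nat) (tab : Nat → BTr) (em b bm rlo rcnt plo pcnt : Nat) : Bool :=
  allLtFrom (fun r => allLtFrom (fun i => Nat.beq (traceB em b bm ((word r).map tab) i) i) plo pcnt) rlo rcnt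

/-- the relators `rlo ≤ r < rlo + rcnt` fix all points `< hi` -/
def TraceFix (perm : Nat → Nat → Nat) (word : Nat → List Nat) (rlo rcnt hi : Nat) : Prop :=
  ∀ r, rlo ≤ r → r < rlo + rcnt → ∀ i, i < hi → trace perm (word r) i = i

theorem traceFix_zero (perm : Nat → Nat → Nat) (word : Nat → List Nat) (rlo rcnt : Nat) :
    TraceFix perm word rlo rcnt 0 := fun _ _ _ i hi => absurd hi (Nat.not_lt_zero i)

theorem traceFix_extend (perm : Nat → Nat → Nat) (word : Nat → List Nat) (tab : Nat → BTr) (em b bm : Nat)
    (hperm : ∀ l i, perm l i = (tab l).look em b bm i) (rlo rcnt lo cnt hi : Nat) (hhi : lo + cnt = hi)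
    (h1 : TraceFix perm word rlo rcnt lo) (h2 : permPiece word tab em b bm rlo rcnt lo cnt = true) :
    TraceFix perm word rlo rcnt hi := by
  intro r hr1 hr2 i hi'
  by_cases c : i < lo
  · exact h1 r hr1 hr2 i c
  · have h3 := allLtFrom_sound _ _ _ h2 r hr1 hr2
    have h4 := allLtFrom_sound _ _ _ h3 i (by omega) (by omega)
    rw [nbeq_eq] at h4
    rw [trace_eq_traceB perm tab em b bm hperm]
    exact h4

theorem relOk_of_traceFix (P : PTabs) (word : Nat → List Nat) (rlo rcnt : Nat)
    (h : TraceFix P.perm word rlo rcnt P.n) :
    ∀ r, rlo ≤ r → r < rlo + rcnt → relOk P (word r) 0 P.n = true := by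
  intro r h1 h2
  apply allLt_complete
  intro i hi
  rw [nbeq_eq]
  have e : Nat.add 0 i = i := by show 0 + i = i; omega
  rw [e]
  exact h r h1 h2 i hi

/-! ## Row forms of the table checks -/

/-- the final table entries of the point `i` are proved facts -/
noncomputable def finRow (T : Tabs) (P : PTabs) (F i : Nat) : Bool := allLt (fun l => finOk T P F i l) P.L

theorem checkFin_eq (T : Tabs) (P : PTabs) (F : Nat) : checkFin T P F = allLt (finRow T P F) P.n := rfl

/-- the letter tables are inverse to each other at the point `i` -/
noncomputable def invRow (P : PTabs) (i : Nat) : Bool :=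
  allLt (fun l =>
    Bool.rec (motive := fun _ => Bool) false (Nat.beq (P.perm (flipL l) (P.perm l i)) i)
      (Nat.blt (P.perm l i) P.n)) P.L

theorem invOk_eq (P : PTabs) : invOk P = allLt (invRow P) P.n := rfl

/-- the parent pointer of the point `i` is correct -/
noncomputable def parRow (P : PTabs) (i : Nat) : Bool :=
  Bool.rec (motive := fun _ => Bool)
    (Bool.rec (motive := fun _ => Bool) false
      (Bool.rec (motive := fun _ => Bool) false
        (Nat.beq (P.perm (Nat.land (P.par i) 63) (Nat.shiftRight (P.par i) 6)) i)
        (Nat.blt (Nat.land (P.par i) 63) P.L))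
      (Nat.blt (Nat.shiftRight (P.par i) 6) i))
    true (Nat.beq i 0)

theorem parOk_eq (P : PTabs) : parOk P = allLt (parRow P) P.n := rfl

theorem checkDefs_eq (T : Tabs) : checkDefs T = allLt (defOk T) T.M := rfl

theorem checkOrb_eq (T : Tabs) (P : PTabs) (orb : Nat → Nat) : checkOrb T P orb = allLt (orbOk T P orb) P.n := rfl

end Cfsg.Agent.Helper28
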