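import Mathlib

set_option autoImplicit false

/-!
# Lower bounds for the order of a permutation group from a stabiliser chain

For a subgroup `K` of `Equiv.Perm (Fin n)` and a list `bs` of points (as natural numbers),
`K ⊓ fixAllN bs` is the pointwise stabiliser of `bs` in `K`.  Its order is the length of the orbit of a
further point `b` times the order of `K ⊓ fixAllN (b :: bs)`.
-/

namespace Cfsg.Agent.Helper28

variable {n : ℕ}

/-- the permutations fixing every point of a list of natural numbers -/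
def fixAllN (bs : List ℕ) : Subgroup (Equiv.Perm (Fin n)) where
  carrier := {σ | ∀ b ∈ bs, ∀ hb : b < n, σ ⟨b, hb⟩ = ⟨b, hb⟩}
  mul_mem' := by
    intro σ τ hσ hτ b hb hbn
    rw [Equiv.Perm.mul_apply, hτ b hb hbn, hσ b hb hbn]
  one_mem' := by intro b _ _; rfl
  inv_mem' := by
    intro σ hσ b hb hbn
    rw [Equiv.Perm.inv_eq_iff_eq]
    exact (hσ b hb hbn).symm

theorem mem_fixAllN (bs : List ℕ) (σ : Equiv.Perm (Fin n)) :
    σ ∈ fixAllN bs ↔ ∀ b ∈ bs, ∀ hb : b < n, σ ⟨b, hb⟩ = ⟨b, hb⟩ := Iff.rfl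

theorem fixAllN_nil : fixAllN ([] : List ℕ) = (⊤ : Subgroup (Equiv.Perm (Fin n))) := by
  ext σ
  simp [mem_fixAllN]

/-- the stabiliser of `b` in `K ⊓ fixAllN bs` is `K ⊓ fixAllN (b :: bs)` -/
def stabEquivN (K : Subgroup (Equiv.Perm (Fin n))) (bs : List ℕ) (b : ℕ) (hb : b < n) :
    MulAction.stabilizer (↥(K ⊓ fixAllN bs)) (⟨b, hb⟩ : Fin n) ≃ ↥(K ⊓ fixAllN (b :: bs)) where
  toFun σ := ⟨σ.1.1, ⟨σ.1.2.1, by
    intro c hc hcn
    rcases List.mem_cons.mp hc with rfl | hc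
    · exact σ.2
    · exact σ.1.2.2 c hc hcn⟩⟩
  invFun σ := ⟨⟨σ.1, ⟨σ.2.1, fun c hc hcn => σ.2.2 c (List.mem_cons_of_mem _ hc) hcn⟩⟩,
    σ.2.2 b List.mem_cons_self hb⟩
  left_inv σ := rfl
  right_inv σ := rfl

/-- one step of the stabiliser chain -/
theorem card_levelN (K : Subgroup (Equiv.Perm (Fin n))) (bs : List ℕ) (b : ℕ) (hb : b < n) :
    Nat.card ↥(K ⊓ fixAllN bs) =
      (MulAction.orbit (↥(K ⊓ fixAllN bs)) (⟨b, hb⟩ : Fin n)).ncard *
        Nat.card ↥(K ⊓ fixAllN (b :: bs)) := by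
  rw [← Nat.card_congr (stabEquivN K bs b hb), ← MulAction.index_stabilizer, mul_comm]
  exact (Subgroup.card_mul_index _).symm

theorem card_level0N (K : Subgroup (Equiv.Perm (Fin n))) :
    Nat.card ↥K = Nat.card ↥(K ⊓ fixAllN []) := by
  rw [fixAllN_nil, inf_top_eq]

/-- a set of points reached from `b` lies in the orbit -/
theorem card_le_orbit (L : Subgroup (Equiv.Perm (Fin n))) (b : Fin n) (S : Finset (Fin n))
    (h : ∀ j ∈ S, ∃ σ ∈ L, σ b = j) : S.card ≤ (MulAction.orbit (↥L) b).ncard := by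
  rw [← Set.ncard_coe_finset]
  apply Set.ncard_le_ncard _ (Set.toFinite _)
  intro j hj
  obtain ⟨σ, hσ, rfl⟩ := h j hj
  exact ⟨⟨σ, hσ⟩, rfl⟩

/-- one step of the chain as an inequality -/
theorem card_level_ge (K : Subgroup (Equiv.Perm (Fin n))) (bs : List ℕ) (b : ℕ) (hb : b < n)
    (S : Finset (Fin n)) (h : ∀ j ∈ S, ∃ σ ∈ K ⊓ fixAllN bs, σ ⟨b, hb⟩ = j) (m c : ℕ)
    (hm : m ≤ S.card) (hc : c ≤ Nat.card ↥(K ⊓ fixAllN (b :: bs))) :
    m * c ≤ Nat.card ↥(K ⊓ fixAllN bs) := by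
  rw [card_levelN K bs b hb]
  exact Nat.mul_le_mul (le_trans hm (card_le_orbit _ _ S h)) hc

theorem one_le_card_sub (L : Subgroup (Equiv.Perm (Fin n))) : 1 ≤ Nat.card ↥L :=
  Nat.card_pos

end Cfsg.Agent.Helper28
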