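import Cfsg.Agent.Helper28.CosetOrbit
import Cfsg.Agent.Helper28.PermChain

set_option autoImplicit false

/-!
# Stabiliser chains in the permutation group of a coset table

A level of the chain consists of words (in the letters of the table) fixing the earlier base points, and an
orbit record for every point: a point is its own root, or the image of a point of smaller depth with the same
root under one of the words.  The points with root `b` then lie in the orbit of `b` under the pointwise
stabiliser of the earlier base points.
-/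

namespace Cfsg.Agent.Helper28

/-- `f` holds for all members of a list -/
noncomputable def allL (f : Nat → Bool) (l : List Nat) : Bool :=
  List.rec (motive := fun _ => Bool) true (fun b _ ih => Bool.rec (motive := fun _ => Bool) false ih (f b)) l

theorem allL_sound (f : Nat → Bool) (l : List Nat) (h : allL f l = true) : ∀ b ∈ l, f b = true := by
  induction l with
  | nil => intro b hb; exact absurd hb (List.not_mem_nil)
  | cons a l ih =>
    intro b hb
    have h' : (Bool.rec (motive := fun _ => Bool) false (allL f l) (f a) : Bool) = true := h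
    obtain ⟨h1, h2⟩ := brec_false_true h'
    rcases List.mem_cons.mp hb with rfl | hb
    · exact h1
    · exact ih h2 b hb

/-- `f` holds for some member of a list -/
noncomputable def anyL (f : Nat → Bool) (l : List Nat) : Bool :=
  List.rec (motive := fun _ => Bool) false (fun b _ ih => Bool.rec (motive := fun _ => Bool) ih true (f b)) l

theorem anyL_sound (f : Nat → Bool) (l : List Nat) (h : anyL f l = true) : ∃ b ∈ l, f b = true := by
  induction l with
  | nil => exact absurd h (by simp [anyL])
  | cons a l ih =>
    have h' : (Bool.rec (motive := fun _ => Bool) (anyL f l) true (f a) : Bool) = true := h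
    cases ha : f a
    · rw [ha] at h'
      obtain ⟨b, hb, hfb⟩ := ih h'
      exact ⟨b, List.mem_cons_of_mem _ hb, hfb⟩
    · exact ⟨a, List.mem_cons_self, ha⟩

/-- all roots of the orbit records lie in a list -/
noncomputable def rootsOkW (orb : Nat → Nat) (rs : List Nat) (n : Nat) : Bool :=
  allLt (fun i => anyL (fun r => Nat.beq (oRoot (orb i)) r) rs) n

theorem rootsOkW_sound (orb : Nat → Nat) (rs : List Nat) (n : Nat) (h : rootsOkW orb rs n = true) :
    ∀ i, i < n → oRoot (orb i) ∈ rs.toFinset := by
  intro i hi
  obtain ⟨r, hr, hb⟩ := anyL_sound _ _ (allLt_sound _ _ h i hi)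
  rw [nbeq_eq] at hb
  rw [hb]
  exact List.mem_toFinset.mpr hr

/-- the orbit record of the point `i` at a level with words `ws 0, …, ws (nw - 1)` -/
noncomputable def orbOkW (ws : Nat → List Nat) (nw : Nat) (P : PTabs) (orb : Nat → Nat) (i : Nat) : Bool :=
  Bool.rec (motive := fun _ => Bool)
    (Bool.rec (motive := fun _ => Bool) false
      (Bool.rec (motive := fun _ => Bool) false
        (Bool.rec (motive := fun _ => Bool) false
          (Bool.rec (motive := fun _ => Bool) false
            (Nat.beq (oRoot (orb (oPar (orb i)))) (oRoot (orb i)))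
            (Nat.beq (trace P.perm (ws (oGen (orb i))) (oPar (orb i))) i))
          (Nat.blt (oDep (orb (oPar (orb i)))) (oDep (orb i))))
        (Nat.blt (oGen (orb i)) nw))
      (Nat.blt (oPar (orb i)) P.n))
    (Nat.beq (oRoot (orb i)) i)
    (Nat.beq (oDep (orb i)) 0)

/-- all orbit records of a level are correct -/
noncomputable def checkOrbW (ws : Nat → List Nat) (nw : Nat) (P : PTabs) (orb : Nat → Nat) : Bool :=
  allLt (orbOkW ws nw P orb) P.n

/-- all words of a level fix all earlier base points -/
noncomputable def fixOkW (ws : Nat → List Nat) (nw : Nat) (P : PTabs) (bs : List Nat) : Bool :=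
  allLt (fun s => allL (fun b => Nat.beq (trace P.perm (ws s) b) b) bs) nw

/-- all letters of the words of a level are letters of the table -/
noncomputable def lettersOkW (ws : Nat → List Nat) (nw : Nat) (L : Nat) : Bool :=
  allLt (fun s => allL (fun l => Nat.blt l L) (ws s)) nw

section Chain

variable {α : Type} (gen : Nat → α) (idx : α → Nat) (ngen : Nat)
variable (P : PTabs) (hinv : invOk P = true) (hL : P.L = 2 * ngen)

/-- the permutation group of the table -/
noncomputable abbrev KK : Subgroup (Equiv.Perm (Fin P.n)) := (rhoF idx ngen P hinv hL).range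

theorem level_reach (hig : ∀ k, k < ngen → idx (gen k) = k)
    (ws : Nat → List Nat) (nw : Nat) (hlet : lettersOkW ws nw P.L = true)
    (bs : List Nat) (hfix : fixOkW ws nw P bs = true)
    (orb : Nat → Nat) (hok : checkOrbW ws nw P orb = true) :
    ∀ i : Fin P.n, ∃ σ ∈ KK idx ngen P hinv hL ⊓ fixAllN bs, ∃ k : Fin P.n,
      k.val = oRoot (orb i.val) ∧ σ k = i := by
  have hlet' : ∀ s, s < nw → ∀ l ∈ ws s, l < P.L := by
    intro s hs l hl
    have := allL_sound _ _ (allLt_sound _ _ hlet s hs) l hl
    rwa [blt_eq] at this
  -- the level generators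
  have hgen : ∀ s, s < nw →
      (rhoF idx ngen P hinv hL (ev gen ngen (ws s)))⁻¹ ∈ KK idx ngen P hinv hL ⊓ fixAllN bs := by
    intro s hs
    refine ⟨Subgroup.inv_mem _ ⟨_, rfl⟩, ?_⟩
    intro b hb hbn
    apply Fin.ext
    rw [rhoF_ev_inv gen idx ngen P hinv hL hig (ws s) (hlet' s hs)]
    have := allL_sound _ _ (allLt_sound _ _ hfix s hs) b hb
    rwa [nbeq_eq] at this
  have hmain : ∀ d, ∀ i : Fin P.n, oDep (orb i.val) = d →
      ∃ σ ∈ KK idx ngen P hinv hL ⊓ fixAllN bs, ∃ k : Fin P.n,
        k.val = oRoot (orb i.val) ∧ σ k = i := by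
    intro d
    induction d using Nat.strong_induction_on with
    | _ d ih =>
      intro i hd
      have h1 := allLt_sound _ _ hok i.val i.2
      unfold orbOkW at h1
      rcases brec_cases h1 with ⟨-, h3⟩ | ⟨-, h3⟩
      · obtain ⟨hp, h3⟩ := brec_false_true h3
        obtain ⟨hs, h3⟩ := brec_false_true h3
        obtain ⟨hdep, h3⟩ := brec_false_true h3
        obtain ⟨htr, hrt⟩ := brec_false_true h3
        rw [blt_eq] at hp hs hdep
        rw [nbeq_eq] at htr hrt
        obtain ⟨σ', hσ', k, hk, hkp⟩ := ih _ (by rw [← hd]; exact hdep) ⟨oPar (orb i.val), hp⟩ rfl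
        refine ⟨(rhoF idx ngen P hinv hL (ev gen ngen (ws (oGen (orb i.val)))))⁻¹ * σ',
          Subgroup.mul_mem _ (hgen _ hs) hσ', k, by rw [hk, ← hrt], ?_⟩
        rw [Equiv.Perm.mul_apply, hkp]
        apply Fin.ext
        rw [rhoF_ev_inv gen idx ngen P hinv hL hig _ (hlet' _ hs)]
        exact htr
      · rw [nbeq_eq] at h3
        exact ⟨1, Subgroup.one_mem _, i, h3.symm, rfl⟩
  intro i
  exact hmain _ i rfl

/-- one level of the chain as an inequality of orders -/
theorem level_ge (hig : ∀ k, k < ngen → idx (gen k) = k)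
    (ws : Nat → List Nat) (nw : Nat) (hlet : lettersOkW ws nw P.L = true)
    (bs : List Nat) (hfix : fixOkW ws nw P bs = true)
    (orb : Nat → Nat) (hok : checkOrbW ws nw P orb = true)
    (b : Nat) (hb : b < P.n) (m c : ℕ)
    (hm : countEq (fun j => oRoot (orb j)) b P.n = m)
    (hc : c ≤ Nat.card ↥(KK idx ngen P hinv hL ⊓ fixAllN (b :: bs))) :
    m * c ≤ Nat.card ↥(KK idx ngen P hinv hL ⊓ fixAllN bs) := by
  apply card_level_ge (KK idx ngen P hinv hL) bs b hb
    (Finset.univ.filter (fun j : Fin P.n => oRoot (orb j.val) = b)) _ m c _ hc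
  · intro j hj
    obtain ⟨σ, hσ, k, hk, hkj⟩ := level_reach gen idx ngen P hinv hL hig ws nw hlet bs hfix orb hok j
    refine ⟨σ, hσ, ?_⟩
    have : k = ⟨b, hb⟩ := by
      apply Fin.ext
      rw [hk]
      exact (Finset.mem_filter.mp hj).2
    rw [← this]
    exact hkj
  · rw [card_filter_eq_countEq (fun j => oRoot (orb j)) b P.n, hm]

theorem eq_of_countEq_one (f : Nat → Nat) (r n : Nat) (h : countEq f r n = 1) (i j : Fin n)
    (hi : f i.val = r) (hj : f j.val = r) : i = j := by
  rw [← card_filter_eq_countEq f r n] at h
  have hi' : i ∈ Finset.univ.filter (fun j : Fin n => f j.val = r) := by simp [hi]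
  have hj' : j ∈ Finset.univ.filter (fun j : Fin n => f j.val = r) := by simp [hj]
  exact Finset.card_le_one.mp (le_of_eq h) i hi' j hj'

end Chain

end Cfsg.Agent.Helper28
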