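import Cfsg.Agent.Helper28.CosetBase

set_option autoImplicit false

/-!
# A kernel-evaluable checker for Todd–Coxeter proof certificates (upper bound part)

Pre-cosets are natural numbers `< M`; pre-coset `d ≥ 1` is *defined* as `parent d · letter d`, which fixes
a representative `rep d` in the group.  A *fact* `(c, x, d)` says `H · rep c · x = H · rep d`
(`x = 63` stands for the empty word).  Every fact is justified by a closed walk labelled by a relator
(or, from pre-coset `0`, by a subgroup generator) all of whose other edges are earlier facts or definitions.
-/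

namespace Cfsg.Agent.Helper28

/-! ## Packed tables -/

/-- binary trie with natural-number leaves; the index is consumed least significant bit first -/
inductive Tr where
  | leaf (v : Nat)
  | node (l r : Tr)

/-- the leaf with index `j` -/
noncomputable def Tr.get (t : Tr) : Nat → Nat :=
  Tr.rec (motive := fun _ => Nat → Nat) (fun v _ => v)
    (fun _ _ ihl ihr j => Bool.rec (motive := fun _ => Nat) (ihr (Nat.div j 2)) (ihl (Nat.div j 2))
      (Nat.beq (Nat.mod j 2) 0)) t

/-- entry `i` of a packed table whose leaves hold `2^e` entries of `b` bits each
(`em = 2^e - 1`, `bm = 2^b - 1`) -/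
noncomputable def Tr.look (t : Tr) (e em b bm i : Nat) : Nat :=
  Nat.land (Nat.shiftRight (t.get (Nat.shiftRight i e)) (Nat.mul b (Nat.land i em))) bm

/-- binary trie with words at the leaves -/
inductive WTr where
  | leaf (w : List Nat)
  | node (l r : WTr)

/-- the word with index `j` -/
noncomputable def WTr.get (t : WTr) : Nat → List Nat :=
  WTr.rec (motive := fun _ => Nat → List Nat) (fun w _ => w)
    (fun _ _ ihl ihr j => Bool.rec (motive := fun _ => List Nat) (ihr (Nat.div j 2)) (ihl (Nat.div j 2))
      (Nat.beq (Nat.mod j 2) 0)) t

/-! ## Letters -/

/-- the inverse letter: `2k ↔ 2k+1` -/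
noncomputable def flipL (l : Nat) : Nat :=
  Bool.rec (Nat.pred l) (Nat.succ l) (Nat.beq (Nat.mod l 2) 0)

/-- inverse of an edge label (`63` is the empty label) -/
noncomputable def invL (x : Nat) : Nat :=
  Bool.rec (flipL x) 63 (Nat.beq x 63)

/-! ## The static tables of a certificate -/

/-- static tables of a certificate (as functions; the packing is irrelevant for soundness) -/
structure Tabs where
  /-- number of pre-cosets -/
  M : Nat
  /-- number of subgroup generator words (they come first) -/
  nsub : Nat
  /-- number of words -/
  nwords : Nat
  /-- the words: subgroup generators, then relators -/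
  word : Nat → List Nat
  /-- packed definition of a pre-coset -/
  defn : Nat → Nat
  /-- packed fact -/
  fact : Nat → Nat

/-- parent of a packed definition -/
def dPar (v : Nat) : Nat := Nat.land v 1048575
/-- letter of a packed definition -/
def dLet (v : Nat) : Nat := Nat.land (Nat.shiftRight v 20) 63
/-- depth of a packed definition -/
def dDep (v : Nat) : Nat := Nat.shiftRight v 26
/-- source of a packed fact -/
def fC (v : Nat) : Nat := Nat.land v 1048575
/-- target of a packed fact -/
def fD (v : Nat) : Nat := Nat.land (Nat.shiftRight v 20) 1048575
/-- label of a packed fact -/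
def fL (v : Nat) : Nat := Nat.shiftRight v 40

/-! ## Walking -/

/-- result type of a walk -/
abbrev WRes := Option (Nat × List Nat)

/-- use the edge `a -x-> b` from `cur` along the word `w` -/
noncomputable def adv (a x b cur : Nat) (w : List Nat) : WRes :=
  Bool.rec (motive := fun _ => WRes) none
    (Bool.rec (motive := fun _ => WRes)
      (List.rec (motive := fun _ => WRes) none
        (fun y w' _ => Bool.rec (motive := fun _ => WRes) none (some (b, w')) (Nat.beq y x)) w)
      (some (b, w)) (Nat.beq x 63))
    (Nat.beq a cur)

/-- use the edge `a -x-> b` forwards (`dir = 0`) or backwards -/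
noncomputable def advDir (dir a x b cur : Nat) (w : List Nat) : WRes :=
  Bool.rec (motive := fun _ => WRes) (adv b (invL x) a cur w) (adv a x b cur w) (Nat.beq dir 0)

/-- one step: `s = id * 4 + kind * 2 + dir` -/
noncomputable def step1 (T : Tabs) (k s cur : Nat) (w : List Nat) : WRes :=
  Bool.rec (motive := fun _ => WRes)
    -- definition edge
    (Bool.rec (motive := fun _ => WRes) none
      (Bool.rec (motive := fun _ => WRes) none
        (advDir (Nat.land s 1) (dPar (T.defn (Nat.shiftRight s 2))) (dLet (T.defn (Nat.shiftRight s 2)))
          (Nat.shiftRight s 2) cur w)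
        (Nat.blt (Nat.shiftRight s 2) T.M))
      (Nat.blt 0 (Nat.shiftRight s 2)))
    -- fact edge
    (Bool.rec (motive := fun _ => WRes) none
      (advDir (Nat.land s 1) (fC (T.fact (Nat.shiftRight s 2))) (fL (T.fact (Nat.shiftRight s 2)))
        (fD (T.fact (Nat.shiftRight s 2))) cur w)
      (Nat.blt (Nat.shiftRight s 2) k))
    (Nat.beq (Nat.land (Nat.shiftRight s 1) 1) 0)

/-- walk `ns` steps (packed in `v`, 24 bits each) from `cur` along `w`; facts with index `< k` may be used -/
noncomputable def walk (T : Tabs) (k ns : Nat) : Nat → Nat → List Nat → WRes :=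
  Nat.rec (motive := fun _ => Nat → Nat → List Nat → WRes)
    (fun _ cur w => some (cur, w))
    (fun _ ih v cur w =>
      Option.rec (motive := fun _ => WRes) none
        (fun p => ih (Nat.shiftRight v 24) p.1 p.2)
        (step1 T k (Nat.land v 16777215) cur w)) ns

/-- remove the gap label from the front of a word -/
noncomputable def dropGap (l : Nat) (w : List Nat) : Option (List Nat) :=
  Bool.rec (motive := fun _ => Option (List Nat))
    (List.rec (motive := fun _ => Option (List Nat)) none
      (fun y w' _ => Bool.rec (motive := fun _ => Option (List Nat)) none (some w') (Nat.beq y l)) w)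
    (some w) (Nat.beq l 63)

/-- is the list empty? -/
noncomputable def isNil (w : List Nat) : Bool :=
  List.rec (motive := fun _ => Bool) true (fun _ _ _ => false) w

/-- check the justification of fact `k` -/
noncomputable def checkInf (T : Tabs) (k rel S nf vf nb vb : Nat) : Bool :=
  Bool.rec (motive := fun _ => Bool) false
    (Bool.rec (motive := fun _ => Bool) false
      (Option.rec (motive := fun _ => Bool) false
        (fun p1 =>
          Bool.rec (motive := fun _ => Bool) false
            (Option.rec (motive := fun _ => Bool) false
              (fun w2 =>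
                Option.rec (motive := fun _ => Bool) false
                  (fun p3 => Bool.rec (motive := fun _ => Bool) false (isNil p3.2) (Nat.beq p3.1 S))
                  (walk T k nb vb (fD (T.fact k)) w2))
              (dropGap (fL (T.fact k)) p1.2))
            (Nat.beq p1.1 (fC (T.fact k))))
        (walk T k nf vf S (T.word rel)))
      (Bool.rec (motive := fun _ => Bool) (Nat.beq S 0) true (Nat.ble T.nsub rel)))
    (Nat.blt rel T.nwords)

/-- check `cnt` consecutive inference records packed in `v`, the first one being for fact `k` -/
noncomputable def checkChunk (T : Tabs) (cnt : Nat) : Nat → Nat → Bool :=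
  Nat.rec (motive := fun _ => Nat → Nat → Bool)
    (fun _ _ => true)
    (fun _ ih k v =>
      Bool.rec (motive := fun _ => Bool) false
        (ih (Nat.succ k)
          (Nat.shiftRight (Nat.shiftRight (Nat.shiftRight v 44) (Nat.mul 24 (Nat.land (Nat.shiftRight v 28) 255)))
            (Nat.mul 24 (Nat.land (Nat.shiftRight v 36) 255))))
        (checkInf T k (Nat.land v 255) (Nat.land (Nat.shiftRight v 8) 1048575)
          (Nat.land (Nat.shiftRight v 28) 255) (Nat.shiftRight v 44)
          (Nat.land (Nat.shiftRight v 36) 255)
          (Nat.shiftRight (Nat.shiftRight v 44) (Nat.mul 24 (Nat.land (Nat.shiftRight v 28) 255))))) cnt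

/-- check a list of chunks (the low 8 bits of a chunk are its number of records), facts `k ..< kend` -/
noncomputable def checkChunks (T : Tabs) (vs : List Nat) : Nat → Nat → Bool :=
  List.rec (motive := fun _ => Nat → Nat → Bool)
    (fun k kend => Nat.beq k kend)
    (fun v _ ih k kend =>
      Bool.rec (motive := fun _ => Bool) false
        (ih (Nat.add k (Nat.land v 255)) kend)
        (checkChunk T (Nat.land v 255) k (Nat.shiftRight v 8))) vs

/-- `f i = true` for all `i < n` -/
noncomputable def allLt (f : Nat → Bool) (n : Nat) : Bool :=
  Nat.rec (motive := fun _ => Bool) true (fun k ih => Bool.rec (motive := fun _ => Bool) false ih (f k)) n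

theorem allLt_sound (f : Nat → Bool) (n : Nat) (h : allLt f n = true) : ∀ i, i < n → f i = true := by
  induction n with
  | zero => intro i hi; omega
  | succ k ih =>
    intro i hi
    have h' : (Bool.rec (motive := fun _ => Bool) false (allLt f k) (f k) : Bool) = true := h
    cases hk : f k
    · rw [hk] at h'; exact absurd h' (by simp)
    · rw [hk] at h'
      rcases Nat.lt_succ_iff_lt_or_eq.mp hi with h1 | h1
      · exact ih h' i h1
      · rw [h1]; exact hk

/-- depth of a pre-coset in the definition tree -/
def depthOf (T : Tabs) (d : Nat) : Nat :=
  match Nat.beq d 0 with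
  | true => 0
  | false => dDep (T.defn d)

/-- the definition of pre-coset `d` is well-founded -/
def defOk (T : Tabs) (d : Nat) : Bool :=
  match Nat.beq d 0 with
  | true => true
  | false =>
    match Nat.blt (dPar (T.defn d)) T.M with
    | false => false
    | true =>
      match Nat.blt (depthOf T (dPar (T.defn d))) (dDep (T.defn d)) with
      | false => false
      | true => Nat.blt (dLet (T.defn d)) 63

/-- all definitions are well-founded -/
noncomputable def checkDefs (T : Tabs) : Bool := allLt (defOk T) T.M

/-! ## The permutation side -/

/-- tables of the permutation representation and the final coset table -/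
structure PTabs where
  /-- number of points -/
  n : Nat
  /-- number of letters -/
  L : Nat
  /-- image of a point under a letter (right action) -/
  perm : Nat → Nat → Nat
  /-- the step proving the final table entry (point, letter) -/
  fin : Nat → Nat → Nat
  /-- parent pointer of a point, packed as `j * 64 + l` -/
  par : Nat → Nat

/-- the final table entry `(i, l)` is a proved fact -/
noncomputable def finOk (T : Tabs) (P : PTabs) (F i l : Nat) : Bool :=
  Option.rec (motive := fun _ => Bool) false
    (fun p => Bool.rec (motive := fun _ => Bool) false (isNil p.2) (Nat.beq p.1 (P.perm l i)))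
    (walk T F 1 (P.fin i l) i (List.cons l List.nil))

/-- all final table entries are proved facts -/
noncomputable def checkFin (T : Tabs) (P : PTabs) (F : Nat) : Bool :=
  allLt (fun i => allLt (fun l => finOk T P F i l) P.L) P.n

/-- trace a word from a point (right action) -/
noncomputable def trace (perm : Nat → Nat → Nat) (w : List Nat) : Nat → Nat :=
  List.rec (motive := fun _ => Nat → Nat) (fun i => i) (fun l _ ih i => ih (perm l i)) w

/-- the word `w` fixes the points `lo, …, lo + cnt - 1` -/
noncomputable def relOk (P : PTabs) (w : List Nat) (lo cnt : Nat) : Bool :=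
  allLt (fun i => Nat.beq (trace P.perm w (Nat.add lo i)) (Nat.add lo i)) cnt

/-- the tables of `l` and of its inverse letter are mutually inverse and stay below `n` -/
noncomputable def invOk (P : PTabs) : Bool :=
  allLt (fun i => allLt (fun l =>
    Bool.rec (motive := fun _ => Bool) false (Nat.beq (P.perm (flipL l) (P.perm l i)) i)
      (Nat.blt (P.perm l i) P.n)) P.L) P.n

/-- every point other than `0` is the image of a smaller point -/
noncomputable def parOk (P : PTabs) : Bool :=
  allLt (fun i =>
    Bool.rec (motive := fun _ => Bool)
      (Bool.rec (motive := fun _ => Bool) false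
        (Bool.rec (motive := fun _ => Bool) false
          (Nat.beq (P.perm (Nat.land (P.par i) 63) (Nat.shiftRight (P.par i) 6)) i)
          (Nat.blt (Nat.land (P.par i) 63) P.L))
        (Nat.blt (Nat.shiftRight (P.par i) 6) i))
      true (Nat.beq i 0)) P.n

end Cfsg.Agent.Helper28

namespace Cfsg.Agent.Helper28

/-- trace a word given as the list of the flat tables of its letters (`b` bits per entry, `bm = 2^b - 1`) -/
noncomputable def traceT (b bm : Nat) (ts : List Nat) : Nat → Nat :=
  List.rec (motive := fun _ => Nat → Nat) (fun i => i)
    (fun t _ ih i => ih (Nat.land (Nat.shiftRight t (Nat.mul b i)) bm)) ts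

/-- the word with letter tables `ts` fixes the points `lo, …, lo + cnt - 1` -/
noncomputable def relOkT (b bm : Nat) (ts : List Nat) (lo cnt : Nat) : Bool :=
  allLt (fun i => Nat.beq (traceT b bm ts (Nat.add lo i)) (Nat.add lo i)) cnt

theorem trace_eq_traceT (perm : Nat → Nat → Nat) (tab : Nat → Nat) (b bm : Nat)
    (hperm : ∀ l i, perm l i = Nat.land (Nat.shiftRight (tab l) (Nat.mul b i)) bm) (w : List Nat) :
    ∀ i, trace perm w i = traceT b bm (w.map tab) i := by
  induction w with
  | nil => intro i; rfl
  | cons l w ih =>
    intro i
    show trace perm w (perm l i) = traceT b bm (w.map tab) (Nat.land (Nat.shiftRight (tab l) (Nat.mul b i)) bm)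
    rw [ih, hperm]

theorem relOk_eq_relOkT (P : PTabs) (tab : Nat → Nat) (b bm : Nat)
    (hperm : ∀ l i, P.perm l i = Nat.land (Nat.shiftRight (tab l) (Nat.mul b i)) bm)
    (w : List Nat) (lo cnt : Nat) : relOk P w lo cnt = relOkT b bm (w.map tab) lo cnt := by
  unfold relOk relOkT
  congr 1
  funext i
  rw [trace_eq_traceT P.perm tab b bm hperm]

/-- the relators with indices `lo, …, lo + cnt - 1` fix all `n` points -/
noncomputable def permRange (word : Nat → List Nat) (tab : Nat → Nat) (b bm n lo cnt : Nat) : Bool :=
  allLt (fun j => relOkT b bm ((word (Nat.add lo j)).map tab) 0 n) cnt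

theorem permRange_sound (P : PTabs) (word : Nat → List Nat) (tab : Nat → Nat) (b bm : Nat)
    (hperm : ∀ l i, P.perm l i = Nat.land (Nat.shiftRight (tab l) (Nat.mul b i)) bm)
    (lo cnt : Nat) (h : permRange word tab b bm P.n lo cnt = true) :
    ∀ r, lo ≤ r → r < lo + cnt → relOk P (word r) 0 P.n = true := by
  intro r h1 h2
  have := allLt_sound _ _ h (r - lo) (by omega)
  rw [relOk_eq_relOkT P tab b bm hperm]
  have e : Nat.add lo (r - lo) = r := by show lo + (r - lo) = r; omega
  rw [e] at this
  exact this

end Cfsg.Agent.Helper28
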