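import Cfsg.Agent.Helper28.CosetBig

set_option autoImplicit false

/-!
# Tables given as functions

The letter tables of a certificate may be arbitrary functions `Nat → Nat` (in practice decision trees of
small definitions, which the kernel evaluates faster than a trie traversed by a recursor).
-/

namespace Cfsg.Agent.Helper28

/-- trace a word given as the list of the tables of its letters -/
noncomputable def traceF (fs : List (Nat → Nat)) : Nat → Nat :=
  List.rec (motive := fun _ => Nat → Nat) (fun i => i) (fun f _ ih i => ih (f i)) fs

theorem trace_eq_traceF (perm : Nat → Nat → Nat) (tab : Nat → Nat → Nat)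
    (hperm : ∀ l i, perm l i = tab l i) (w : List Nat) :
    ∀ i, trace perm w i = traceF (w.map tab) i := by
  induction w with
  | nil => intro i; rfl
  | cons l w ih =>
    intro i
    show trace perm w (perm l i) = traceF (w.map tab) (tab l i)
    rw [ih, hperm]

/-- the relators `rlo ≤ r < rlo + rcnt` fix the points `plo ≤ i < plo + pcnt` -/
noncomputable def permPieceF (word : Nat → List Nat) (tab : Nat → Nat → Nat) (rlo rcnt plo pcnt : Nat) : Bool :=
  allLtFrom (fun r => allLtFrom (fun i => Nat.beq (traceF ((word r).map tab) i) i) plo pcnt) rlo rcnt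

theorem traceFix_extendF (perm : Nat → Nat → Nat) (word : Nat → List Nat) (tab : Nat → Nat → Nat)
    (hperm : ∀ l i, perm l i = tab l i) (rlo rcnt lo cnt hi : Nat) (hhi : lo + cnt = hi)
    (h1 : TraceFix perm word rlo rcnt lo) (h2 : permPieceF word tab rlo rcnt lo cnt = true) :
    TraceFix perm word rlo rcnt hi := by
  intro r hr1 hr2 i hi'
  by_cases c : i < lo
  · exact h1 r hr1 hr2 i c
  · have h3 := allLtFrom_sound _ _ _ h2 r hr1 hr2
    have h4 := allLtFrom_sound _ _ _ h3 i (by omega) (by omega)
    rw [nbeq_eq] at h4
    rw [trace_eq_traceF perm tab hperm]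
    exact h4

end Cfsg.Agent.Helper28
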