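import Cfsg.Agent.Helper28.CosetPerm

set_option autoImplicit false

/-!
# The index theorem for a certified coset enumeration in a presented group
-/

namespace Cfsg.Agent.Helper28

section Main

variable {α : Type} (rels : Set (FreeGroup α)) (Y : Set (FreeGroup α))
variable (gen : Nat → α) (idx : α → Nat) (ngen : Nat)

/-- the subgroup of the presented group generated by the images of `Y` -/
abbrev HH : Subgroup (PresentedGroup rels) := (Subgroup.closure Y).map (PresentedGroup.mk rels)

/-- the generator with index `k` in the presented group -/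
def gG (k : Nat) : PresentedGroup rels := PresentedGroup.mk rels (gF gen ngen k)

theorem wv_gG (w : List Nat) : wv (gG rels gen ngen) w = PresentedGroup.mk rels (ev gen ngen w) := by
  unfold ev
  rw [wv_map]
  rfl

theorem gG_31 (h : ngen ≤ 31) : gG rels gen ngen 31 = 1 := by
  unfold gG; rw [gF_31 gen ngen h, map_one]

variable (T : Tabs)

theorem hsub_of (hYw : ∀ r, r < T.nsub → ev gen ngen (T.word r) ∈ Y) :
    ∀ r, r < T.nsub → wv (gG rels gen ngen) (T.word r) ∈ HH rels Y := by
  intro r hr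
  rw [wv_gG]
  exact Subgroup.mem_map_of_mem _ (Subgroup.subset_closure (hYw r hr))

theorem hrel_of (hrelw : ∀ r, T.nsub ≤ r → r < T.nwords →
      PresentedGroup.mk rels (ev gen ngen (T.word r)) = 1) :
    ∀ r, T.nsub ≤ r → r < T.nwords → wv (gG rels gen ngen) (T.word r) = 1 := by
  intro r h1 h2
  rw [wv_gG]
  exact hrelw r h1 h2

/-- one part of the fact check: from facts `< k` to facts `< kend` -/
theorem facts_part (hngen : ngen ≤ 31) (hdefs : checkDefs T = true)
    (hYw : ∀ r, r < T.nsub → ev gen ngen (T.word r) ∈ Y)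
    (hrelw : ∀ r, T.nsub ≤ r → r < T.nwords →
      PresentedGroup.mk rels (ev gen ngen (T.word r)) = 1)
    (vs : List Nat) (k kend : Nat) (hc : checkChunks T vs k kend = true)
    (hk : ∀ f, f < k → VF (HH rels Y) (gG rels gen ngen) T f) :
    ∀ f, f < kend → VF (HH rels Y) (gG rels gen ngen) T f :=
  checkChunks_sound (HH rels Y) (gG rels gen ngen) T (gG_31 rels gen ngen hngen) hdefs
    (hsub_of rels Y gen ngen T hYw) (hrel_of rels gen ngen T hrelw) vs k kend hk hc

variable (P : PTabs) (hinv : invOk P = true) (hL : P.L = 2 * ngen)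

/-- the action of the presented group on the points -/
noncomputable def rhoG (hrels : ∀ r ∈ rels, rhoF idx ngen P hinv hL r = 1) :
    PresentedGroup rels →* Equiv.Perm (Fin P.n) :=
  PresentedGroup.toGroup hrels

theorem rhoG_mk (hrels : ∀ r ∈ rels, rhoF idx ngen P hinv hL r = 1) (x : FreeGroup α) :
    rhoG rels idx ngen P hinv hL hrels (PresentedGroup.mk rels x) = rhoF idx ngen P hinv hL x := by
  rfl

theorem parOk_spec (h : parOk P = true) (i : Nat) (hi : i < P.n) (h0 : i ≠ 0) :
    Nat.shiftRight (P.par i) 6 < i ∧ Nat.land (P.par i) 63 < P.L ∧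
      P.perm (Nat.land (P.par i) 63) (Nat.shiftRight (P.par i) 6) = i := by
  have h1 := allLt_sound _ _ h i hi
  have hb : Nat.beq i 0 = false := by
    cases hb : Nat.beq i 0
    · rfl
    · exact absurd ((nbeq_eq i 0).mp hb) h0
  rw [hb] at h1
  obtain ⟨h2, h1⟩ := brec_false_true h1
  obtain ⟨h3, h1⟩ := brec_false_true h1
  rw [blt_eq] at h2 h3
  rw [nbeq_eq] at h1
  exact ⟨h2, h3, h1⟩

theorem trans_aux (hn : 0 < P.n) (hig : ∀ k, k < ngen → idx (gen k) = k) (hpar : parOk P = true) :
    ∀ i (hi : i < P.n), ∃ y : FreeGroup α, (rhoF idx ngen P hinv hL y) ⟨0, hn⟩ = ⟨i, hi⟩ := by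
  intro i
  induction i using Nat.strong_induction_on with
  | _ i ih =>
    intro hi
    by_cases h0 : i = 0
    · subst h0
      exact ⟨1, by simp⟩
    · obtain ⟨hj, hl, hp⟩ := parOk_spec P hpar i hi h0
      obtain ⟨y, hy⟩ := ih _ hj (by omega)
      refine ⟨(lam (gF gen ngen) (Nat.land (P.par i) 63))⁻¹ * y, ?_⟩
      rw [map_mul, Equiv.Perm.mul_apply, hy, map_inv,
        rhoF_lam_inv gen idx ngen P hinv hL hig _ hl]
      apply Fin.ext
      rw [permL_apply P hinv ngen hL _ hl]
      exact hp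

theorem finOk_spec (hngen : ngen ≤ 31) (hdefs : checkDefs T = true) (F : Nat)
    (hfacts : ∀ f, f < F → VF (HH rels Y) (gG rels gen ngen) T f)
    (hfin : checkFin T P F = true) (i l : Nat) (hi : i < P.n) (hl : l < P.L) :
    Valid (HH rels Y) (gG rels gen ngen) T i l (P.perm l i) := by
  have h1 := allLt_sound _ _ hfin i hi
  have h2 := allLt_sound _ _ h1 l hl
  unfold finOk at h2
  obtain ⟨p, hw, h3⟩ := orec_false_true h2
  obtain ⟨h4, h5⟩ := brec_false_true h3
  rw [nbeq_eq] at h4
  rw [isNil_eq] at h5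
  obtain ⟨q, hq, hqH⟩ := walk_sound (HH rels Y) (gG rels gen ngen) T (gG_31 rels gen ngen hngen)
    hdefs F hfacts _ _ _ _ _ _ hw
  rw [h5, List.append_nil] at hq
  rw [← hq, h4, wv_cons, wv_nil, mul_one] at hqH
  exact hqH

/-- **Main theorem**: a checked certificate determines the index, and the subgroup is a point stabiliser of a
transitive action. -/
theorem cert_main (hngen : ngen ≤ 31)
    (hgi : ∀ a : α, idx a < ngen ∧ gen (idx a) = a)
    (hig : ∀ k, k < ngen → idx (gen k) = k)
    (hn : 0 < P.n)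
    (hwY : ∀ y ∈ Y, ∃ r, r < T.nsub ∧ (∀ l ∈ T.word r, l < P.L) ∧ ev gen ngen (T.word r) = y ∧
      relOk P (T.word r) 0 1 = true)
    (hdefs : checkDefs T = true) (F : Nat)
    (hfacts : ∀ f, f < F → VF (HH rels Y) (gG rels gen ngen) T f)
    (hfin : checkFin T P F = true)
    (hpar : parOk P = true)
    (hrels : ∀ r ∈ rels, rhoF idx ngen P hinv hL r = 1) :
    (HH rels Y).index = P.n ∧
      (∀ y : PresentedGroup rels, rhoG rels idx ngen P hinv hL hrels y ⟨0, hn⟩ = ⟨0, hn⟩ ↔ y ∈ HH rels Y) ∧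
      (∀ x : Fin P.n, ∃ y : PresentedGroup rels, rhoG rels idx ngen P hinv hL hrels y ⟨0, hn⟩ = x) := by
  -- H fixes the base point
  have hfixF : ∀ x : FreeGroup α, x ∈ Subgroup.closure Y →
      rhoF idx ngen P hinv hL x ⟨0, hn⟩ = ⟨0, hn⟩ := by
    intro x hx
    induction hx using Subgroup.closure_induction with
    | mem y hy =>
      obtain ⟨r, hr, hlt, rfl, hro⟩ := hwY y hy
      have h1 := rhoF_ev_inv gen idx ngen P hinv hL hig (T.word r) hlt ⟨0, hn⟩
      have h2 := allLt_sound _ _ hro 0 (by omega)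
      rw [nbeq_eq] at h2
      have h3 : ((rhoF idx ngen P hinv hL (ev gen ngen (T.word r)))⁻¹) ⟨0, hn⟩ = ⟨0, hn⟩ := by
        apply Fin.ext
        rw [h1]
        simpa using h2
      rw [Equiv.Perm.inv_eq_iff_eq] at h3
      exact h3.symm
    | one => simp
    | mul a b _ _ ha hb => rw [map_mul, Equiv.Perm.mul_apply, hb, ha]
    | inv a _ ha =>
      rw [map_inv, Equiv.Perm.inv_eq_iff_eq]
      exact ha.symm
  have hfix : ∀ h ∈ HH rels Y, rhoG rels idx ngen P hinv hL hrels h ⟨0, hn⟩ = ⟨0, hn⟩ := by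
    intro h hh
    obtain ⟨x, hx, rfl⟩ := Subgroup.mem_map.mp hh
    rw [rhoG_mk]
    exact hfixF x hx
  -- transitivity
  have htrans : ∀ x : Fin P.n, ∃ y : PresentedGroup rels,
      rhoG rels idx ngen P hinv hL hrels y ⟨0, hn⟩ = x := by
    intro x
    obtain ⟨y, hy⟩ := trans_aux gen idx ngen P hinv hL hn hig hpar x.val x.2
    exact ⟨PresentedGroup.mk rels y, by rw [rhoG_mk]; exact hy⟩
  -- generators
  let gens : Set (PresentedGroup rels) := {s | ∃ k, k < ngen ∧ s = gG rels gen ngen k}
  have hgens : Subgroup.closure gens = ⊤ := by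
    rw [eq_top_iff, ← PresentedGroup.closure_range_of rels]
    apply Subgroup.closure_mono
    rintro _ ⟨a, rfl⟩
    refine ⟨idx a, (hgi a).1, ?_⟩
    unfold gG gF
    rw [if_pos (hgi a).1, (hgi a).2]
    rfl
  -- the table
  have hstep : ∀ i : Fin P.n, ∀ s ∈ gens,
      (∃ j : Fin P.n, rep (gG rels gen ngen) T i.val * s * (rep (gG rels gen ngen) T j.val)⁻¹ ∈ HH rels Y) ∧
      (∃ j : Fin P.n, rep (gG rels gen ngen) T i.val * s⁻¹ * (rep (gG rels gen ngen) T j.val)⁻¹ ∈ HH rels Y) := by
    rintro i s ⟨k, hk, rfl⟩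
    have hl0 : 2 * k < P.L := by omega
    have hl1 : 2 * k + 1 < P.L := by omega
    constructor
    · refine ⟨⟨P.perm (2 * k) i.val, (invOk_spec P hinv i.val _ i.2 hl0).1⟩, ?_⟩
      have := finOk_spec rels Y gen ngen T P hngen hdefs F hfacts hfin i.val (2 * k) i.2 hl0
      unfold Valid lam at this
      rw [if_pos (by omega)] at this
      have e : 2 * k / 2 = k := by omega
      rw [e] at this
      exact this
    · refine ⟨⟨P.perm (2 * k + 1) i.val, (invOk_spec P hinv i.val _ i.2 hl1).1⟩, ?_⟩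
      have := finOk_spec rels Y gen ngen T P hngen hdefs F hfacts hfin i.val (2 * k + 1) i.2 hl1
      unfold Valid lam at this
      rw [if_neg (by omega)] at this
      have e : (2 * k + 1) / 2 = k := by omega
      rw [e] at this
      exact this
  have h0 : rep (gG rels gen ngen) T (⟨0, hn⟩ : Fin P.n).val ∈ HH rels Y := by
    show rep (gG rels gen ngen) T 0 ∈ _
    rw [rep_zero]; exact Subgroup.one_mem _
  obtain ⟨hidx, hstab⟩ := index_eq_of_table_of_action (HH rels Y) gens hgens P.n
    (fun i => rep (gG rels gen ngen) T i.val) ⟨0, hn⟩ h0 hstep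
    (rhoG rels idx ngen P hinv hL hrels) ⟨0, hn⟩ hfix htrans
  exact ⟨hidx, fun y => ⟨hstab y, hfix y⟩, htrans⟩

end Main

end Cfsg.Agent.Helper28
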