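import Cfsg.Agent.Helper28.CosetCox

set_option autoImplicit false

/-!
# Orbits of the subgroup on its cosets, from a certified coset enumeration

If `H` is the stabiliser of the point `x0` in a transitive action of `Γ` on `Fin n`, the `H`-orbits on
`Γ ⧸ H` correspond to the `H`-orbits on `Fin n`.  A labelling `root` of the points that is `H`-invariant
and whose fibres are `H`-connected has the orbits as its fibres.
-/

namespace Cfsg.Agent.Helper28

theorem perm_inv_apply_self {β : Type*} (σ : Equiv.Perm β) (x : β) : σ⁻¹ (σ x) = x := by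
  rw [Equiv.Perm.inv_eq_iff_eq]

theorem perm_apply_inv_self {β : Type*} (σ : Equiv.Perm β) (x : β) : σ (σ⁻¹ x) = x :=
  ((Equiv.Perm.inv_eq_iff_eq (f := σ) (x := x) (y := σ⁻¹ x)).mp rfl).symm

section Abstract

variable {Γ : Type*} [Group Γ] (H : Subgroup Γ) {n : ℕ} (ρ : Γ →* Equiv.Perm (Fin n)) (x0 : Fin n)

theorem exists_orbits (hstab : ∀ y : Γ, ρ y x0 = x0 ↔ y ∈ H) (htrans : ∀ x : Fin n, ∃ y : Γ, ρ y x0 = x)
    (root : Fin n → ℕ)
    (hinvar : ∀ h ∈ H, ∀ i, root (ρ h i) = root i)
    (hconn : ∀ i j, root i = root j → ∃ h ∈ H, ρ h i = j) :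
    ∃ qOf : Fin n → Γ ⧸ H,
      (∀ i, (MulAction.orbit H (qOf i)).ncard = (Finset.univ.filter (fun j => root j = root i)).card) ∧
      (∀ i j, MulAction.orbit H (qOf i) = MulAction.orbit H (qOf j) → root i = root j) := by
  classical
  choose g hg using htrans
  have hA : ∀ a b : Γ, ρ a x0 = ρ b x0 → (a : Γ ⧸ H) = (b : Γ ⧸ H) := by
    intro a b hab
    rw [QuotientGroup.eq]
    apply (hstab _).mp
    rw [map_mul, Equiv.Perm.mul_apply, ← hab, map_inv, perm_inv_apply_self]
  have hB : ∀ a b : Γ, (a : Γ ⧸ H) = (b : Γ ⧸ H) → ρ a x0 = ρ b x0 := by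
    intro a b hab
    rw [QuotientGroup.eq] at hab
    have h1 := (hstab _).mpr hab
    rw [map_mul, Equiv.Perm.mul_apply, map_inv, Equiv.Perm.inv_eq_iff_eq] at h1
    exact h1.symm
  have hsm : ∀ (h : H) (a : Γ), h • (a : Γ ⧸ H) = (((h : Γ) * a : Γ) : Γ ⧸ H) := fun _ _ => rfl
  have horb : ∀ i, MulAction.orbit H ((g i : Γ) : Γ ⧸ H) =
      (fun j : Fin n => ((g j : Γ) : Γ ⧸ H)) '' {j | root j = root i} := by
    intro i
    ext q
    constructor
    · rintro ⟨h, rfl⟩
      refine ⟨ρ (h : Γ) i, hinvar _ h.2 i, ?_⟩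
      show ((g (ρ (h : Γ) i) : Γ) : Γ ⧸ H) = h • ((g i : Γ) : Γ ⧸ H)
      rw [hsm]
      apply hA
      rw [hg, map_mul, Equiv.Perm.mul_apply, hg]
    · rintro ⟨j, hj, rfl⟩
      obtain ⟨h, hh, hij⟩ := hconn i j (Eq.symm hj)
      refine ⟨⟨h, hh⟩, ?_⟩
      show (⟨h, hh⟩ : H) • ((g i : Γ) : Γ ⧸ H) = ((g j : Γ) : Γ ⧸ H)
      rw [hsm]
      apply hA
      rw [hg, map_mul, Equiv.Perm.mul_apply, hg]
      exact hij
  have hinj : Function.Injective (fun j : Fin n => ((g j : Γ) : Γ ⧸ H)) := by
    intro j j' hjj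
    have := hB _ _ hjj
    rw [hg, hg] at this
    exact this
  refine ⟨fun i => ((g i : Γ) : Γ ⧸ H), ?_, ?_⟩
  · intro i
    rw [horb i, Set.ncard_image_of_injective _ hinj]
    rw [← Set.ncard_coe_finset]
    congr 1
    ext j
    simp
  · intro i j hij
    have hmem : ((g j : Γ) : Γ ⧸ H) ∈ MulAction.orbit H ((g i : Γ) : Γ ⧸ H) := by
      show ((g j : Γ) : Γ ⧸ H) ∈ MulAction.orbit H ((fun i => ((g i : Γ) : Γ ⧸ H)) i)
      rw [hij]
      exact MulAction.mem_orbit_self _
    obtain ⟨h, hh⟩ := hmem
    have hh' : (((h : Γ) * g i : Γ) : Γ ⧸ H) = ((g j : Γ) : Γ ⧸ H) := hh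
    have := hB _ _ hh'
    rw [hg, map_mul, Equiv.Perm.mul_apply, hg] at this
    rw [← this]
    exact (hinvar _ h.2 i).symm

end Abstract

/-- the number of `i < n` with `f i = r` -/
noncomputable def countEq (f : Nat → Nat) (r : Nat) (n : Nat) : Nat :=
  Nat.rec (motive := fun _ => Nat) 0
    (fun i acc => Bool.rec (motive := fun _ => Nat) acc (Nat.succ acc) (Nat.beq (f i) r)) n

theorem countEq_succ (f : Nat → Nat) (r n : Nat) :
    countEq f r (n + 1) = countEq f r n + if f n = r then 1 else 0 := by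
  show Bool.rec (motive := fun _ => Nat) (countEq f r n) (Nat.succ (countEq f r n)) (Nat.beq (f n) r) = _
  by_cases h : f n = r
  · rw [if_pos h, (nbeq_eq _ _).mpr h]
  · rw [if_neg h]
    have : Nat.beq (f n) r = false := by
      cases hb : Nat.beq (f n) r
      · rfl
      · exact absurd ((nbeq_eq _ _).mp hb) h
    rw [this]
    rfl

theorem card_filter_eq_countEq (f : Nat → Nat) (r n : Nat) :
    (Finset.univ.filter (fun j : Fin n => f j.val = r)).card = countEq f r n := by
  rw [Finset.card_filter, Fin.sum_univ_eq_sum_range (fun i => if f i = r then 1 else 0) n]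
  induction n with
  | zero => rfl
  | succ k ih => rw [Finset.sum_range_succ, ih, countEq_succ]

/-! ## The orbit certificate -/

/-- root label of a packed orbit record -/
def oRoot (v : Nat) : Nat := Nat.land v 1048575
/-- parent point of a packed orbit record -/
def oPar (v : Nat) : Nat := Nat.land (Nat.shiftRight v 20) 1048575
/-- subgroup generator index of a packed orbit record -/
def oGen (v : Nat) : Nat := Nat.land (Nat.shiftRight v 40) 255
/-- depth of a packed orbit record -/
def oDep (v : Nat) : Nat := Nat.shiftRight v 48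

/-- the orbit record of the point `i` is correct: all subgroup generators preserve the root label, and the
point is its own root (depth `0`) or the image of a point of smaller depth under a subgroup generator -/
noncomputable def orbOk (T : Tabs) (P : PTabs) (orb : Nat → Nat) (i : Nat) : Bool :=
  Bool.rec (motive := fun _ => Bool) false
    (Bool.rec (motive := fun _ => Bool)
      (Bool.rec (motive := fun _ => Bool) false
        (Bool.rec (motive := fun _ => Bool) false
          (Bool.rec (motive := fun _ => Bool) false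
            (Nat.beq (trace P.perm (T.word (oGen (orb i))) (oPar (orb i))) i)
            (Nat.blt (oDep (orb (oPar (orb i)))) (oDep (orb i))))
          (Nat.blt (oGen (orb i)) T.nsub))
        (Nat.blt (oPar (orb i)) P.n))
      (Nat.beq (oRoot (orb i)) i)
      (Nat.beq (oDep (orb i)) 0))
    (allLt (fun s => Nat.beq (oRoot (orb (trace P.perm (T.word s) i))) (oRoot (orb i))) T.nsub)

/-- all orbit records are correct -/
noncomputable def checkOrb (T : Tabs) (P : PTabs) (orb : Nat → Nat) : Bool := allLt (orbOk T P orb) P.n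

theorem brec_cases {b : Bool} {x y : Bool}
    (h : Bool.rec (motive := fun _ => Bool) x y b = true) :
    (b = false ∧ x = true) ∨ (b = true ∧ y = true) := by
  cases b
  · exact Or.inl ⟨rfl, h⟩
  · exact Or.inr ⟨rfl, h⟩

section OrbSound

open Cfsg.Spor

variable {α : Type} [DecidableEq α]
variable {edges : List (α × ℕ × α)} {extra : List (FreeGroup α)} {Ylist : List (FreeGroup α)}
variable {gen : Nat → α} {idx : α → Nat} {ngen : Nat} {T : Tabs} {P : PTabs}

theorem orb_sound (hinv : invOk P = true) (lay : Layout edges extra Ylist gen idx ngen T P)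
    (hperm : ∀ r, T.nsub ≤ r → r < T.nsub + ngen * ngen + extra.length →
      relOk P (T.word r) 0 P.n = true)
    (orb : Nat → Nat) (horb : checkOrb T P orb = true) :
    (∀ h ∈ HH (coxRels edges extra) {y | y ∈ Ylist}, ∀ i : Fin P.n,
      oRoot (orb (rhoG (coxRels edges extra) idx ngen P hinv lay.hL (lay.hrels hinv hperm) h i).val) =
        oRoot (orb i.val)) ∧
    (∀ i j : Fin P.n, oRoot (orb i.val) = oRoot (orb j.val) →
      ∃ h ∈ HH (coxRels edges extra) {y | y ∈ Ylist},
        rhoG (coxRels edges extra) idx ngen P hinv lay.hL (lay.hrels hinv hperm) h i = j) := by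
  have hlet : ∀ s, s < T.nsub → ∀ l ∈ T.word s, l < P.L := fun s hs =>
    lay.hletters s (by rw [lay.hnwords]; omega)
  -- the inverse of a subgroup generator preserves the root label
  have hgenInv : ∀ s, s < T.nsub → ∀ i : Fin P.n,
      oRoot (orb (((rhoF idx ngen P hinv lay.hL (ev gen ngen (T.word s)))⁻¹) i).val) = oRoot (orb i.val) := by
    intro s hs i
    rw [rhoF_ev_inv gen idx ngen P hinv lay.hL lay.hig (T.word s) (hlet s hs) i]
    have h1 := allLt_sound _ _ horb i.val i.2
    unfold orbOk at h1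
    obtain ⟨h2, -⟩ := brec_false_true h1
    have h3 := allLt_sound _ _ h2 s hs
    rw [nbeq_eq] at h3
    exact h3
  have hgen : ∀ s, s < T.nsub → ∀ i : Fin P.n,
      oRoot (orb ((rhoF idx ngen P hinv lay.hL (ev gen ngen (T.word s))) i).val) = oRoot (orb i.val) := by
    intro s hs i
    have := hgenInv s hs ((rhoF idx ngen P hinv lay.hL (ev gen ngen (T.word s))) i)
    rw [perm_inv_apply_self] at this
    exact this.symm
  have hclF : ∀ x : FreeGroup α, x ∈ Subgroup.closure {y | y ∈ Ylist} → ∀ i : Fin P.n,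
      oRoot (orb ((rhoF idx ngen P hinv lay.hL x) i).val) = oRoot (orb i.val) := by
    intro x hx
    induction hx using Subgroup.closure_induction with
    | mem y hy =>
      have hy' : y ∈ Ylist := hy
      obtain ⟨s, hs, rfl⟩ := List.getElem_of_mem hy'
      have hs' : s < T.nsub := by rw [lay.hnsub]; exact hs
      have e : Ylist[s] = ev gen ngen (T.word s) := by
        rw [lay.hY s hs', List.getD_eq_getElem _ _ hs]
      rw [e]
      exact hgen s hs'
    | one => intro i; simp
    | mul a b _ _ ha hb => intro i; rw [map_mul, Equiv.Perm.mul_apply, ha, hb]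
    | inv a _ ha =>
      intro i
      have := ha ((rhoF idx ngen P hinv lay.hL a)⁻¹ i)
      rw [perm_apply_inv_self] at this
      rw [map_inv]
      exact this.symm
  have hinvar : ∀ h ∈ HH (coxRels edges extra) {y | y ∈ Ylist}, ∀ i : Fin P.n,
      oRoot (orb (rhoG (coxRels edges extra) idx ngen P hinv lay.hL (lay.hrels hinv hperm) h i).val) =
        oRoot (orb i.val) := by
    intro h hh i
    obtain ⟨x, hx, rfl⟩ := Subgroup.mem_map.mp hh
    rw [rhoG_mk]
    exact hclF x hx i
  refine ⟨hinvar, ?_⟩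
  -- every point is connected to its root
  have hroot : ∀ d, ∀ i : Fin P.n, oDep (orb i.val) = d →
      ∃ h ∈ HH (coxRels edges extra) {y | y ∈ Ylist}, ∃ k : Fin P.n, k.val = oRoot (orb i.val) ∧
        rhoG (coxRels edges extra) idx ngen P hinv lay.hL (lay.hrels hinv hperm) h k = i := by
    intro d
    induction d using Nat.strong_induction_on with
    | _ d ih =>
      intro i hd
      have h1 := allLt_sound _ _ horb i.val i.2
      unfold orbOk at h1
      obtain ⟨-, h2⟩ := brec_false_true h1
      rcases brec_cases h2 with ⟨-, h3⟩ | ⟨-, h3⟩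
      · obtain ⟨hp, h3⟩ := brec_false_true h3
        obtain ⟨hs, h3⟩ := brec_false_true h3
        obtain ⟨hdep, h3⟩ := brec_false_true h3
        rw [blt_eq] at hp hs hdep
        rw [nbeq_eq] at h3
        obtain ⟨h', hh', k, hk, hkp⟩ := ih _ (by rw [← hd]; exact hdep) ⟨oPar (orb i.val), hp⟩ rfl
        have hi : ((rhoF idx ngen P hinv lay.hL (ev gen ngen (T.word (oGen (orb i.val)))))⁻¹)
            ⟨oPar (orb i.val), hp⟩ = i := by
          apply Fin.ext
          rw [rhoF_ev_inv gen idx ngen P hinv lay.hL lay.hig _ (hlet _ hs)]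
          exact h3
        have hrt : oRoot (orb i.val) = oRoot (orb (oPar (orb i.val))) := by
          have := hgenInv _ hs ⟨oPar (orb i.val), hp⟩
          rw [hi] at this
          exact this
        refine ⟨(PresentedGroup.mk (coxRels edges extra) (ev gen ngen (T.word (oGen (orb i.val)))))⁻¹ * h',
          Subgroup.mul_mem _ (Subgroup.inv_mem _ (Subgroup.mem_map_of_mem _
            (Subgroup.subset_closure (lay.hYw _ hs)))) hh', k, by rw [hk, hrt], ?_⟩
        rw [map_mul, Equiv.Perm.mul_apply, hkp, map_inv, rhoG_mk]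
        exact hi
      · rw [nbeq_eq] at h3
        exact ⟨1, Subgroup.one_mem _, i, h3.symm, by simp⟩
  intro i j hij
  obtain ⟨hi, hhi, ki, hki, hki'⟩ := hroot _ i rfl
  obtain ⟨hj, hhj, kj, hkj, hkj'⟩ := hroot _ j rfl
  have hk : ki = kj := by
    apply Fin.ext
    rw [hki, hkj, hij]
  refine ⟨hj * hi⁻¹, Subgroup.mul_mem _ hhj (Subgroup.inv_mem _ hhi), ?_⟩
  rw [map_mul, Equiv.Perm.mul_apply, map_inv, ← hki', perm_inv_apply_self, hk, hkj']

/-- **Orbit theorem for Coxeter-style presentations.** -/
theorem cox_orbits (hinv : invOk P = true) (lay : Layout edges extra Ylist gen idx ngen T P) (hn : 0 < P.n)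
    (hdefs : checkDefs T = true) (F : Nat)
    (hfacts : ∀ f, f < F → VF (HH (coxRels edges extra) {y | y ∈ Ylist}) (gG (coxRels edges extra) gen ngen) T f)
    (hfin : checkFin T P F = true)
    (hpar : parOk P = true)
    (hperm : ∀ r, T.nsub ≤ r → r < T.nsub + ngen * ngen + extra.length →
      relOk P (T.word r) 0 P.n = true)
    (hsubfix : ∀ r, r < T.nsub → relOk P (T.word r) 0 1 = true)
    (orb : Nat → Nat) (horb : checkOrb T P orb = true) :
    (HH (coxRels edges extra) {y | y ∈ Ylist}).index = P.n ∧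
    ∃ qOf : Nat → PresentedGroup (coxRels edges extra) ⧸ HH (coxRels edges extra) {y | y ∈ Ylist},
      (∀ i, i < P.n → (MulAction.orbit (HH (coxRels edges extra) {y | y ∈ Ylist}) (qOf i)).ncard =
        countEq (fun j => oRoot (orb j)) (oRoot (orb i)) P.n) ∧
      (∀ i j, i < P.n → j < P.n → MulAction.orbit (HH (coxRels edges extra) {y | y ∈ Ylist}) (qOf i) =
        MulAction.orbit (HH (coxRels edges extra) {y | y ∈ Ylist}) (qOf j) →
          oRoot (orb i) = oRoot (orb j)) := by
  obtain ⟨hidx, hstab, htrans⟩ := cox_cert hinv lay hn hdefs F hfacts hfin hpar hperm hsubfix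
  obtain ⟨hinvar, hconn⟩ := orb_sound hinv lay hperm orb horb
  obtain ⟨qOf, h1, h2⟩ := exists_orbits (HH (coxRels edges extra) {y | y ∈ Ylist})
    (rhoG (coxRels edges extra) idx ngen P hinv lay.hL (lay.hrels hinv hperm)) ⟨0, hn⟩ hstab htrans
    (fun i => oRoot (orb i.val)) hinvar hconn
  refine ⟨hidx, fun i => if hi : i < P.n then qOf ⟨i, hi⟩ else qOf ⟨0, hn⟩, ?_, ?_⟩
  · intro i hi
    show (MulAction.orbit _ (if hi : i < P.n then qOf ⟨i, hi⟩ else qOf ⟨0, hn⟩)).ncard = _
    rw [dif_pos hi, h1 ⟨i, hi⟩]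
    exact card_filter_eq_countEq (fun j => oRoot (orb j)) (oRoot (orb i)) P.n
  · intro i j hi hj hij
    have hij' : MulAction.orbit (HH (coxRels edges extra) {y | y ∈ Ylist})
        (if hi : i < P.n then qOf ⟨i, hi⟩ else qOf ⟨0, hn⟩) =
      MulAction.orbit (HH (coxRels edges extra) {y | y ∈ Ylist})
        (if hj : j < P.n then qOf ⟨j, hj⟩ else qOf ⟨0, hn⟩) := hij
    rw [dif_pos hi, dif_pos hj] at hij'
    replace hij := hij'
    exact h2 ⟨i, hi⟩ ⟨j, hj⟩ hij

end OrbSound

end Cfsg.Agent.Helper28
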