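import Cfsg.Agent.Helper28.CosetSound

set_option autoImplicit false

/-!
# The permutation side of a coset certificate, and the final index theorem
-/

namespace Cfsg.Agent.Helper28

theorem flipL_flipL (l : Nat) : flipL (flipL l) = l := by
  rw [flipL_eq, flipL_eq]
  by_cases h : l % 2 = 0
  · rw [if_pos h]
    have : ¬ ((l + 1) % 2 = 0) := by omega
    rw [if_neg this]; omega
  · rw [if_neg h]
    have : (l - 1) % 2 = 0 := by omega
    rw [if_pos this]; omega

theorem flipL_lt (l m : Nat) (h : l < 2 * m) : flipL l < 2 * m := by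
  rw [flipL_eq]
  by_cases h2 : l % 2 = 0
  · rw [if_pos h2]; omega
  · rw [if_neg h2]; omega

theorem flipL_even (k : Nat) : flipL (2 * k) = 2 * k + 1 := by
  rw [flipL_eq]; rw [if_pos (by omega)]

theorem flipL_odd (k : Nat) : flipL (2 * k + 1) = 2 * k := by
  rw [flipL_eq]; rw [if_neg (by omega)]; omega

section Perm

variable (P : PTabs)

theorem invOk_spec (h : invOk P = true) (i l : Nat) (hi : i < P.n) (hl : l < P.L) :
    P.perm l i < P.n ∧ P.perm (flipL l) (P.perm l i) = i := by
  have h1 := allLt_sound _ _ h i hi
  have h2 := allLt_sound _ _ h1 l hl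
  obtain ⟨h3, h4⟩ := brec_false_true h2
  rw [blt_eq] at h3
  rw [nbeq_eq] at h4
  exact ⟨h3, h4⟩

/-- the permutation `i ↦ i · l` of the points -/
noncomputable def permL (hinv : invOk P = true) (m : Nat) (hL : P.L = 2 * m) (l : Nat) : Equiv.Perm (Fin P.n) :=
  if hl : l < P.L then
    { toFun := fun i => ⟨P.perm l i, (invOk_spec P hinv i l i.2 hl).1⟩
      invFun := fun i => ⟨P.perm (flipL l) i,
        (invOk_spec P hinv i (flipL l) i.2 (by rw [hL]; exact flipL_lt l m (by rw [← hL]; exact hl))).1⟩
      left_inv := by
        intro i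
        apply Fin.ext
        exact (invOk_spec P hinv i l i.2 hl).2
      right_inv := by
        intro i
        apply Fin.ext
        have := (invOk_spec P hinv i (flipL l) i.2
          (by rw [hL]; exact flipL_lt l m (by rw [← hL]; exact hl))).2
        rw [flipL_flipL] at this
        exact this }
  else 1

theorem permL_apply (hinv : invOk P = true) (m : Nat) (hL : P.L = 2 * m) (l : Nat) (hl : l < P.L)
    (i : Fin P.n) : ((permL P hinv m hL l) i).val = P.perm l i.val := by
  unfold permL
  rw [dif_pos hl]
  rfl

theorem permL_inv (hinv : invOk P = true) (m : Nat) (hL : P.L = 2 * m) (l : Nat) (hl : l < P.L) :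
    (permL P hinv m hL l)⁻¹ = permL P hinv m hL (flipL l) := by
  have hl' : flipL l < P.L := by rw [hL]; exact flipL_lt l m (by rw [← hL]; exact hl)
  apply Equiv.ext
  intro i
  apply Fin.ext
  rw [permL_apply P hinv m hL (flipL l) hl']
  unfold permL
  rw [dif_pos hl]
  rfl

theorem trace_nil (perm : Nat → Nat → Nat) (i : Nat) : trace perm [] i = i := rfl

theorem trace_cons (perm : Nat → Nat → Nat) (l : Nat) (w : List Nat) (i : Nat) :
    trace perm (l :: w) i = trace perm w (perm l i) := rfl

end Perm

/-! ## Words in the free group -/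

section Words

variable {α : Type} (gen : Nat → α) (ngen : Nat)

/-- the generator with index `k` in the free group (trivial beyond `ngen`) -/
def gF (k : Nat) : FreeGroup α := if k < ngen then FreeGroup.of (gen k) else 1

/-- the free group element spelled by a word of letter codes -/
def ev (w : List Nat) : FreeGroup α := wv (gF gen ngen) w

theorem gF_31 (h : ngen ≤ 31) : gF gen ngen 31 = 1 := by
  unfold gF; rw [if_neg (by omega)]

theorem wv_map {Γ Δ : Type*} [Group Γ] [Group Δ] (f : Γ →* Δ) (g : Nat → Γ) (w : List Nat) :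
    f (wv g w) = wv (fun k => f (g k)) w := by
  induction w with
  | nil => simp [wv_nil]
  | cons x w ih =>
    rw [wv_cons, wv_cons, map_mul, ih]
    congr 1
    unfold lam
    split <;> simp

end Words

/-! ## The homomorphism to the symmetric group -/

section Hom

variable {α : Type} (gen : Nat → α) (idx : α → Nat) (ngen : Nat)
variable (P : PTabs) (hinv : invOk P = true) (hL : P.L = 2 * ngen)

/-- the action of the free group on the points: a generator acts as the table of its inverse letter, so that
`rhoF (ev w)` is the inverse of "trace `w`" -/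
noncomputable def rhoF : FreeGroup α →* Equiv.Perm (Fin P.n) :=
  FreeGroup.lift (fun a => permL P hinv ngen hL (2 * idx a + 1))

theorem rhoF_lam_inv (hidx : ∀ k, k < ngen → idx (gen k) = k) (l : Nat) (hl : l < P.L) :
    (rhoF idx ngen P hinv hL (lam (gF gen ngen) l))⁻¹ = permL P hinv ngen hL l := by
  have hk : l / 2 < ngen := by omega
  unfold lam gF
  rw [if_pos hk]
  by_cases h : l % 2 = 0
  · rw [if_pos h]
    unfold rhoF
    rw [FreeGroup.lift_apply_of, hidx _ hk]
    have e : 2 * (l / 2) + 1 = flipL l := by
      have : l = 2 * (l / 2) := by omega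
      rw [flipL_eq, if_pos h]; omega
    rw [e, permL_inv P hinv ngen hL (flipL l) (by rw [hL]; exact flipL_lt l ngen (by omega)), flipL_flipL]
  · rw [if_neg h, map_inv, inv_inv]
    unfold rhoF
    rw [FreeGroup.lift_apply_of, hidx _ hk]
    have e : 2 * (l / 2) + 1 = l := by omega
    rw [e]

theorem rhoF_ev_inv (hidx : ∀ k, k < ngen → idx (gen k) = k) :
    ∀ (w : List Nat), (∀ l ∈ w, l < P.L) → ∀ i : Fin P.n,
      (((rhoF idx ngen P hinv hL (ev gen ngen w))⁻¹) i).val = trace P.perm w i.val := by
  intro w
  induction w with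
  | nil => intro _ i; simp [ev, wv_nil, trace_nil]
  | cons l w ih =>
    intro hw i
    have hl : l < P.L := hw l (by simp)
    have hw' : ∀ l' ∈ w, l' < P.L := fun l' h' => hw l' (by simp [h'])
    unfold ev at ih ⊢
    rw [wv_cons, map_mul, mul_inv_rev, Equiv.Perm.mul_apply,
      rhoF_lam_inv gen idx ngen P hinv hL hidx l hl, trace_cons]
    rw [ih hw' _, permL_apply P hinv ngen hL l hl]

theorem rhoF_ev_eq_one (hidx : ∀ k, k < ngen → idx (gen k) = k) (w : List Nat)
    (hw : ∀ l ∈ w, l < P.L) (h : relOk P w 0 P.n = true) :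
    rhoF idx ngen P hinv hL (ev gen ngen w) = 1 := by
  have h1 : (rhoF idx ngen P hinv hL (ev gen ngen w))⁻¹ = 1 := by
    apply Equiv.ext
    intro i
    apply Fin.ext
    rw [rhoF_ev_inv gen idx ngen P hinv hL hidx w hw i]
    have := allLt_sound _ _ h i.val i.2
    rw [nbeq_eq] at this
    simpa using this
  simpa using h1

end Hom

end Cfsg.Agent.Helper28
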