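import Cfsg.Agent.Helper28.CosetCheck

set_option autoImplicit false

/-!
# Soundness of the certificate checker (upper bound part)
-/

namespace Cfsg.Agent.Helper28

/-! ## Unfolding lemmas for the recursor-style definitions -/

theorem brec_eq {α : Type} (f t : α) (b : Bool) :
    (Bool.rec (motive := fun _ => α) f t b : α) = if b = true then t else f := by
  cases b <;> rfl

theorem nbeq_eq (a b : Nat) : (Nat.beq a b = true) = (a = b) := by
  apply propext
  constructor
  · exact Nat.eq_of_beq_eq_true
  · rintro rfl; exact Nat.beq_refl a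

theorem flipL_eq (l : Nat) : flipL l = if l % 2 = 0 then l + 1 else l - 1 := by
  unfold flipL
  rw [brec_eq]
  by_cases h : l % 2 = 0
  · have : Nat.beq (Nat.mod l 2) 0 = true := by
      rw [nbeq_eq]; exact h
    rw [if_pos this, if_pos h]
  · have : ¬ (Nat.beq (Nat.mod l 2) 0 = true) := by
      rw [nbeq_eq]; exact h
    rw [if_neg this, if_neg h]; rfl

theorem invL_eq (x : Nat) : invL x = if x = 63 then 63 else flipL x := by
  unfold invL
  rw [brec_eq]
  by_cases h : x = 63
  · have : Nat.beq x 63 = true := by rw [nbeq_eq]; exact h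
    rw [if_pos this, if_pos h]
  · have : ¬ (Nat.beq x 63 = true) := by rw [nbeq_eq]; exact h
    rw [if_neg this, if_neg h]

theorem adv_eq (a x b cur : Nat) (w : List Nat) :
    adv a x b cur w =
      if a = cur then
        (if x = 63 then some (b, w) else
          match w with
          | [] => none
          | y :: w' => if y = x then some (b, w') else none)
      else none := by
  unfold adv
  rw [brec_eq, brec_eq]
  simp only [nbeq_eq]
  by_cases h1 : a = cur
  · rw [if_pos h1, if_pos h1]
    by_cases h2 : x = 63
    · rw [if_pos h2, if_pos h2]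
    · rw [if_neg h2, if_neg h2]
      cases w with
      | nil => rfl
      | cons y w' =>
        show (Bool.rec (motive := fun _ => WRes) none (some (b, w')) (Nat.beq y x)) = _
        rw [brec_eq]
        simp only [nbeq_eq]
  · rw [if_neg h1, if_neg h1]

theorem advDir_eq (dir a x b cur : Nat) (w : List Nat) :
    advDir dir a x b cur w = if dir = 0 then adv a x b cur w else adv b (invL x) a cur w := by
  unfold advDir
  rw [brec_eq]
  simp only [nbeq_eq]

theorem blt_eq (a b : Nat) : (Nat.blt a b = true) = (a < b) := by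
  simp [Nat.blt_eq]

theorem step1_eq (T : Tabs) (k s cur : Nat) (w : List Nat) :
    step1 T k s cur w =
      if Nat.land (Nat.shiftRight s 1) 1 = 0 then
        (if Nat.shiftRight s 2 < k then
          advDir (Nat.land s 1) (fC (T.fact (Nat.shiftRight s 2))) (fL (T.fact (Nat.shiftRight s 2)))
            (fD (T.fact (Nat.shiftRight s 2))) cur w
        else none)
      else
        (if 0 < Nat.shiftRight s 2 then
          (if Nat.shiftRight s 2 < T.M then
            advDir (Nat.land s 1) (dPar (T.defn (Nat.shiftRight s 2))) (dLet (T.defn (Nat.shiftRight s 2)))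
              (Nat.shiftRight s 2) cur w
          else none)
        else none) := by
  unfold step1
  rw [brec_eq, brec_eq, brec_eq, brec_eq]
  simp only [nbeq_eq, blt_eq]

theorem walk_zero (T : Tabs) (k v cur : Nat) (w : List Nat) : walk T k 0 v cur w = some (cur, w) := rfl

theorem walk_succ (T : Tabs) (k ns v cur : Nat) (w : List Nat) :
    walk T k (ns + 1) v cur w =
      match step1 T k (Nat.land v 16777215) cur w with
      | none => none
      | some p => walk T k ns (Nat.shiftRight v 24) p.1 p.2 := by
  show (Option.rec (motive := fun _ => WRes) none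
        (fun p => walk T k ns (Nat.shiftRight v 24) p.1 p.2)
        (step1 T k (Nat.land v 16777215) cur w)) = _
  cases step1 T k (Nat.land v 16777215) cur w <;> rfl

theorem dropGap_eq (l : Nat) (w : List Nat) :
    dropGap l w =
      if l = 63 then some w else
        match w with
        | [] => none
        | y :: w' => if y = l then some w' else none := by
  unfold dropGap
  rw [brec_eq]
  simp only [nbeq_eq]
  by_cases h : l = 63
  · rw [if_pos h, if_pos h]
  · rw [if_neg h, if_neg h]
    cases w with
    | nil => rfl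
    | cons y w' =>
      show (Bool.rec (motive := fun _ => Option (List Nat)) none (some w') (Nat.beq y l)) = _
      rw [brec_eq]
      simp only [nbeq_eq]

theorem isNil_eq (w : List Nat) : (isNil w = true) = (w = []) := by
  cases w <;> simp [isNil]

end Cfsg.Agent.Helper28

namespace Cfsg.Agent.Helper28

/-! ## Semantics -/

section Sem

variable {Γ : Type*} [Group Γ]

/-- value of a letter code: `2k ↦ g k`, `2k+1 ↦ (g k)⁻¹` -/
def lam (g : Nat → Γ) (l : Nat) : Γ := if l % 2 = 0 then g (l / 2) else (g (l / 2))⁻¹

/-- value of a word of letter codes -/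
def wv (g : Nat → Γ) (w : List Nat) : Γ := (w.map (lam g)).prod

theorem wv_nil (g : Nat → Γ) : wv g [] = 1 := rfl

theorem wv_cons (g : Nat → Γ) (x : Nat) (w : List Nat) : wv g (x :: w) = lam g x * wv g w := by
  simp [wv]

theorem wv_append (g : Nat → Γ) (u w : List Nat) : wv g (u ++ w) = wv g u * wv g w := by
  simp [wv]

theorem lam_flipL (g : Nat → Γ) (l : Nat) : lam g (flipL l) = (lam g l)⁻¹ := by
  rw [flipL_eq]
  unfold lam
  by_cases h : l % 2 = 0
  · rw [if_pos h, if_pos h]
    have h1 : ¬ ((l + 1) % 2 = 0) := by omega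
    have h2 : (l + 1) / 2 = l / 2 := by omega
    rw [if_neg h1, h2]
  · rw [if_neg h, if_neg h]
    have h1 : (l - 1) % 2 = 0 := by omega
    have h2 : (l - 1) / 2 = l / 2 := by omega
    rw [if_pos h1, h2, inv_inv]

theorem lam_63 (g : Nat → Γ) (hg : g 31 = 1) : lam g 63 = 1 := by
  unfold lam
  norm_num [hg]

theorem lam_invL (g : Nat → Γ) (hg : g 31 = 1) (x : Nat) : lam g (invL x) = (lam g x)⁻¹ := by
  rw [invL_eq]
  by_cases h : x = 63
  · rw [if_pos h, h, lam_63 g hg, inv_one]
  · rw [if_neg h, lam_flipL]

variable (H : Subgroup Γ) (g : Nat → Γ) (T : Tabs)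

/-- representative of a pre-coset, with fuel -/
def repAux : Nat → Nat → Γ
  | 0, _ => 1
  | k + 1, d => if d = 0 then 1 else repAux k (dPar (T.defn d)) * lam g (dLet (T.defn d))

/-- representative of a pre-coset -/
def rep (d : Nat) : Γ := repAux g T (depthOf T d + 1) d

/-- `H · rep a · x = H · rep b` -/
def Valid (a x b : Nat) : Prop := rep g T a * lam g x * (rep g T b)⁻¹ ∈ H

/-- fact number `f` of the table is valid -/
def VF (f : Nat) : Prop := Valid H g T (fC (T.fact f)) (fL (T.fact f)) (fD (T.fact f))

theorem depthOf_eq (d : Nat) : depthOf T d = if d = 0 then 0 else dDep (T.defn d) := by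
  unfold depthOf
  cases h : Nat.beq d 0
  · have : ¬ d = 0 := by rw [← nbeq_eq]; simp [h]
    simp [this]
  · have : d = 0 := by rw [← nbeq_eq]; exact h
    simp [this]

theorem defOk_spec (d : Nat) (h : defOk T d = true) (hd : d ≠ 0) :
    dPar (T.defn d) < T.M ∧ depthOf T (dPar (T.defn d)) < dDep (T.defn d) := by
  unfold defOk at h
  have h0 : Nat.beq d 0 = false := by
    cases hb : Nat.beq d 0
    · rfl
    · exact absurd ((nbeq_eq d 0).mp hb) hd
  rw [h0] at h
  simp only at h
  split at h
  · exact absurd h (by simp)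
  · next h1 =>
    split at h
    · exact absurd h (by simp)
    · next h2 =>
      rw [blt_eq] at h1 h2
      exact ⟨h1, h2⟩

theorem rep_zero : rep g T 0 = 1 := by
  unfold rep repAux
  simp

theorem repAux_indep (hdefs : checkDefs T = true) :
    ∀ k k' d : Nat, d < T.M → depthOf T d < k → depthOf T d < k' → repAux g T k d = repAux g T k' d := by
  intro k
  induction k with
  | zero => intro k' d _ h; omega
  | succ k ih =>
    intro k' d hd h1 h2
    cases k' with
    | zero => omega
    | succ k' =>
      unfold repAux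
      by_cases h0 : d = 0
      · rw [if_pos h0, if_pos h0]
      · rw [if_neg h0, if_neg h0]
        have hok := allLt_sound _ _ hdefs d hd
        obtain ⟨hp, hdep⟩ := defOk_spec T d hok h0
        have hdd : depthOf T d = dDep (T.defn d) := by rw [depthOf_eq, if_neg h0]
        rw [ih k' (dPar (T.defn d)) hp (by omega) (by omega)]

theorem rep_def (hdefs : checkDefs T = true) (d : Nat) (h0 : 0 < d) (hd : d < T.M) :
    rep g T d = rep g T (dPar (T.defn d)) * lam g (dLet (T.defn d)) := by
  have hne : d ≠ 0 := by omega
  have hok := allLt_sound _ _ hdefs d hd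
  obtain ⟨hp, hdep⟩ := defOk_spec T d hok hne
  have hdd : depthOf T d = dDep (T.defn d) := by rw [depthOf_eq, if_neg hne]
  have e1 : rep g T d = repAux g T (depthOf T d) (dPar (T.defn d)) * lam g (dLet (T.defn d)) := by
    show repAux g T (depthOf T d + 1) d = _
    rw [repAux, if_neg hne]
  rw [e1]
  congr 1
  show _ = repAux g T (depthOf T (dPar (T.defn d)) + 1) (dPar (T.defn d))
  exact repAux_indep g T hdefs _ _ _ hp (by omega) (by omega)

theorem valid_def (hdefs : checkDefs T = true) (d : Nat) (h0 : 0 < d) (hd : d < T.M) :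
    Valid H g T (dPar (T.defn d)) (dLet (T.defn d)) d := by
  unfold Valid
  rw [rep_def g T hdefs d h0 hd]
  simp

theorem valid_rev (hg : g 31 = 1) (a x b : Nat) (h : Valid H g T a x b) : Valid H g T b (invL x) a := by
  unfold Valid at h ⊢
  rw [lam_invL g hg]
  have : rep g T b * (lam g x)⁻¹ * (rep g T a)⁻¹ = (rep g T a * lam g x * (rep g T b)⁻¹)⁻¹ := by group
  rw [this]
  exact H.inv_mem h

/-- the relation established by a successful walk -/
def Reach (cur : Nat) (w : List Nat) (c' : Nat) (w' : List Nat) : Prop :=
  ∃ p : List Nat, w = p ++ w' ∧ rep g T cur * wv g p * (rep g T c')⁻¹ ∈ H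

theorem reach_refl (cur : Nat) (w : List Nat) : Reach H g T cur w cur w :=
  ⟨[], rfl, by simp [wv_nil]⟩

theorem reach_trans {c1 c2 c3 : Nat} {w1 w2 w3 : List Nat} (h1 : Reach H g T c1 w1 c2 w2)
    (h2 : Reach H g T c2 w2 c3 w3) : Reach H g T c1 w1 c3 w3 := by
  obtain ⟨p, hp, hp'⟩ := h1
  obtain ⟨q, hq, hq'⟩ := h2
  refine ⟨p ++ q, by rw [hp, hq, List.append_assoc], ?_⟩
  rw [wv_append]
  have : rep g T c1 * (wv g p * wv g q) * (rep g T c3)⁻¹ =
      (rep g T c1 * wv g p * (rep g T c2)⁻¹) * (rep g T c2 * wv g q * (rep g T c3)⁻¹) := by group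
  rw [this]
  exact H.mul_mem hp' hq'

theorem adv_sound (hg : g 31 = 1) (a x b cur : Nat) (w : List Nat) (c' : Nat) (w' : List Nat)
    (h : adv a x b cur w = some (c', w')) (hv : Valid H g T a x b) : Reach H g T cur w c' w' := by
  rw [adv_eq] at h
  by_cases h1 : a = cur
  · rw [if_pos h1] at h
    subst h1
    by_cases h2 : x = 63
    · rw [if_pos h2] at h
      simp only [Option.some.injEq, Prod.mk.injEq] at h
      obtain ⟨rfl, rfl⟩ := h
      refine ⟨[], rfl, ?_⟩
      unfold Valid at hv
      rw [h2, lam_63 g hg] at hv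
      simpa [wv_nil] using hv
    · rw [if_neg h2] at h
      cases w with
      | nil => simp at h
      | cons y w'' =>
        simp only at h
        by_cases h3 : y = x
        · rw [if_pos h3] at h
          simp only [Option.some.injEq, Prod.mk.injEq] at h
          obtain ⟨rfl, rfl⟩ := h
          refine ⟨[x], by rw [h3]; rfl, ?_⟩
          unfold Valid at hv
          simpa [wv_cons, wv_nil] using hv
        · rw [if_neg h3] at h
          simp at h
  · rw [if_neg h1] at h
    simp at h

theorem advDir_sound (hg : g 31 = 1) (dir a x b cur : Nat) (w : List Nat) (c' : Nat) (w' : List Nat)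
    (h : advDir dir a x b cur w = some (c', w')) (hv : Valid H g T a x b) : Reach H g T cur w c' w' := by
  rw [advDir_eq] at h
  by_cases hd : dir = 0
  · rw [if_pos hd] at h
    exact adv_sound H g T hg a x b cur w c' w' h hv
  · rw [if_neg hd] at h
    exact adv_sound H g T hg b (invL x) a cur w c' w' h (valid_rev H g T hg a x b hv)

theorem step1_sound (hg : g 31 = 1) (hdefs : checkDefs T = true) (k : Nat)
    (hk : ∀ f, f < k → VF H g T f) (s cur : Nat) (w : List Nat) (c' : Nat) (w' : List Nat)
    (h : step1 T k s cur w = some (c', w')) : Reach H g T cur w c' w' := by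
  rw [step1_eq] at h
  split at h
  · split at h
    · next hlt => exact advDir_sound H g T hg _ _ _ _ cur w c' w' h (hk _ hlt)
    · simp at h
  · split at h
    · next h0 =>
      split at h
      · next hM => exact advDir_sound H g T hg _ _ _ _ cur w c' w' h (valid_def H g T hdefs _ h0 hM)
      · simp at h
    · simp at h

theorem walk_sound (hg : g 31 = 1) (hdefs : checkDefs T = true) (k : Nat)
    (hk : ∀ f, f < k → VF H g T f) :
    ∀ (ns v cur : Nat) (w : List Nat) (c' : Nat) (w' : List Nat),
      walk T k ns v cur w = some (c', w') → Reach H g T cur w c' w' := by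
  intro ns
  induction ns with
  | zero =>
    intro v cur w c' w' h
    rw [walk_zero] at h
    simp only [Option.some.injEq, Prod.mk.injEq] at h
    obtain ⟨rfl, rfl⟩ := h
    exact reach_refl H g T _ _
  | succ ns ih =>
    intro v cur w c' w' h
    rw [walk_succ] at h
    split at h
    · simp at h
    · next p hp =>
      have h1 := step1_sound H g T hg hdefs k hk _ cur w p.1 p.2 hp
      exact reach_trans H g T h1 (ih _ _ _ _ _ h)

end Sem

end Cfsg.Agent.Helper28

namespace Cfsg.Agent.Helper28

section Sem2

variable {Γ : Type*} [Group Γ] (H : Subgroup Γ) (g : Nat → Γ) (T : Tabs)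

theorem orec_eq {α β : Type} (n : β) (s : α → β) (o : Option α) :
    (Option.rec (motive := fun _ => β) n s o : β) = match o with | none => n | some a => s a := by
  cases o <;> rfl

theorem brec_false_true {t : Bool} {b : Bool}
    (h : (Bool.rec (motive := fun _ => Bool) false t b : Bool) = true) : b = true ∧ t = true := by
  cases b
  · exact absurd h (by simp)
  · exact ⟨rfl, h⟩

theorem orec_false_true {α : Type} {s : α → Bool} {o : Option α}
    (h : (Option.rec (motive := fun _ => Bool) false s o : Bool) = true) : ∃ a, o = some a ∧ s a = true := by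
  cases o with
  | none => exact absurd h (by simp)
  | some a => exact ⟨a, rfl, h⟩

theorem subcond (a b S : Nat)
    (h : (Bool.rec (motive := fun _ => Bool) (Nat.beq S 0) true (Nat.ble a b) : Bool) = true) :
    a ≤ b ∨ S = 0 := by
  cases h2 : Nat.ble a b
  · rw [h2] at h
    exact Or.inr ((nbeq_eq S 0).mp h)
  · exact Or.inl (Nat.le_of_ble_eq_true h2)

theorem checkInf_sound (hg : g 31 = 1) (hdefs : checkDefs T = true)
    (hsub : ∀ r, r < T.nsub → wv g (T.word r) ∈ H)
    (hrel : ∀ r, T.nsub ≤ r → r < T.nwords → wv g (T.word r) = 1)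
    (k : Nat) (hk : ∀ f, f < k → VF H g T f) (rel S nf vf nb vb : Nat)
    (h : checkInf T k rel S nf vf nb vb = true) : VF H g T k := by
  unfold checkInf at h
  obtain ⟨h1, h⟩ := brec_false_true h
  rw [blt_eq] at h1
  obtain ⟨h2', h⟩ := brec_false_true h
  have h2 := subcond _ _ _ h2'
  obtain ⟨p1, hw1, h⟩ := orec_false_true h
  obtain ⟨h3, h⟩ := brec_false_true h
  rw [nbeq_eq] at h3
  obtain ⟨w2, hdg, h⟩ := orec_false_true h
  obtain ⟨p3, hw3, h⟩ := orec_false_true h
  obtain ⟨h4, h⟩ := brec_false_true h
  rw [nbeq_eq] at h4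
  rw [isNil_eq] at h
  -- collect the facts
  obtain ⟨p, hp, hpH⟩ := walk_sound H g T hg hdefs k hk _ _ _ _ _ _ hw1
  obtain ⟨q, hq, hqH⟩ := walk_sound H g T hg hdefs k hk _ _ _ _ _ _ hw3
  rw [h] at hq
  rw [List.append_nil] at hq
  rw [h3] at hpH
  rw [h4] at hqH
  -- the relator value
  have hR : rep g T S * wv g (T.word rel) * (rep g T S)⁻¹ ∈ H := by
    by_cases hr : T.nsub ≤ rel
    · rw [hrel rel hr h1]; simp
    · have hS : S = 0 := by
        rcases h2 with h2 | h2
        · exact absurd h2 hr
        · exact h2
      rw [hS, rep_zero]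
      simpa using hsub rel (by omega)
  -- the gap
  rw [dropGap_eq] at hdg
  unfold VF Valid
  by_cases hl : fL (T.fact k) = 63
  · rw [if_pos hl] at hdg
    simp only [Option.some.injEq] at hdg
    rw [hl, lam_63 g hg]
    rw [hp, hdg, hq, wv_append] at hR
    have : rep g T (fC (T.fact k)) * 1 * (rep g T (fD (T.fact k)))⁻¹ =
        (rep g T S * wv g p * (rep g T (fC (T.fact k)))⁻¹)⁻¹ *
          (rep g T S * (wv g p * wv g q) * (rep g T S)⁻¹) *
          (rep g T (fD (T.fact k)) * wv g q * (rep g T S)⁻¹)⁻¹ := by group
    rw [this]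
    exact H.mul_mem (H.mul_mem (H.inv_mem hpH) hR) (H.inv_mem hqH)
  · rw [if_neg hl] at hdg
    cases hp2 : p1.2 with
    | nil => rw [hp2] at hdg; simp at hdg
    | cons y w' =>
      rw [hp2] at hdg
      simp only at hdg
      by_cases hy : y = fL (T.fact k)
      · rw [if_pos hy] at hdg
        simp only [Option.some.injEq] at hdg
        rw [hp, hp2, hy, hdg, hq, wv_append, wv_cons] at hR
        have : rep g T (fC (T.fact k)) * lam g (fL (T.fact k)) * (rep g T (fD (T.fact k)))⁻¹ =
            (rep g T S * wv g p * (rep g T (fC (T.fact k)))⁻¹)⁻¹ *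
              (rep g T S * (wv g p * (lam g (fL (T.fact k)) * wv g q)) * (rep g T S)⁻¹) *
              (rep g T (fD (T.fact k)) * wv g q * (rep g T S)⁻¹)⁻¹ := by group
        rw [this]
        exact H.mul_mem (H.mul_mem (H.inv_mem hpH) hR) (H.inv_mem hqH)
      · rw [if_neg hy] at hdg
        simp at hdg

theorem checkChunk_zero (k v : Nat) : checkChunk T 0 k v = true := rfl

theorem checkChunk_succ (cnt k v : Nat) :
    checkChunk T (cnt + 1) k v =
      if checkInf T k (Nat.land v 255) (Nat.land (Nat.shiftRight v 8) 1048575)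
          (Nat.land (Nat.shiftRight v 28) 255) (Nat.shiftRight v 44)
          (Nat.land (Nat.shiftRight v 36) 255)
          (Nat.shiftRight (Nat.shiftRight v 44) (Nat.mul 24 (Nat.land (Nat.shiftRight v 28) 255))) = true then
        checkChunk T cnt (Nat.succ k)
          (Nat.shiftRight (Nat.shiftRight (Nat.shiftRight v 44) (Nat.mul 24 (Nat.land (Nat.shiftRight v 28) 255)))
            (Nat.mul 24 (Nat.land (Nat.shiftRight v 36) 255)))
      else false := by
  show (Bool.rec (motive := fun _ => Bool) false _ _) = _
  rw [brec_eq]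
  rfl

theorem checkChunk_sound (hg : g 31 = 1) (hdefs : checkDefs T = true)
    (hsub : ∀ r, r < T.nsub → wv g (T.word r) ∈ H)
    (hrel : ∀ r, T.nsub ≤ r → r < T.nwords → wv g (T.word r) = 1) :
    ∀ (cnt k v : Nat), (∀ f, f < k → VF H g T f) → checkChunk T cnt k v = true →
      ∀ f, f < k + cnt → VF H g T f := by
  intro cnt
  induction cnt with
  | zero => intro k v hk _ f hf; exact hk f (by omega)
  | succ cnt ih =>
    intro k v hk h f hf
    rw [checkChunk_succ] at h
    split at h
    · next hinf =>
      have hvk := checkInf_sound H g T hg hdefs hsub hrel k hk _ _ _ _ _ _ hinf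
      have hk' : ∀ f, f < Nat.succ k → VF H g T f := by
        intro f hf
        rcases Nat.lt_succ_iff_lt_or_eq.mp hf with h1 | h1
        · exact hk f h1
        · rw [h1]; exact hvk
      exact ih (Nat.succ k) _ hk' h f (by omega)
    · simp at h

theorem checkChunks_nil (k kend : Nat) : checkChunks T [] k kend = Nat.beq k kend := rfl

theorem checkChunks_cons (v : Nat) (vs : List Nat) (k kend : Nat) :
    checkChunks T (v :: vs) k kend =
      if checkChunk T (Nat.land v 255) k (Nat.shiftRight v 8) = true then
        checkChunks T vs (Nat.add k (Nat.land v 255)) kend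
      else false := by
  show (Bool.rec (motive := fun _ => Bool) false _ _) = _
  rw [brec_eq]
  rfl

theorem checkChunks_sound (hg : g 31 = 1) (hdefs : checkDefs T = true)
    (hsub : ∀ r, r < T.nsub → wv g (T.word r) ∈ H)
    (hrel : ∀ r, T.nsub ≤ r → r < T.nwords → wv g (T.word r) = 1) :
    ∀ (vs : List Nat) (k kend : Nat), (∀ f, f < k → VF H g T f) → checkChunks T vs k kend = true →
      ∀ f, f < kend → VF H g T f := by
  intro vs
  induction vs with
  | nil =>
    intro k kend hk h f hf
    rw [checkChunks_nil, nbeq_eq] at h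
    exact hk f (by omega)
  | cons v vs ih =>
    intro k kend hk h f hf
    rw [checkChunks_cons] at h
    split at h
    · next hc =>
      have := checkChunk_sound H g T hg hdefs hsub hrel _ k _ hk hc
      exact ih _ kend this h f hf
    · simp at h

end Sem2

end Cfsg.Agent.Helper28
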