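import Cfsg.Agent.Helper28.CosetFun

set_option autoImplicit false

/-!
# Cheaper relator checks

* The Coxeter relator of an ordered pair `(y, x)` is a conjugate of that of `(x, y)`, so only the pairs with
  `idx x ≤ idx y` have to be traced.
* Long relators may be traced through *macro letters*: further letter codes `x ≥ L` whose tables are checked
  to agree with the trace of a word over the proper letters.
* Versions of the main theorems that take the vanishing of the relators as a hypothesis.
-/

namespace Cfsg.Agent.Helper28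

open Cfsg.Spor

section Sym

variable {α : Type} [DecidableEq α]

theorem coxLabel_comm (edges : List (α × ℕ × α)) (x y : α) : coxLabel edges x y = coxLabel edges y x := by
  unfold coxLabel
  by_cases h : x = y
  · subst h; rfl
  · have h' : ¬ y = x := fun e => h e.symm
    rw [if_neg h, if_neg h']
    have e : (fun e : α × ℕ × α => decide ((e.1 = x ∧ e.2.2 = y) ∨ (e.1 = y ∧ e.2.2 = x))) =
        (fun e : α × ℕ × α => decide ((e.1 = y ∧ e.2.2 = x) ∨ (e.1 = x ∧ e.2.2 = y))) := by
      funext e
      exact decide_eq_decide.mpr or_comm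
    rw [e]

variable {edges : List (α × ℕ × α)} {extra : List (FreeGroup α)} {Ylist : List (FreeGroup α)}
variable {gen : Nat → α} {idx : α → Nat} {ngen : Nat} {T : Tabs} {P : PTabs}

theorem Layout.hrels_sym (hinv : invOk P = true) (lay : Layout edges extra Ylist gen idx ngen T P)
    (hpermC : ∀ ix iy, ix ≤ iy → iy < ngen → relOk P (T.word (T.nsub + ix * ngen + iy)) 0 P.n = true)
    (hpermE : ∀ j, j < extra.length → relOk P (T.word (T.nsub + ngen * ngen + j)) 0 P.n = true) :
    ∀ r ∈ coxRels edges extra, rhoF idx ngen P hinv lay.hL r = 1 := by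
  -- ordered pairs with `idx x ≤ idx y`
  have key : ∀ x ∈ coxNodes edges, ∀ y ∈ coxNodes edges, idx x ≤ idx y →
      rhoF idx ngen P hinv lay.hL ((FreeGroup.of x * FreeGroup.of y) ^ coxLabel edges x y) = 1 := by
    intro x hx y hy hxy
    have hix := (lay.hgi x).1
    have hiy := (lay.hgi y).1
    have e : (FreeGroup.of x * FreeGroup.of y) ^ coxLabel edges x y =
        ev gen ngen (T.word (T.nsub + idx x * ngen + idx y)) := by
      rw [lay.hcoxw _ hix _ hiy, ev_coxW gen ngen _ _ _ hix hiy, (lay.hgi x).2, (lay.hgi y).2]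
      unfold lab
      rw [(lay.hgi x).2, (lay.hgi y).2, if_pos ⟨hx, hy⟩]
    rw [e]
    have hlt : T.nsub + idx x * ngen + idx y < T.nsub + ngen * ngen := by
      have : idx x * ngen + idx y < ngen * ngen := by
        calc idx x * ngen + idx y < idx x * ngen + ngen := by omega
          _ = (idx x + 1) * ngen := by ring
          _ ≤ ngen * ngen := Nat.mul_le_mul_right _ hix
      omega
    apply rhoF_ev_eq_one gen idx ngen P hinv lay.hL lay.hig
    · exact lay.hletters _ (by rw [lay.hnwords]; omega)
    · exact hpermC _ _ hxy hiy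
  intro r hr
  rcases hr with hr | hr
  · obtain ⟨x, hx, y, hy, rfl⟩ := hr
    by_cases hxy : idx x ≤ idx y
    · exact key x hx y hy hxy
    · have h1 := key y hy x hx (by omega)
      rw [coxLabel_comm edges x y]
      have e : FreeGroup.of x * FreeGroup.of y =
          (FreeGroup.of y)⁻¹ * (FreeGroup.of y * FreeGroup.of x) * ((FreeGroup.of y)⁻¹)⁻¹ := by group
      rw [e, conj_pow, map_mul, map_mul, h1, mul_one, ← map_mul, mul_inv_cancel, map_one]
  · have hr' : r ∈ extra := hr
    obtain ⟨j, hj, rfl⟩ := List.getElem_of_mem hr'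
    have e : extra[j] = ev gen ngen (T.word (T.nsub + ngen * ngen + j)) := by
      rw [lay.hextra j hj, List.getD_eq_getElem _ _ hj]
    rw [e]
    apply rhoF_ev_eq_one gen idx ngen P hinv lay.hL lay.hig
    · exact lay.hletters _ (by rw [lay.hnwords]; omega)
    · exact hpermE j hj

end Sym

/-! ## Macro letters -/

section Macro

theorem trace_append (perm : Nat → Nat → Nat) (u v : List Nat) :
    ∀ i, trace perm (u ++ v) i = trace perm v (trace perm u i) := by
  induction u with
  | nil => intro i; rfl
  | cons l u ih =>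
    intro i
    show trace perm (u ++ v) (perm l i) = trace perm v (trace perm u (perm l i))
    exact ih _

theorem trace_lt (P : PTabs) (hinv : invOk P = true) (w : List Nat) (hw : ∀ l ∈ w, l < P.L) :
    ∀ i, i < P.n → trace P.perm w i < P.n := by
  induction w with
  | nil => intro i hi; exact hi
  | cons l w ih =>
    intro i hi
    show trace P.perm w (P.perm l i) < P.n
    exact ih (fun l' h' => hw l' (by simp [h'])) _ (invOk_spec P hinv i l hi (hw l (by simp))).1

/-- tracing a word over the extended alphabet equals tracing its expansion -/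
theorem trace_flatMap (P : PTabs) (hinv : invOk P = true) (ex : Nat → List Nat) (LX : Nat)
    (hb : ∀ l, l < P.L → ex l = [l])
    (hm : ∀ x, P.L ≤ x → x < LX →
      (∀ l ∈ ex x, l < P.L) ∧ ∀ i, i < P.n → P.perm x i = trace P.perm (ex x) i)
    (W : List Nat) (hW : ∀ x ∈ W, x < LX) :
    ∀ i, i < P.n → trace P.perm (W.flatMap ex) i = trace P.perm W i ∧ trace P.perm W i < P.n := by
  induction W with
  | nil => intro i hi; exact ⟨rfl, hi⟩
  | cons x W ih =>
    intro i hi
    have hW' : ∀ y ∈ W, y < LX := fun y h' => hW y (by simp [h'])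
    have hx : x < LX := hW x (by simp)
    have hstep : trace P.perm (ex x) i = P.perm x i ∧ P.perm x i < P.n := by
      by_cases c : x < P.L
      · rw [hb x c]
        exact ⟨rfl, (invOk_spec P hinv i x hi c).1⟩
      · obtain ⟨h1, h2⟩ := hm x (by omega) hx
        have h3 := trace_lt P hinv _ h1 i hi
        rw [← h2 i hi] at h3
        exact ⟨(h2 i hi).symm, h3⟩
    rw [List.flatMap_cons, trace_append, hstep.1]
    exact ih hW' _ hstep.2

/-- the table of the macro letter `x` agrees with the trace of the word `widx` on `lo ≤ i < lo + cnt` -/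
noncomputable def macroPieceF (word : Nat → List Nat) (tab : Nat → Nat → Nat) (x widx plo pcnt : Nat) : Bool :=
  allLtFrom (fun i => Nat.beq (tab x i) (traceF ((word widx).map tab) i)) plo pcnt

/-- the table of the macro letter `x` agrees with the trace of the word `widx` below `hi` -/
def MacroOk (perm : Nat → Nat → Nat) (word : Nat → List Nat) (x widx hi : Nat) : Prop :=
  ∀ i, i < hi → perm x i = trace perm (word widx) i

theorem macroOk_zero (perm : Nat → Nat → Nat) (word : Nat → List Nat) (x widx : Nat) :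
    MacroOk perm word x widx 0 := fun i hi => absurd hi (Nat.not_lt_zero i)

theorem macroOk_extend (perm : Nat → Nat → Nat) (word : Nat → List Nat) (tab : Nat → Nat → Nat)
    (hperm : ∀ l i, perm l i = tab l i) (x widx lo cnt hi : Nat) (hhi : lo + cnt = hi)
    (h1 : MacroOk perm word x widx lo) (h2 : macroPieceF word tab x widx lo cnt = true) :
    MacroOk perm word x widx hi := by
  intro i hi'
  by_cases c : i < lo
  · exact h1 i c
  · have h4 := allLtFrom_sound _ _ _ h2 i (by omega) (by omega)
    rw [nbeq_eq] at h4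
    rw [trace_eq_traceF perm tab hperm, hperm]
    exact h4

/-- a relator that is the expansion of a word over the extended alphabet which fixes all points -/
theorem relOk_of_macro (P : PTabs) (hinv : invOk P = true) (word : Nat → List Nat) (ex : Nat → List Nat)
    (LX : Nat) (hb : ∀ l, l < P.L → ex l = [l])
    (hm : ∀ x, P.L ≤ x → x < LX →
      (∀ l ∈ ex x, l < P.L) ∧ ∀ i, i < P.n → P.perm x i = trace P.perm (ex x) i)
    (r wW : Nat) (hWlt : ∀ x ∈ word wW, x < LX) (hexp : word r = (word wW).flatMap ex)
    (hfix : TraceFix P.perm word wW 1 P.n) : relOk P (word r) 0 P.n = true := by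
  apply allLt_complete
  intro i hi
  rw [nbeq_eq]
  have e : Nat.add 0 i = i := by show 0 + i = i; omega
  rw [e, hexp, (trace_flatMap P hinv ex LX hb hm _ hWlt i hi).1]
  exact hfix wW (le_refl _) (by omega) i hi

end Macro

/-! ## Main theorems with the relators as a hypothesis -/

section Gen

variable {α : Type} [DecidableEq α]
variable {edges : List (α × ℕ × α)} {extra : List (FreeGroup α)} {Ylist : List (FreeGroup α)}
variable {gen : Nat → α} {idx : α → Nat} {ngen : Nat} {T : Tabs} {P : PTabs}

theorem cox_cert' (hinv : invOk P = true) (lay : Layout edges extra Ylist gen idx ngen T P) (hn : 0 < P.n)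
    (hdefs : checkDefs T = true) (F : Nat)
    (hfacts : ∀ f, f < F → VF (HH (coxRels edges extra) {y | y ∈ Ylist}) (gG (coxRels edges extra) gen ngen) T f)
    (hfin : checkFin T P F = true)
    (hpar : parOk P = true)
    (hrels : ∀ r ∈ coxRels edges extra, rhoF idx ngen P hinv lay.hL r = 1)
    (hsubfix : ∀ r, r < T.nsub → relOk P (T.word r) 0 1 = true) :
    (HH (coxRels edges extra) {y | y ∈ Ylist}).index = P.n ∧
      (∀ y : PresentedGroup (coxRels edges extra),
        rhoG (coxRels edges extra) idx ngen P hinv lay.hL hrels y ⟨0, hn⟩ = ⟨0, hn⟩ ↔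
          y ∈ HH (coxRels edges extra) {y | y ∈ Ylist}) ∧
      (∀ x : Fin P.n, ∃ y : PresentedGroup (coxRels edges extra),
        rhoG (coxRels edges extra) idx ngen P hinv lay.hL hrels y ⟨0, hn⟩ = x) := by
  apply cert_main (coxRels edges extra) {y | y ∈ Ylist} gen idx ngen T P hinv lay.hL lay.hngen lay.hgi lay.hig hn
    ?_ hdefs F hfacts hfin hpar
  intro y hy
  have hy' : y ∈ Ylist := hy
  obtain ⟨s, hs, rfl⟩ := List.getElem_of_mem hy'
  have hs' : s < T.nsub := by rw [lay.hnsub]; exact hs
  refine ⟨s, hs', lay.hletters s (by rw [lay.hnwords]; omega), ?_, hsubfix s hs'⟩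
  rw [lay.hY s hs', List.getD_eq_getElem _ _ hs]

theorem orb_sound' (hinv : invOk P = true) (lay : Layout edges extra Ylist gen idx ngen T P)
    (hrels : ∀ r ∈ coxRels edges extra, rhoF idx ngen P hinv lay.hL r = 1)
    (orb : Nat → Nat) (horb : checkOrb T P orb = true) :
    (∀ h ∈ HH (coxRels edges extra) {y | y ∈ Ylist}, ∀ i : Fin P.n,
      oRoot (orb (rhoG (coxRels edges extra) idx ngen P hinv lay.hL hrels h i).val) =
        oRoot (orb i.val)) ∧
    (∀ i j : Fin P.n, oRoot (orb i.val) = oRoot (orb j.val) →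
      ∃ h ∈ HH (coxRels edges extra) {y | y ∈ Ylist},
        rhoG (coxRels edges extra) idx ngen P hinv lay.hL hrels h i = j) := by
  have hlet : ∀ s, s < T.nsub → ∀ l ∈ T.word s, l < P.L := fun s hs =>
    lay.hletters s (by rw [lay.hnwords]; omega)
  have hgenInv : ∀ s, s < T.nsub → ∀ i : Fin P.n,
      oRoot (orb (((rhoF idx ngen P hinv lay.hL (ev gen ngen (T.word s)))⁻¹) i).val) = oRoot (orb i.val) := by
    intro s hs i
    rw [rhoF_ev_inv gen idx ngen P hinv lay.hL lay.hig (T.word s) (hlet s hs) i]
    have h1 := allLt_sound _ _ horb i.val i.2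
    unfold orbOk at h1
    obtain ⟨h2, -⟩ := brec_false_true h1
    have h3 := allLt_sound _ _ h2 s hs
    rw [nbeq_eq] at h3
    exact h3
  have hgen : ∀ s, s < T.nsub → ∀ i : Fin P.n,
      oRoot (orb ((rhoF idx ngen P hinv lay.hL (ev gen ngen (T.word s))) i).val) = oRoot (orb i.val) := by
    intro s hs i
    have := hgenInv s hs ((rhoF idx ngen P hinv lay.hL (ev gen ngen (T.word s))) i)
    rw [perm_inv_apply_self] at this
    exact this.symm
  have hclF : ∀ x : FreeGroup α, x ∈ Subgroup.closure {y | y ∈ Ylist} → ∀ i : Fin P.n,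
      oRoot (orb ((rhoF idx ngen P hinv lay.hL x) i).val) = oRoot (orb i.val) := by
    intro x hx
    induction hx using Subgroup.closure_induction with
    | mem y hy =>
      have hy' : y ∈ Ylist := hy
      obtain ⟨s, hs, rfl⟩ := List.getElem_of_mem hy'
      have hs' : s < T.nsub := by rw [lay.hnsub]; exact hs
      have e : Ylist[s] = ev gen ngen (T.word s) := by
        rw [lay.hY s hs', List.getD_eq_getElem _ _ hs]
      rw [e]
      exact hgen s hs'
    | one => intro i; simp
    | mul a b _ _ ha hb => intro i; rw [map_mul, Equiv.Perm.mul_apply, ha, hb]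
    | inv a _ ha =>
      intro i
      have := ha ((rhoF idx ngen P hinv lay.hL a)⁻¹ i)
      rw [perm_apply_inv_self] at this
      rw [map_inv]
      exact this.symm
  have hinvar : ∀ h ∈ HH (coxRels edges extra) {y | y ∈ Ylist}, ∀ i : Fin P.n,
      oRoot (orb (rhoG (coxRels edges extra) idx ngen P hinv lay.hL hrels h i).val) =
        oRoot (orb i.val) := by
    intro h hh i
    obtain ⟨x, hx, rfl⟩ := Subgroup.mem_map.mp hh
    rw [rhoG_mk]
    exact hclF x hx i
  refine ⟨hinvar, ?_⟩
  have hroot : ∀ d, ∀ i : Fin P.n, oDep (orb i.val) = d →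
      ∃ h ∈ HH (coxRels edges extra) {y | y ∈ Ylist}, ∃ k : Fin P.n, k.val = oRoot (orb i.val) ∧
        rhoG (coxRels edges extra) idx ngen P hinv lay.hL hrels h k = i := by
    intro d
    induction d using Nat.strong_induction_on with
    | _ d ih =>
      intro i hd
      have h1 := allLt_sound _ _ horb i.val i.2
      unfold orbOk at h1
      obtain ⟨-, h2⟩ := brec_false_true h1
      rcases brec_cases h2 with ⟨-, h3⟩ | ⟨-, h3⟩
      · obtain ⟨hp, h3⟩ := brec_false_true h3
        obtain ⟨hs, h3⟩ := brec_false_true h3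
        obtain ⟨hdep, h3⟩ := brec_false_true h3
        rw [blt_eq] at hp hs hdep
        rw [nbeq_eq] at h3
        obtain ⟨h', hh', k, hk, hkp⟩ := ih _ (by rw [← hd]; exact hdep) ⟨oPar (orb i.val), hp⟩ rfl
        have hi : ((rhoF idx ngen P hinv lay.hL (ev gen ngen (T.word (oGen (orb i.val)))))⁻¹)
            ⟨oPar (orb i.val), hp⟩ = i := by
          apply Fin.ext
          rw [rhoF_ev_inv gen idx ngen P hinv lay.hL lay.hig _ (hlet _ hs)]
          exact h3
        have hrt : oRoot (orb i.val) = oRoot (orb (oPar (orb i.val))) := by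
          have := hgenInv _ hs ⟨oPar (orb i.val), hp⟩
          rw [hi] at this
          exact this
        refine ⟨(PresentedGroup.mk (coxRels edges extra) (ev gen ngen (T.word (oGen (orb i.val)))))⁻¹ * h',
          Subgroup.mul_mem _ (Subgroup.inv_mem _ (Subgroup.mem_map_of_mem _
            (Subgroup.subset_closure (lay.hYw _ hs)))) hh', k, by rw [hk, hrt], ?_⟩
        rw [map_mul, Equiv.Perm.mul_apply, hkp, map_inv, rhoG_mk]
        exact hi
      · rw [nbeq_eq] at h3
        exact ⟨1, Subgroup.one_mem _, i, h3.symm, by simp⟩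
  intro i j hij
  obtain ⟨hi, hhi, ki, hki, hki'⟩ := hroot _ i rfl
  obtain ⟨hj, hhj, kj, hkj, hkj'⟩ := hroot _ j rfl
  have hk : ki = kj := by
    apply Fin.ext
    rw [hki, hkj, hij]
  refine ⟨hj * hi⁻¹, Subgroup.mul_mem _ hhj (Subgroup.inv_mem _ hhi), ?_⟩
  rw [map_mul, Equiv.Perm.mul_apply, map_inv, ← hki', perm_inv_apply_self, hk, hkj']

theorem cox_orbits' (hinv : invOk P = true) (lay : Layout edges extra Ylist gen idx ngen T P) (hn : 0 < P.n)
    (hdefs : checkDefs T = true) (F : Nat)
    (hfacts : ∀ f, f < F → VF (HH (coxRels edges extra) {y | y ∈ Ylist}) (gG (coxRels edges extra) gen ngen) T f)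
    (hfin : checkFin T P F = true)
    (hpar : parOk P = true)
    (hrels : ∀ r ∈ coxRels edges extra, rhoF idx ngen P hinv lay.hL r = 1)
    (hsubfix : ∀ r, r < T.nsub → relOk P (T.word r) 0 1 = true)
    (orb : Nat → Nat) (horb : checkOrb T P orb = true) :
    (HH (coxRels edges extra) {y | y ∈ Ylist}).index = P.n ∧
    ∃ qOf : Nat → PresentedGroup (coxRels edges extra) ⧸ HH (coxRels edges extra) {y | y ∈ Ylist},
      (∀ i, i < P.n → (MulAction.orbit (HH (coxRels edges extra) {y | y ∈ Ylist}) (qOf i)).ncard =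
        countEq (fun j => oRoot (orb j)) (oRoot (orb i)) P.n) ∧
      (∀ i j, i < P.n → j < P.n → MulAction.orbit (HH (coxRels edges extra) {y | y ∈ Ylist}) (qOf i) =
        MulAction.orbit (HH (coxRels edges extra) {y | y ∈ Ylist}) (qOf j) →
          oRoot (orb i) = oRoot (orb j)) := by
  obtain ⟨hidx, hstab, htrans⟩ := cox_cert' hinv lay hn hdefs F hfacts hfin hpar hrels hsubfix
  obtain ⟨hinvar, hconn⟩ := orb_sound' hinv lay hrels orb horb
  obtain ⟨qOf, h1, h2⟩ := exists_orbits (HH (coxRels edges extra) {y | y ∈ Ylist})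
    (rhoG (coxRels edges extra) idx ngen P hinv lay.hL hrels) ⟨0, hn⟩ hstab htrans
    (fun i => oRoot (orb i.val)) hinvar hconn
  refine ⟨hidx, fun i => if hi : i < P.n then qOf ⟨i, hi⟩ else qOf ⟨0, hn⟩, ?_, ?_⟩
  · intro i hi
    show (MulAction.orbit _ (if hi : i < P.n then qOf ⟨i, hi⟩ else qOf ⟨0, hn⟩)).ncard = _
    rw [dif_pos hi, h1 ⟨i, hi⟩]
    exact card_filter_eq_countEq (fun j => oRoot (orb j)) (oRoot (orb i)) P.n
  · intro i j hi hj hij
    have hij' : MulAction.orbit (HH (coxRels edges extra) {y | y ∈ Ylist})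
        (if hi : i < P.n then qOf ⟨i, hi⟩ else qOf ⟨0, hn⟩) =
      MulAction.orbit (HH (coxRels edges extra) {y | y ∈ Ylist})
        (if hj : j < P.n then qOf ⟨j, hj⟩ else qOf ⟨0, hn⟩) := hij
    rw [dif_pos hi, dif_pos hj] at hij'
    exact h2 ⟨i, hi⟩ ⟨j, hj⟩ hij'

end Gen

end Cfsg.Agent.Helper28
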