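import Cfsg.Agent.Helper28.WordProblem

set_option autoImplicit false

/-!
# Homomorphisms between presented groups given by words

A map from the generators of one presented group to words in the generators of another one extends to a
homomorphism as soon as the substituted relators are trivial; the substitution is carried out on words of
letter codes, so that the triviality can be decided with a coset table (see `WordProblem`).
-/

namespace Cfsg.Agent.Helper28

section Subst

variable {Γ : Type*} [Group Γ]

/-- the inverse of a word of letter codes -/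
noncomputable def invW (w : List Nat) : List Nat := (w.map flipL).reverse

theorem wv_invW (g : Nat → Γ) (w : List Nat) : wv g (invW w) = (wv g w)⁻¹ := by
  induction w with
  | nil => simp [invW, wv_nil]
  | cons x w ih =>
    have e : invW (x :: w) = invW w ++ [flipL x] := by simp [invW]
    rw [e, wv_append, ih, wv_cons, wv_cons, wv_nil, mul_one, lam_flipL, mul_inv_rev]

/-- the word substituted for a letter code: `wa k` for the letter `2k`, its inverse for `2k+1` -/
noncomputable def substL (wa : Nat → List Nat) (l : Nat) : List Nat :=
  if l % 2 = 0 then wa (l / 2) else invW (wa (l / 2))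

theorem wv_substL (g : Nat → Γ) (wa : Nat → List Nat) (l : Nat) :
    wv g (substL wa l) = lam (fun k => wv g (wa k)) l := by
  unfold substL lam
  split
  · rfl
  · rw [wv_invW]

theorem wv_flatMap_substL (g : Nat → Γ) (wa : Nat → List Nat) (w : List Nat) :
    wv g (w.flatMap (substL wa)) = wv (fun k => wv g (wa k)) w := by
  induction w with
  | nil => simp [wv_nil]
  | cons x w ih =>
    rw [List.flatMap_cons, wv_append, ih, wv_cons, wv_substL]

/-- the value of a word only depends on the values of the generators that occur -/
theorem wv_congr (g g' : Nat → Γ) (w : List Nat) (h : ∀ l ∈ w, g (l / 2) = g' (l / 2)) :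
    wv g w = wv g' w := by
  induction w with
  | nil => simp [wv_nil]
  | cons x w ih =>
    rw [wv_cons, wv_cons, ih (fun l hl => h l (List.mem_cons_of_mem _ hl))]
    congr 1
    unfold lam
    rw [h x List.mem_cons_self]

end Subst

section Hom

variable {β : Type} (genS : Nat → β) (idxS : β → Nat) (ngenS : Nat)
variable {α : Type} (rels : Set (FreeGroup α)) (gen : Nat → α) (ngen : Nat)
variable (wa : Nat → List Nat)

/-- the images of the generators -/
def homF (b : β) : PresentedGroup rels := PresentedGroup.mk rels (ev gen ngen (wa (idxS b)))

theorem lift_homF_ev (hig : ∀ k, k < ngenS → idxS (genS k) = k) (w : List Nat)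
    (hw : ∀ l ∈ w, l < 2 * ngenS) :
    FreeGroup.lift (homF idxS rels gen ngen wa) (ev genS ngenS w) =
      PresentedGroup.mk rels (ev gen ngen (w.flatMap (substL wa))) := by
  rw [← wv_gG, wv_flatMap_substL]
  unfold ev
  rw [wv_map]
  apply wv_congr
  intro l hl
  have hk : l / 2 < ngenS := by have := hw l hl; omega
  show FreeGroup.lift (homF idxS rels gen ngen wa) (gF genS ngenS (l / 2)) = _
  unfold gF
  rw [if_pos hk, FreeGroup.lift_apply_of, wv_gG]
  unfold homF
  rw [hig _ hk]

/-- the substituted relators of a presentation without graph are trivial, so the generator images define a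
homomorphism -/
theorem lift_homF_rels [DecidableEq β] (extraS : List (FreeGroup β)) (hig : ∀ k, k < ngenS → idxS (genS k) = k)
    (rw : Nat → List Nat)
    (hrw : ∀ j, j < extraS.length → ev genS ngenS (rw j) = extraS.getD j 1)
    (hrl : ∀ j, j < extraS.length → ∀ l ∈ rw j, l < 2 * ngenS)
    (hone : ∀ j, j < extraS.length →
      PresentedGroup.mk rels (ev gen ngen ((rw j).flatMap (substL wa))) = 1) :
    ∀ r ∈ coxRels ([] : List (β × ℕ × β)) extraS, FreeGroup.lift (homF idxS rels gen ngen wa) r = 1 := by
  intro r hr
  rcases hr with hr | hr
  · obtain ⟨x, hx, -⟩ := hr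
    simp [Cfsg.Spor.coxNodes] at hx
  · have hr' : r ∈ extraS := hr
    obtain ⟨j, hj, rfl⟩ := List.getElem_of_mem hr'
    have e : extraS[j] = ev genS ngenS (rw j) := by
      rw [hrw j hj, List.getD_eq_getElem _ _ hj]
    rw [e, lift_homF_ev genS idxS ngenS rels gen ngen wa hig (rw j) (hrl j hj)]
    exact hone j hj

end Hom

section Simple

/-- a nontrivial homomorphism from a simple group gives a simple subgroup of the same order -/
theorem exists_subgroup_of_hom {Q : Type*} [Group Q] (hQ : IsSimpleGroup Q) {H : Type*} [Group H]
    (ψ : Q →* H) (q : Q) (hq : ψ q ≠ 1) :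
    ∃ K : Subgroup H, IsSimpleGroup K ∧ Nat.card K = Nat.card Q := by
  have hker : ψ.ker = ⊥ := by
    rcases hQ.eq_bot_or_eq_top_of_normal ψ.ker inferInstance with h | h
    · exact h
    · exfalso
      apply hq
      have : q ∈ ψ.ker := by rw [h]; exact Subgroup.mem_top q
      exact MonoidHom.mem_ker.mp this
  have hinj : Function.Injective ψ := (MonoidHom.ker_eq_bot_iff ψ).mp hker
  let e : Q ≃* ψ.range := MonoidHom.ofInjective hinj
  refine ⟨ψ.range, ?_, (Nat.card_congr e.toEquiv).symm⟩
  exact MulEquiv.isSimpleGroup e.symm

end Simple

end Cfsg.Agent.Helper28
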