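import Cfsg.Agent.Helper28.CosetCox
import Cfsg.Agent.Helper28.HomWords

set_option autoImplicit false

/-!
# Relators of a Coxeter-style presentation under a homomorphism, through the word table of a certificate
-/

namespace Cfsg.Agent.Helper28

open Cfsg.Spor

section

variable {α : Type} [DecidableEq α]
variable {edges : List (α × ℕ × α)} {extra : List (FreeGroup α)} {Ylist : List (FreeGroup α)}
variable {gen : Nat → α} {idx : α → Nat} {ngen : Nat} {T : Tabs} {P : PTabs}

/-- the Coxeter relator of a pair of nodes is spelled by a word of the table -/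
theorem Layout.cox_eq_ev (lay : Layout edges extra Ylist gen idx ngen T P) (x y : α)
    (hx : x ∈ coxNodes edges) (hy : y ∈ coxNodes edges) :
    (FreeGroup.of x * FreeGroup.of y) ^ coxLabel edges x y =
      ev gen ngen (T.word (T.nsub + idx x * ngen + idx y)) := by
  have hix := (lay.hgi x).1
  have hiy := (lay.hgi y).1
  rw [lay.hcoxw _ hix _ hiy, ev_coxW gen ngen _ _ _ hix hiy, (lay.hgi x).2, (lay.hgi y).2]
  unfold lab
  rw [(lay.hgi x).2, (lay.hgi y).2, if_pos ⟨hx, hy⟩]

theorem Layout.cox_index_lt (lay : Layout edges extra Ylist gen idx ngen T P) (x y : α) :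
    T.nsub + idx x * ngen + idx y < T.nsub + ngen * ngen := by
  have hix := (lay.hgi x).1
  have hiy := (lay.hgi y).1
  have : idx x * ngen + idx y < ngen * ngen := by
    calc idx x * ngen + idx y < idx x * ngen + ngen := by omega
      _ = (idx x + 1) * ngen := by ring
      _ ≤ ngen * ngen := Nat.mul_le_mul_right _ hix
  omega

/-- if a homomorphism maps all relator words of the table into a subgroup, it maps all relators into it -/
theorem Layout.map_rels_mem {Γ : Type*} [Group Γ] (lay : Layout edges extra Ylist gen idx ngen T P)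
    (F : FreeGroup α →* Γ) (N : Subgroup Γ)
    (h : ∀ r, T.nsub ≤ r → r < T.nsub + ngen * ngen + extra.length → F (ev gen ngen (T.word r)) ∈ N) :
    ∀ r ∈ coxRels edges extra, F r ∈ N := by
  intro r hr
  rcases hr with hr | hr
  · obtain ⟨x, hx, y, hy, rfl⟩ := hr
    rw [lay.cox_eq_ev x y hx hy]
    have hlt := lay.cox_index_lt x y
    exact h _ (by omega) (by omega)
  · have hr' : r ∈ extra := hr
    obtain ⟨j, hj, rfl⟩ := List.getElem_of_mem hr'
    have e : extra[j] = ev gen ngen (T.word (T.nsub + ngen * ngen + j)) := by
      rw [lay.hextra j hj, List.getD_eq_getElem _ _ hj]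
    rw [e]
    exact h _ (by omega) (by omega)

end

end Cfsg.Agent.Helper28
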