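import Mathlib
import Cfsg.Prelude.Def_SporadicB

set_option autoImplicit false

/-!
# Non-split double covers from a surjection with kernel of order two
-/

namespace Cfsg.Agent.Helper28

/-- a simple group whose order is not a prime has trivial centre -/
theorem center_eq_bot_of_simple {K : Type*} [Group K] [Finite K] (hs : IsSimpleGroup K)
    (hp : ¬ (Nat.card K).Prime) : Subgroup.center K = ⊥ := by
  rcases hs.eq_bot_or_eq_top_of_normal (Subgroup.center K) inferInstance with h | h
  · exact h
  · exfalso
    letI : CommGroup K := Group.commGroupOfCenterEqTop h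
    exact hp (IsSimpleGroup.prime_card (α := K))

theorem isNonsplitDoubleCover_of_hom {H K : Type*} [Group H] [Group K] [Finite H]
    (π : H →* K) (hsurj : Function.Surjective π) (hker : Nat.card π.ker = 2)
    (hK : Subgroup.center K = ⊥)
    (hperf : ∀ L : Subgroup H, L.index = 2 → False) :
    Cfsg.IsNonsplitDoubleCover H K := by
  -- the kernel is the centre
  have hcen : Subgroup.center H = π.ker := by
    apply le_antisymm
    · intro z hz
      rw [MonoidHom.mem_ker]
      have hz' : π z ∈ Subgroup.center K := by
        rw [Subgroup.mem_center_iff]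
        intro k
        obtain ⟨h, rfl⟩ := hsurj k
        rw [← map_mul, ← map_mul, (Subgroup.mem_center_iff.mp hz) h]
      rw [hK, Subgroup.mem_bot] at hz'
      exact hz'
    · intro n hn
      rw [Subgroup.mem_center_iff]
      intro g
      by_cases h1 : n = 1
      · rw [h1, mul_one, one_mul]
      · obtain ⟨y, -, hy⟩ := (Nat.card_eq_two_iff' (1 : π.ker)).mp hker
        have hconj : g * n * g⁻¹ ∈ π.ker := (inferInstance : π.ker.Normal).conj_mem n hn g
        have e1 : (⟨n, hn⟩ : π.ker) = y := hy _ (by
          intro h; apply h1; exact congrArg Subtype.val h)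
        have e2 : (⟨g * n * g⁻¹, hconj⟩ : π.ker) = y := hy _ (by
          intro h
          apply h1
          have h' : g * n * g⁻¹ = 1 := congrArg Subtype.val h
          have : n = g⁻¹ * (g * n * g⁻¹) * g := by group
          rw [this, h']; group)
        have e3 : g * n * g⁻¹ = n := congrArg Subtype.val (e2.trans e1.symm)
        calc g * n = (g * n * g⁻¹) * g := by group
          _ = n * g := by rw [e3]
  refine ⟨by rw [hcen]; exact hker, ?_, ?_⟩
  · exact ⟨(QuotientGroup.quotientMulEquivOfEq hcen).trans
      (QuotientGroup.quotientKerEquivOfSurjective π hsurj)⟩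
  · intro L hL
    apply hperf L
    have h1 := hL.card_mul_card
    have h2 := Subgroup.card_mul_index L
    rw [hcen, hker] at h1
    have hpos : 0 < Nat.card L := Nat.card_pos
    have : Nat.card L * L.index = Nat.card L * 2 := by rw [h2, ← h1, mul_comm]
    exact Nat.eq_of_mul_eq_mul_left hpos this

end Cfsg.Agent.Helper28
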