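import Cfsg.Prelude.Def_Spor_Fi22
import Cfsg.Agent.Helper28.SubPres
set_option autoImplicit false
set_option maxRecDepth 100000
namespace Cfsg.Agent.Helper28
open Cfsg.Spor

namespace Fi22P1D
/-- the generators of the sub-diagram `bcdefghi` -/
inductive Gen
  | b
  | c
  | d
  | e
  | f
  | g
  | h
  | i
  deriving DecidableEq
/-- the generator b as a word -/ abbrev b : FreeGroup Gen := FreeGroup.of Gen.b
/-- the generator c as a word -/ abbrev c : FreeGroup Gen := FreeGroup.of Gen.c
/-- the generator d as a word -/ abbrev d : FreeGroup Gen := FreeGroup.of Gen.d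
/-- the generator e as a word -/ abbrev e : FreeGroup Gen := FreeGroup.of Gen.e
/-- the generator f as a word -/ abbrev f : FreeGroup Gen := FreeGroup.of Gen.f
/-- the generator g as a word -/ abbrev g : FreeGroup Gen := FreeGroup.of Gen.g
/-- the generator h as a word -/ abbrev h : FreeGroup Gen := FreeGroup.of Gen.h
/-- the generator i as a word -/ abbrev i : FreeGroup Gen := FreeGroup.of Gen.i
/-- the Coxeter graph of the sub-diagram -/
def edges : List (Gen × ℕ × Gen) :=
  [(.b, 3, .c), (.c, 3, .d), (.d, 3, .e), (.d, 3, .h), (.e, 3, .f), (.f, 3, .g), (.h, 3, .i)]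
/-- the further relators that only involve the sub-diagram (and the Coxeter relators of isolated generators) -/
def extra : List (FreeGroup Gen) := [
  d * c * b * d * e * f * d * h * i * d * c * b * d * e * f * d * h * i * d * c * b * d * e * f * d * h * i * d * c * b * d * e * f * d * h * i * d * c * b * d * e * f * d * h * i * d * c * b * d * e * f * d * h * i * d * c * b * d * e * f * d * h * i * d * c * b * d * e * f * d * h * i * d * c * b * d * e * f * d * h * i * d * c * b * d * e * f * d * h * i,
  b * c * d * e * f * g * h * b * c * d * e * f * g * h * b * c * d * e * f * g * h * b * c * d * e * f * g * h * b * c * d * e * f * g * h * b * c * d * e * f * g * h * b * c * d * e * f * g * h * b * c * d * e * f * g * h * b * c * d * e * f * g * h]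
/-- the inclusion of the generators -/
def iota : Gen → Fi22.Gen
  | .b => .b
  | .c => .c
  | .d => .d
  | .e => .e
  | .f => .f
  | .g => .g
  | .h => .h
  | .i => .i
theorem hcox : ∀ x ∈ coxNodes edges, ∀ y ∈ coxNodes edges,
    iota x ∈ coxNodes Fi22.edges ∧ iota y ∈ coxNodes Fi22.edges ∧
      coxLabel edges x y = coxLabel Fi22.edges (iota x) (iota y) := by decide
theorem hextra : ∀ r ∈ extra, FreeGroup.map iota r ∈ Fi22.extra ∨
    ∃ x ∈ coxNodes Fi22.edges, ∃ y ∈ coxNodes Fi22.edges,
      FreeGroup.map iota r = (FreeGroup.of x * FreeGroup.of y) ^ coxLabel Fi22.edges x y := by decide +kernel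
theorem hrels : ∀ r ∈ coxRels edges extra,
    PresentedGroup.mk (coxRels Fi22.edges Fi22.extra) (FreeGroup.map iota r) = 1 :=
  subdiagram_rels iota edges extra Fi22.edges Fi22.extra hcox
    (fun r hr => (hextra r hr).elim Or.inr (fun ⟨x, hx, y, hy, h⟩ => Or.inl ⟨x, hx, y, hy, h⟩))
end Fi22P1D

namespace Fi22P2D
/-- the generators of the sub-diagram `bcdefhi` -/
inductive Gen
  | b
  | c
  | d
  | e
  | f
  | h
  | i
  deriving DecidableEq
/-- the generator b as a word -/ abbrev b : FreeGroup Gen := FreeGroup.of Gen.b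
/-- the generator c as a word -/ abbrev c : FreeGroup Gen := FreeGroup.of Gen.c
/-- the generator d as a word -/ abbrev d : FreeGroup Gen := FreeGroup.of Gen.d
/-- the generator e as a word -/ abbrev e : FreeGroup Gen := FreeGroup.of Gen.e
/-- the generator f as a word -/ abbrev f : FreeGroup Gen := FreeGroup.of Gen.f
/-- the generator h as a word -/ abbrev h : FreeGroup Gen := FreeGroup.of Gen.h
/-- the generator i as a word -/ abbrev i : FreeGroup Gen := FreeGroup.of Gen.i
/-- the Coxeter graph of the sub-diagram -/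
def edges : List (Gen × ℕ × Gen) :=
  [(.b, 3, .c), (.c, 3, .d), (.d, 3, .e), (.d, 3, .h), (.e, 3, .f), (.h, 3, .i)]
/-- the further relators that only involve the sub-diagram (and the Coxeter relators of isolated generators) -/
def extra : List (FreeGroup Gen) := [
  d * c * b * d * e * f * d * h * i * d * c * b * d * e * f * d * h * i * d * c * b * d * e * f * d * h * i * d * c * b * d * e * f * d * h * i * d * c * b * d * e * f * d * h * i * d * c * b * d * e * f * d * h * i * d * c * b * d * e * f * d * h * i * d * c * b * d * e * f * d * h * i * d * c * b * d * e * f * d * h * i * d * c * b * d * e * f * d * h * i]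
/-- the inclusion of the generators -/
def iota : Gen → Fi22P1D.Gen
  | .b => .b
  | .c => .c
  | .d => .d
  | .e => .e
  | .f => .f
  | .h => .h
  | .i => .i
theorem hcox : ∀ x ∈ coxNodes edges, ∀ y ∈ coxNodes edges,
    iota x ∈ coxNodes Fi22P1D.edges ∧ iota y ∈ coxNodes Fi22P1D.edges ∧
      coxLabel edges x y = coxLabel Fi22P1D.edges (iota x) (iota y) := by decide
theorem hextra : ∀ r ∈ extra, FreeGroup.map iota r ∈ Fi22P1D.extra ∨
    ∃ x ∈ coxNodes Fi22P1D.edges, ∃ y ∈ coxNodes Fi22P1D.edges,
      FreeGroup.map iota r = (FreeGroup.of x * FreeGroup.of y) ^ coxLabel Fi22P1D.edges x y := by decide +kernel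
theorem hrels : ∀ r ∈ coxRels edges extra,
    PresentedGroup.mk (coxRels Fi22P1D.edges Fi22P1D.extra) (FreeGroup.map iota r) = 1 :=
  subdiagram_rels iota edges extra Fi22P1D.edges Fi22P1D.extra hcox
    (fun r hr => (hextra r hr).elim Or.inr (fun ⟨x, hx, y, hy, h⟩ => Or.inl ⟨x, hx, y, hy, h⟩))
end Fi22P2D

namespace Fi22P3D
/-- the generators of the sub-diagram `cdefhi` -/
inductive Gen
  | c
  | d
  | e
  | f
  | h
  | i
  deriving DecidableEq
/-- the generator c as a word -/ abbrev c : FreeGroup Gen := FreeGroup.of Gen.c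
/-- the generator d as a word -/ abbrev d : FreeGroup Gen := FreeGroup.of Gen.d
/-- the generator e as a word -/ abbrev e : FreeGroup Gen := FreeGroup.of Gen.e
/-- the generator f as a word -/ abbrev f : FreeGroup Gen := FreeGroup.of Gen.f
/-- the generator h as a word -/ abbrev h : FreeGroup Gen := FreeGroup.of Gen.h
/-- the generator i as a word -/ abbrev i : FreeGroup Gen := FreeGroup.of Gen.i
/-- the Coxeter graph of the sub-diagram -/
def edges : List (Gen × ℕ × Gen) :=
  [(.c, 3, .d), (.d, 3, .e), (.d, 3, .h), (.e, 3, .f), (.h, 3, .i)]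
/-- the further relators that only involve the sub-diagram (and the Coxeter relators of isolated generators) -/
def extra : List (FreeGroup Gen) := [
  ]
/-- the inclusion of the generators -/
def iota : Gen → Fi22P2D.Gen
  | .c => .c
  | .d => .d
  | .e => .e
  | .f => .f
  | .h => .h
  | .i => .i
theorem hcox : ∀ x ∈ coxNodes edges, ∀ y ∈ coxNodes edges,
    iota x ∈ coxNodes Fi22P2D.edges ∧ iota y ∈ coxNodes Fi22P2D.edges ∧
      coxLabel edges x y = coxLabel Fi22P2D.edges (iota x) (iota y) := by decide
theorem hextra : ∀ r ∈ extra, FreeGroup.map iota r ∈ Fi22P2D.extra ∨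
    ∃ x ∈ coxNodes Fi22P2D.edges, ∃ y ∈ coxNodes Fi22P2D.edges,
      FreeGroup.map iota r = (FreeGroup.of x * FreeGroup.of y) ^ coxLabel Fi22P2D.edges x y := by decide +kernel
theorem hrels : ∀ r ∈ coxRels edges extra,
    PresentedGroup.mk (coxRels Fi22P2D.edges Fi22P2D.extra) (FreeGroup.map iota r) = 1 :=
  subdiagram_rels iota edges extra Fi22P2D.edges Fi22P2D.extra hcox
    (fun r hr => (hextra r hr).elim Or.inr (fun ⟨x, hx, y, hy, h⟩ => Or.inl ⟨x, hx, y, hy, h⟩))
end Fi22P3D

namespace Fi22P4D
/-- the generators of the sub-diagram `defhi` -/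
inductive Gen
  | d
  | e
  | f
  | h
  | i
  deriving DecidableEq
/-- the generator d as a word -/ abbrev d : FreeGroup Gen := FreeGroup.of Gen.d
/-- the generator e as a word -/ abbrev e : FreeGroup Gen := FreeGroup.of Gen.e
/-- the generator f as a word -/ abbrev f : FreeGroup Gen := FreeGroup.of Gen.f
/-- the generator h as a word -/ abbrev h : FreeGroup Gen := FreeGroup.of Gen.h
/-- the generator i as a word -/ abbrev i : FreeGroup Gen := FreeGroup.of Gen.i
/-- the Coxeter graph of the sub-diagram -/
def edges : List (Gen × ℕ × Gen) :=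
  [(.d, 3, .e), (.d, 3, .h), (.e, 3, .f), (.h, 3, .i)]
/-- the further relators that only involve the sub-diagram (and the Coxeter relators of isolated generators) -/
def extra : List (FreeGroup Gen) := [
  ]
/-- the inclusion of the generators -/
def iota : Gen → Fi22P3D.Gen
  | .d => .d
  | .e => .e
  | .f => .f
  | .h => .h
  | .i => .i
theorem hcox : ∀ x ∈ coxNodes edges, ∀ y ∈ coxNodes edges,
    iota x ∈ coxNodes Fi22P3D.edges ∧ iota y ∈ coxNodes Fi22P3D.edges ∧
      coxLabel edges x y = coxLabel Fi22P3D.edges (iota x) (iota y) := by decide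
theorem hextra : ∀ r ∈ extra, FreeGroup.map iota r ∈ Fi22P3D.extra ∨
    ∃ x ∈ coxNodes Fi22P3D.edges, ∃ y ∈ coxNodes Fi22P3D.edges,
      FreeGroup.map iota r = (FreeGroup.of x * FreeGroup.of y) ^ coxLabel Fi22P3D.edges x y := by decide +kernel
theorem hrels : ∀ r ∈ coxRels edges extra,
    PresentedGroup.mk (coxRels Fi22P3D.edges Fi22P3D.extra) (FreeGroup.map iota r) = 1 :=
  subdiagram_rels iota edges extra Fi22P3D.edges Fi22P3D.extra hcox
    (fun r hr => (hextra r hr).elim Or.inr (fun ⟨x, hx, y, hy, h⟩ => Or.inl ⟨x, hx, y, hy, h⟩))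
end Fi22P4D

namespace Fi22QD
/-- the element whose normal closure is the whole group -/
def xw : FreeGroup Fi22.Gen := Fi22.g * Fi22.d * Fi22.i * Fi22.e * Fi22.h * Fi22.b * Fi22.f * Fi22.c
/-- the relators with `xw` added -/
def extra : List (FreeGroup Fi22.Gen) := Fi22.extra ++ [xw]
end Fi22QD

end Cfsg.Agent.Helper28
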