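import Cfsg.Agent.Helper28.PermModel

set_option autoImplicit false

/-!
# Fixed and moved points of words in the permutation group of a coset table
-/

namespace Cfsg.Agent.Helper28

section

variable {α : Type} (gen : Nat → α) (idx : α → Nat) (ngen : Nat)
variable (P : PTabs) (hinv : invOk P = true) (hL : P.L = 2 * ngen)

/-- a word whose trace fixes a point acts trivially on it -/
theorem rhoF_ev_fix (hig : ∀ k, k < ngen → idx (gen k) = k) (w : List ℕ) (hlet : ∀ l ∈ w, l < P.L)
    (i : Fin P.n) (hfix : trace P.perm w i.val = i.val) :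
    rhoF idx ngen P hinv hL (ev gen ngen w) i = i := by
  have h2 := rhoF_ev_inv gen idx ngen P hinv hL hig w hlet i
  rw [hfix] at h2
  have h3 : (rhoF idx ngen P hinv hL (ev gen ngen w))⁻¹ i = i := Fin.ext h2
  rw [Equiv.Perm.inv_eq_iff_eq] at h3
  exact h3.symm

/-- a word whose trace moves a point does not act trivially -/
theorem rhoF_ev_ne_one (hig : ∀ k, k < ngen → idx (gen k) = k) (w : List ℕ) (hlet : ∀ l ∈ w, l < P.L)
    (i : ℕ) (hi : i < P.n) (hmove : trace P.perm w i ≠ i) :
    rhoF idx ngen P hinv hL (ev gen ngen w) ≠ 1 := by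
  intro h1
  apply hmove
  have h2 := rhoF_ev_inv gen idx ngen P hinv hL hig w hlet ⟨i, hi⟩
  rw [h1, inv_one] at h2
  exact h2.symm

end

end Cfsg.Agent.Helper28
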