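import Cfsg.Agent.Helper28.ChainMain

set_option autoImplicit false

/-!
# Deciding equalities of words in a presented group from a faithful coset action with a base

If the permutation action `rhoG` of a presented group on the points of a coset table is faithful and the
pointwise stabiliser of the list of points `bs` in the permutation group is trivial, then a word that fixes
all points of `bs` is trivial in the presented group.
-/

namespace Cfsg.Agent.Helper28

section

variable {α : Type} (rels : Set (FreeGroup α)) (gen : Nat → α) (idx : α → Nat) (ngen : Nat)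
variable (P : PTabs) (hinv : invOk P = true) (hL : P.L = 2 * ngen)
variable (hrels : ∀ r ∈ rels, rhoF idx ngen P hinv hL r = 1)

/-- the order of the permutation group of a faithful action -/
theorem card_KK_of_injective (hinj : Function.Injective (rhoG rels idx ngen P hinv hL hrels)) :
    Nat.card ↥(KK idx ngen P hinv hL) = Nat.card (PresentedGroup rels) := by
  rw [← rhoG_range rels idx ngen P hinv hL hrels]
  exact (Nat.card_congr (MonoidHom.ofInjective hinj).toEquiv).symm

/-- a word fixing a base is trivial -/
theorem mk_ev_eq_one_of_base (hinj : Function.Injective (rhoG rels idx ngen P hinv hL hrels))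
    (hig : ∀ k, k < ngen → idx (gen k) = k) (bs : List ℕ)
    (htriv : Nat.card ↥(KK idx ngen P hinv hL ⊓ fixAllN bs) = 1)
    (w : List ℕ) (hlet : ∀ l ∈ w, l < P.L) (hfix : ∀ b ∈ bs, trace P.perm w b = b) :
    PresentedGroup.mk rels (ev gen ngen w) = 1 := by
  apply hinj
  rw [map_one, rhoG_mk]
  have hmem : (rhoF idx ngen P hinv hL (ev gen ngen w))⁻¹ ∈ KK idx ngen P hinv hL ⊓ fixAllN bs := by
    refine ⟨Subgroup.inv_mem _ ⟨_, rfl⟩, ?_⟩
    intro b hb hbn
    apply Fin.ext
    rw [rhoF_ev_inv gen idx ngen P hinv hL hig w hlet]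
    exact hfix b hb
  have hsub : Subsingleton ↥(KK idx ngen P hinv hL ⊓ fixAllN bs) :=
    (Nat.card_eq_one_iff_unique.mp htriv).1
  have h1 : (⟨_, hmem⟩ : ↥(KK idx ngen P hinv hL ⊓ fixAllN bs)) = 1 := Subsingleton.elim _ _
  have h2 : (rhoF idx ngen P hinv hL (ev gen ngen w))⁻¹ = 1 := congrArg Subtype.val h1
  exact inv_eq_one.mp h2

/-- two words that agree on a base (in the sense that `w₁ w₂⁻¹` fixes it) are equal -/
theorem mk_ev_eq_of_base (hinj : Function.Injective (rhoG rels idx ngen P hinv hL hrels))
    (hig : ∀ k, k < ngen → idx (gen k) = k) (bs : List ℕ)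
    (htriv : Nat.card ↥(KK idx ngen P hinv hL ⊓ fixAllN bs) = 1)
    (x y : FreeGroup α) (w : List ℕ) (hw : ev gen ngen w = x * y⁻¹)
    (hlet : ∀ l ∈ w, l < P.L) (hfix : ∀ b ∈ bs, trace P.perm w b = b) :
    PresentedGroup.mk rels x = PresentedGroup.mk rels y := by
  have h := mk_ev_eq_one_of_base rels gen idx ngen P hinv hL hrels hinj hig bs htriv w hlet hfix
  rw [hw, map_mul, map_inv] at h
  exact mul_inv_eq_one.mp h

end

end Cfsg.Agent.Helper28
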