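import Cfsg.Agent.Helper28.SuzSub
set_option autoImplicit false
set_option maxRecDepth 100000
namespace Cfsg.Agent.Helper28
open Cfsg.Spor

namespace G24QD
/-- the element (of order 13) whose normal closure is the whole group -/
def xw : FreeGroup SuzP1D.Gen := SuzP1D.a * SuzP1D.b * SuzP1D.c * SuzP1D.d * SuzP1D.e * SuzP1D.f * SuzP1D.c
/-- the relators with `xw` added -/
def extra : List (FreeGroup SuzP1D.Gen) := SuzP1D.extra ++ [xw]
end G24QD

end Cfsg.Agent.Helper28
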