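import Cfsg.Prelude.Def_Spor_Suz
import Cfsg.Agent.Helper28.SubPres
set_option autoImplicit false
set_option maxRecDepth 100000
namespace Cfsg.Agent.Helper28
open Cfsg.Spor

namespace SuzP1D
/-- the generators of the sub-diagram `abcdef` -/
inductive Gen
  | a
  | b
  | c
  | d
  | e
  | f
  deriving DecidableEq
/-- the generator a as a word -/ abbrev a : FreeGroup Gen := FreeGroup.of Gen.a
/-- the generator b as a word -/ abbrev b : FreeGroup Gen := FreeGroup.of Gen.b
/-- the generator c as a word -/ abbrev c : FreeGroup Gen := FreeGroup.of Gen.c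
/-- the generator d as a word -/ abbrev d : FreeGroup Gen := FreeGroup.of Gen.d
/-- the generator e as a word -/ abbrev e : FreeGroup Gen := FreeGroup.of Gen.e
/-- the generator f as a word -/ abbrev f : FreeGroup Gen := FreeGroup.of Gen.f
/-- the Coxeter graph of the sub-diagram -/
def edges : List (Gen × ℕ × Gen) :=
  [(.a, 5, .b), (.b, 3, .c), (.c, 8, .d), (.d, 3, .e), (.b, 3, .f)]
/-- the further relators that only involve the sub-diagram -/
def extra : List (FreeGroup Gen) := [
  a * d⁻¹ * c⁻¹ * d⁻¹ * c⁻¹ * d⁻¹ * c⁻¹ * d⁻¹ * c⁻¹,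
  a * b * c * f * a * b * c * f * a * b * c * f * a * b * c * f * a * b * c * f,
  b * c * d * c * d * b * c * d * c * d * b * c * d * c * d * b * c * d * c * d * b * c * d * c * d * e * b * c * d * c * d * b * c * d * c * d * b * c * d * c * d * b * c * d * c * d * b * c * d * c * d * e * b * c * d * c * d * b * c * d * c * d * b * c * d * c * d * b * c * d * c * d * b * c * d * c * d * e]
/-- the inclusion of the generators -/
def iota : Gen → Suz.Gen
  | .a => .a
  | .b => .b
  | .c => .c
  | .d => .d
  | .e => .e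
  | .f => .f
theorem hcox : ∀ x ∈ coxNodes edges, ∀ y ∈ coxNodes edges,
    iota x ∈ coxNodes Suz.edges ∧ iota y ∈ coxNodes Suz.edges ∧
      coxLabel edges x y = coxLabel Suz.edges (iota x) (iota y) := by decide
theorem hextra : ∀ r ∈ extra, FreeGroup.map iota r ∈ Suz.extra := by decide +kernel
theorem hrels : ∀ r ∈ coxRels edges extra,
    PresentedGroup.mk (coxRels Suz.edges Suz.extra) (FreeGroup.map iota r) = 1 :=
  subdiagram_rels iota edges extra Suz.edges Suz.extra hcox (fun r hr => Or.inr (hextra r hr))
end SuzP1D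

namespace SuzP2D
/-- the generators of the sub-diagram `abcde` -/
inductive Gen
  | a
  | b
  | c
  | d
  | e
  deriving DecidableEq
/-- the generator a as a word -/ abbrev a : FreeGroup Gen := FreeGroup.of Gen.a
/-- the generator b as a word -/ abbrev b : FreeGroup Gen := FreeGroup.of Gen.b
/-- the generator c as a word -/ abbrev c : FreeGroup Gen := FreeGroup.of Gen.c
/-- the generator d as a word -/ abbrev d : FreeGroup Gen := FreeGroup.of Gen.d
/-- the generator e as a word -/ abbrev e : FreeGroup Gen := FreeGroup.of Gen.e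
/-- the Coxeter graph of the sub-diagram -/
def edges : List (Gen × ℕ × Gen) :=
  [(.a, 5, .b), (.b, 3, .c), (.c, 8, .d), (.d, 3, .e)]
/-- the further relators that only involve the sub-diagram -/
def extra : List (FreeGroup Gen) := [
  a * d⁻¹ * c⁻¹ * d⁻¹ * c⁻¹ * d⁻¹ * c⁻¹ * d⁻¹ * c⁻¹,
  b * c * d * c * d * b * c * d * c * d * b * c * d * c * d * b * c * d * c * d * b * c * d * c * d * e * b * c * d * c * d * b * c * d * c * d * b * c * d * c * d * b * c * d * c * d * b * c * d * c * d * e * b * c * d * c * d * b * c * d * c * d * b * c * d * c * d * b * c * d * c * d * b * c * d * c * d * e]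
/-- the inclusion of the generators -/
def iota : Gen → SuzP1D.Gen
  | .a => .a
  | .b => .b
  | .c => .c
  | .d => .d
  | .e => .e
theorem hcox : ∀ x ∈ coxNodes edges, ∀ y ∈ coxNodes edges,
    iota x ∈ coxNodes SuzP1D.edges ∧ iota y ∈ coxNodes SuzP1D.edges ∧
      coxLabel edges x y = coxLabel SuzP1D.edges (iota x) (iota y) := by decide
theorem hextra : ∀ r ∈ extra, FreeGroup.map iota r ∈ SuzP1D.extra := by decide +kernel
theorem hrels : ∀ r ∈ coxRels edges extra,
    PresentedGroup.mk (coxRels SuzP1D.edges SuzP1D.extra) (FreeGroup.map iota r) = 1 :=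
  subdiagram_rels iota edges extra SuzP1D.edges SuzP1D.extra hcox (fun r hr => Or.inr (hextra r hr))
end SuzP2D

namespace SuzP3D
/-- the generators of the sub-diagram `abcd` -/
inductive Gen
  | a
  | b
  | c
  | d
  deriving DecidableEq
/-- the generator a as a word -/ abbrev a : FreeGroup Gen := FreeGroup.of Gen.a
/-- the generator b as a word -/ abbrev b : FreeGroup Gen := FreeGroup.of Gen.b
/-- the generator c as a word -/ abbrev c : FreeGroup Gen := FreeGroup.of Gen.c
/-- the generator d as a word -/ abbrev d : FreeGroup Gen := FreeGroup.of Gen.d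
/-- the Coxeter graph of the sub-diagram -/
def edges : List (Gen × ℕ × Gen) :=
  [(.a, 5, .b), (.b, 3, .c), (.c, 8, .d)]
/-- the further relators that only involve the sub-diagram -/
def extra : List (FreeGroup Gen) := [
  a * d⁻¹ * c⁻¹ * d⁻¹ * c⁻¹ * d⁻¹ * c⁻¹ * d⁻¹ * c⁻¹]
/-- the inclusion of the generators -/
def iota : Gen → SuzP2D.Gen
  | .a => .a
  | .b => .b
  | .c => .c
  | .d => .d
theorem hcox : ∀ x ∈ coxNodes edges, ∀ y ∈ coxNodes edges,
    iota x ∈ coxNodes SuzP2D.edges ∧ iota y ∈ coxNodes SuzP2D.edges ∧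
      coxLabel edges x y = coxLabel SuzP2D.edges (iota x) (iota y) := by decide
theorem hextra : ∀ r ∈ extra, FreeGroup.map iota r ∈ SuzP2D.extra := by decide +kernel
theorem hrels : ∀ r ∈ coxRels edges extra,
    PresentedGroup.mk (coxRels SuzP2D.edges SuzP2D.extra) (FreeGroup.map iota r) = 1 :=
  subdiagram_rels iota edges extra SuzP2D.edges SuzP2D.extra hcox (fun r hr => Or.inr (hextra r hr))
end SuzP3D

namespace SuzQD
/-- the element whose normal closure is the whole group -/
def xw : FreeGroup Suz.Gen := Suz.b * Suz.c * Suz.d * Suz.e * Suz.f * Suz.g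
/-- the relators with `xw` added -/
def extra : List (FreeGroup Suz.Gen) := Suz.extra ++ [xw]
end SuzQD

end Cfsg.Agent.Helper28
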