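import Cfsg.Agent.Helper28.G24Mat
set_option autoImplicit false
set_option maxRecDepth 100000
namespace Cfsg.Agent.Helper28.G24M
open Cfsg.Agent.Helper28 Cfsg.Agent.Helper27 Cfsg.Agent.Helper27.GF4 Cfsg.Spor

theorem extra_0 : mat .a * mat .d * mat .c * mat .d * mat .c * mat .d * mat .c * mat .d * mat .c = 1 := by decide +kernel
theorem extra_1 : mat .a * mat .b * mat .c * mat .f * mat .a * mat .b * mat .c * mat .f * mat .a * mat .b * mat .c * mat .f * mat .a * mat .b * mat .c * mat .f * mat .a * mat .b * mat .c * mat .f = 1 := by decide +kernel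
theorem extra_2 : mat .b * mat .c * mat .d * mat .c * mat .d * mat .b * mat .c * mat .d * mat .c * mat .d * mat .b * mat .c * mat .d * mat .c * mat .d * mat .b * mat .c * mat .d * mat .c * mat .d * mat .b * mat .c * mat .d * mat .c * mat .d * mat .e * mat .b * mat .c * mat .d * mat .c * mat .d * mat .b * mat .c * mat .d * mat .c * mat .d * mat .b * mat .c * mat .d * mat .c * mat .d * mat .b * mat .c * mat .d * mat .c * mat .d * mat .b * mat .c * mat .d * mat .c * mat .d * mat .e * mat .b * mat .c * mat .d * mat .c * mat .d * mat .b * mat .c * mat .d * mat .c * mat .d * mat .b * mat .c * mat .d * mat .c * mat .d * mat .b * mat .c * mat .d * mat .c * mat .d * mat .b * mat .c * mat .d * mat .c * mat .d * mat .e = 1 := by decide +kernel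

end Cfsg.Agent.Helper28.G24M
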