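import Cfsg.Agent.Helper28.G24Mat
set_option autoImplicit false
set_option maxRecDepth 100000
namespace Cfsg.Agent.Helper28.G24M
open Cfsg.Agent.Helper28 Cfsg.Agent.Helper27 Cfsg.Agent.Helper27.GF4 Cfsg.Spor

theorem sur_3_o : X 3 o = (List.map mat [.b, .f, .d, .a, .b, .c, .d, .c, .b, .a, .d, .f, .b]).prod := by decide +kernel
theorem sur_3_w : X 3 w = (List.map mat [.b, .f, .e, .d, .b, .c, .d, .e, .d, .a, .b, .c, .d, .c, .b, .a, .d, .e, .d, .c, .b, .d, .e, .f, .b]).prod := by decide +kernel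
theorem sur_3_w2 : X 3 w2 = (List.map mat [.b, .f, .e, .d, .c, .d, .e, .d, .b, .a, .b, .c, .d, .c, .b, .a, .b, .d, .e, .d, .c, .d, .e, .f, .b]).prod := by decide +kernel
theorem sur_4_o : X 4 o = (List.map mat [.d, .a, .b, .a, .b, .c, .d, .c, .b, .a, .b, .a, .d]).prod := by decide +kernel
theorem sur_4_w : X 4 w = (List.map mat [.e, .d, .c, .d, .e, .d, .b, .c, .d, .c, .b, .d, .e, .d, .c, .d, .e]).prod := by decide +kernel
theorem sur_4_w2 : X 4 w2 = (List.map mat [.e, .d, .a, .b, .c, .d, .e, .d, .b, .a, .b, .c, .d, .c, .b, .a, .b, .d, .e, .d, .c, .b, .a, .d, .e]).prod := by decide +kernel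
theorem sur_5_o : X 5 o = (List.map mat [.e, .d, .c, .b, .f, .b, .a, .b, .a, .b, .a, .b, .f, .b, .c, .d, .e]).prod := by decide +kernel
theorem sur_5_w : X 5 w = (List.map mat [.f, .e, .d, .c, .a, .b, .a, .b, .a, .c, .d, .e, .f]).prod := by decide +kernel
theorem sur_5_w2 : X 5 w2 = (List.map mat [.e, .d, .c, .b, .a, .b, .a, .b, .a, .b, .c, .d, .e]).prod := by decide +kernel

end Cfsg.Agent.Helper28.G24M
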