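import Cfsg.Agent.Helper28.G24Sur0
import Cfsg.Agent.Helper28.G24Sur1
import Cfsg.Agent.Helper28.G24Sur2
import Cfsg.Agent.Helper28.G24Sur3
set_option autoImplicit false
set_option maxRecDepth 100000
namespace Cfsg.Agent.Helper28.G24M
open Cfsg.Agent.Helper28 Cfsg.Agent.Helper27 Cfsg.Agent.Helper27.GF4 Cfsg.Spor

theorem sur_all : ∀ (r : Fin 12) (t : GF4), ∃ l : List SuzP1D.Gen, X r t = (l.map mat).prod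
  | ⟨0, _⟩, .z => ⟨[], sur_z 0⟩
  | ⟨0, _⟩, .o => ⟨_, sur_0_o⟩
  | ⟨0, _⟩, .w => ⟨_, sur_0_w⟩
  | ⟨0, _⟩, .w2 => ⟨_, sur_0_w2⟩
  | ⟨1, _⟩, .z => ⟨[], sur_z 1⟩
  | ⟨1, _⟩, .o => ⟨_, sur_1_o⟩
  | ⟨1, _⟩, .w => ⟨_, sur_1_w⟩
  | ⟨1, _⟩, .w2 => ⟨_, sur_1_w2⟩
  | ⟨2, _⟩, .z => ⟨[], sur_z 2⟩
  | ⟨2, _⟩, .o => ⟨_, sur_2_o⟩
  | ⟨2, _⟩, .w => ⟨_, sur_2_w⟩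
  | ⟨2, _⟩, .w2 => ⟨_, sur_2_w2⟩
  | ⟨3, _⟩, .z => ⟨[], sur_z 3⟩
  | ⟨3, _⟩, .o => ⟨_, sur_3_o⟩
  | ⟨3, _⟩, .w => ⟨_, sur_3_w⟩
  | ⟨3, _⟩, .w2 => ⟨_, sur_3_w2⟩
  | ⟨4, _⟩, .z => ⟨[], sur_z 4⟩
  | ⟨4, _⟩, .o => ⟨_, sur_4_o⟩
  | ⟨4, _⟩, .w => ⟨_, sur_4_w⟩
  | ⟨4, _⟩, .w2 => ⟨_, sur_4_w2⟩
  | ⟨5, _⟩, .z => ⟨[], sur_z 5⟩
  | ⟨5, _⟩, .o => ⟨_, sur_5_o⟩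
  | ⟨5, _⟩, .w => ⟨_, sur_5_w⟩
  | ⟨5, _⟩, .w2 => ⟨_, sur_5_w2⟩
  | ⟨6, _⟩, .z => ⟨[], sur_z 6⟩
  | ⟨6, _⟩, .o => ⟨_, sur_6_o⟩
  | ⟨6, _⟩, .w => ⟨_, sur_6_w⟩
  | ⟨6, _⟩, .w2 => ⟨_, sur_6_w2⟩
  | ⟨7, _⟩, .z => ⟨[], sur_z 7⟩
  | ⟨7, _⟩, .o => ⟨_, sur_7_o⟩
  | ⟨7, _⟩, .w => ⟨_, sur_7_w⟩
  | ⟨7, _⟩, .w2 => ⟨_, sur_7_w2⟩
  | ⟨8, _⟩, .z => ⟨[], sur_z 8⟩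
  | ⟨8, _⟩, .o => ⟨_, sur_8_o⟩
  | ⟨8, _⟩, .w => ⟨_, sur_8_w⟩
  | ⟨8, _⟩, .w2 => ⟨_, sur_8_w2⟩
  | ⟨9, _⟩, .z => ⟨[], sur_z 9⟩
  | ⟨9, _⟩, .o => ⟨_, sur_9_o⟩
  | ⟨9, _⟩, .w => ⟨_, sur_9_w⟩
  | ⟨9, _⟩, .w2 => ⟨_, sur_9_w2⟩
  | ⟨10, _⟩, .z => ⟨[], sur_z 10⟩
  | ⟨10, _⟩, .o => ⟨_, sur_10_o⟩
  | ⟨10, _⟩, .w => ⟨_, sur_10_w⟩
  | ⟨10, _⟩, .w2 => ⟨_, sur_10_w2⟩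
  | ⟨11, _⟩, .z => ⟨[], sur_z 11⟩
  | ⟨11, _⟩, .o => ⟨_, sur_11_o⟩
  | ⟨11, _⟩, .w => ⟨_, sur_11_w⟩
  | ⟨11, _⟩, .w2 => ⟨_, sur_11_w2⟩
  | ⟨n + 12, h⟩, _ => absurd h (by omega)

end Cfsg.Agent.Helper28.G24M
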