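import Cfsg.Agent.Helper28.G24RelA
import Cfsg.Agent.Helper28.G24RelB
import Cfsg.Agent.Helper28.G24RelC
import Cfsg.Agent.Helper28.G24Sur
import Cfsg.Agent.Helper28.G24C.Main
import Cfsg.Agent.Helper28.SuzC.Main
set_option autoImplicit false
set_option maxRecDepth 100000

/-!
# The sub-diagram group `abcdef` of the Suzuki presentation is the Chevalley group `G₂(4)`
-/

namespace Cfsg.Agent.Helper28.G24M
open Cfsg.Agent.Helper28 Cfsg.Agent.Helper27 Cfsg.Agent.Helper27.GF4 Cfsg.Spor

/-- the general linear group containing the Chevalley group -/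
abbrev GG : Type := GL Cfsg.Lie.chevG2.Idx GF4

/-- the images of the generators as invertible matrices -/
def u (x : SuzP1D.Gen) : GG := ⟨mat x, mat x, mat_sq x, mat_sq x⟩

/-- the root elements as invertible matrices -/
def uX (r : Fin 12) (t : GF4) : GG := ⟨X r t, X r t, X_sq r t, X_sq r t⟩

theorem uX_mem (r : Fin 12) (t : GF4) : uX r t ∈ Cfsg.Lie.chevG2.group GF4 :=
  Subgroup.subset_closure ⟨r, t, rfl⟩

theorem u_inv (x : SuzP1D.Gen) : (u x)⁻¹ = u x :=
  inv_eq_of_mul_eq_one_right (Units.ext (mat_sq x))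

theorem u_a_ne_one : u .a ≠ 1 := by
  intro h
  exact mA_ne_one (congrArg Units.val h)

theorem u_mem (x : SuzP1D.Gen) : u x ∈ Cfsg.Lie.chevG2.group GF4 := by
  cases x
  · have h : u .a = uX 10 w * uX 5 w * uX 1 o * uX 11 o * uX 1 o * uX 5 w * uX 10 w := Units.ext mA_eq
    rw [h]
    exact mul_mem (mul_mem (mul_mem (mul_mem (mul_mem (mul_mem (uX_mem _ _) (uX_mem _ _)) (uX_mem _ _))
      (uX_mem _ _)) (uX_mem _ _)) (uX_mem _ _)) (uX_mem _ _)
  · have h : u .b = uX 1 o * uX 11 o * uX 1 o := Units.ext mB_eq
    rw [h]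
    exact mul_mem (mul_mem (uX_mem _ _) (uX_mem _ _)) (uX_mem _ _)
  · have h : u .c = uX 8 o * uX 5 w2 * uX 2 w * uX 0 o * uX 11 o * uX 0 o * uX 2 w * uX 5 w2 * uX 8 o :=
      Units.ext mC_eq
    rw [h]
    exact mul_mem (mul_mem (mul_mem (mul_mem (mul_mem (mul_mem (mul_mem (mul_mem (uX_mem _ _) (uX_mem _ _))
      (uX_mem _ _)) (uX_mem _ _)) (uX_mem _ _)) (uX_mem _ _)) (uX_mem _ _)) (uX_mem _ _)) (uX_mem _ _)
  · have h : u .d = uX 9 o := Units.ext mD_eq
    rw [h]
    exact uX_mem _ _
  · have h : u .e = uX 6 o * uX 10 o * uX 2 o * uX 9 o * uX 2 o * uX 10 o * uX 6 o := Units.ext mE_eq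
    rw [h]
    exact mul_mem (mul_mem (mul_mem (mul_mem (mul_mem (mul_mem (uX_mem _ _) (uX_mem _ _)) (uX_mem _ _))
      (uX_mem _ _)) (uX_mem _ _)) (uX_mem _ _)) (uX_mem _ _)
  · have h : u .f = uX 5 w * uX 1 w * uX 11 o * uX 1 w * uX 5 w := Units.ext mF_eq
    rw [h]
    exact mul_mem (mul_mem (mul_mem (mul_mem (uX_mem _ _) (uX_mem _ _)) (uX_mem _ _)) (uX_mem _ _)) (uX_mem _ _)

theorem cox_ok (x y : SuzP1D.Gen) : (mat x * mat y) ^ coxLabel SuzP1D.edges x y = 1 := by
  cases x
  exacts [cox_a y, cox_b y, cox_c y, cox_d y, cox_e y, cox_f y]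

theorem hrelsM : ∀ r ∈ SuzP1.R, FreeGroup.lift u r = 1 := by
  intro r hr
  rcases hr with ⟨x, -, y, -, rfl⟩ | hr
  · rw [map_pow, map_mul, FreeGroup.lift_apply_of, FreeGroup.lift_apply_of]
    apply Units.ext
    rw [Units.val_pow_eq_pow_val, Units.val_mul]
    exact cox_ok x y
  · have hr' : r ∈ SuzP1D.extra := hr
    simp only [SuzP1D.extra, List.mem_cons, List.not_mem_nil, or_false] at hr'
    rcases hr' with rfl | rfl | rfl
    · simp only [map_mul, map_inv, FreeGroup.lift_apply_of, u_inv]
      apply Units.ext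
      simp only [Units.val_mul, Units.val_one]
      exact extra_0
    · simp only [map_mul, map_inv, FreeGroup.lift_apply_of, u_inv]
      apply Units.ext
      simp only [Units.val_mul, Units.val_one]
      exact extra_1
    · simp only [map_mul, map_inv, FreeGroup.lift_apply_of, u_inv]
      apply Units.ext
      simp only [Units.val_mul, Units.val_one]
      exact extra_2

/-- the homomorphism from the presented group to the general linear group -/
def homM : PresentedGroup SuzP1.R →* GG := PresentedGroup.toGroup hrelsM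

theorem homM_of (x : SuzP1D.Gen) : homM (PresentedGroup.of x) = u x := PresentedGroup.toGroup.of _

theorem homM_injective : Function.Injective homM := by
  have hker : homM.ker = ⊥ := by
    rcases G24C.simple.eq_bot_or_eq_top_of_normal homM.ker inferInstance with h | h
    · exact h
    · exfalso
      apply u_a_ne_one
      have : PresentedGroup.of SuzP1D.Gen.a ∈ homM.ker := by rw [h]; exact Subgroup.mem_top _
      rw [← homM_of]
      exact MonoidHom.mem_ker.mp this
  exact (MonoidHom.ker_eq_bot_iff homM).mp hker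

theorem val_prod (l : List SuzP1D.Gen) : ((l.map u).prod : GG).val = (l.map mat).prod := by
  induction l with
  | nil => rfl
  | cons x l ih =>
    rw [List.map_cons, List.prod_cons, Units.val_mul, ih, List.map_cons, List.prod_cons]
    rfl

theorem homM_word (l : List SuzP1D.Gen) :
    homM (PresentedGroup.mk SuzP1.R (l.map FreeGroup.of).prod) = (l.map u).prod := by
  induction l with
  | nil => exact map_one homM
  | cons x l ih =>
    rw [List.map_cons, List.prod_cons, map_mul, map_mul, ih, List.map_cons, List.prod_cons]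
    congr 1
    exact homM_of x

theorem homM_range : homM.range = Cfsg.Lie.chevG2.group GF4 := by
  apply le_antisymm
  · rw [MonoidHom.range_eq_map, ← PresentedGroup.closure_range_of, MonoidHom.map_closure,
      Subgroup.closure_le]
    rintro _ ⟨_, ⟨x, rfl⟩, rfl⟩
    rw [homM_of]
    exact u_mem x
  · unfold Cfsg.Lie.ChevalleyDatum.group
    rw [Subgroup.closure_le]
    rintro g ⟨r, t, hg⟩
    obtain ⟨l, hl⟩ := sur_all r t
    refine ⟨PresentedGroup.mk SuzP1.R (l.map FreeGroup.of).prod, ?_⟩
    rw [homM_word]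
    apply Units.ext
    rw [val_prod, hg, ← hl]
    rfl

/-- the presented group on the sub-diagram is isomorphic to the Chevalley group -/
noncomputable def isoM : PresentedGroup SuzP1.R ≃* ↥(Cfsg.Lie.chevG2.group GF4) :=
  (MonoidHom.ofInjective homM_injective).trans (MulEquiv.subgroupCongr homM_range)

/-! ## The subgroup of the Suzuki group -/

/-- the homomorphism to the presented Suzuki group -/
noncomputable def subH : PresentedGroup SuzP1.R →* PresentedGroup Suz1.R :=
  subHom SuzP1D.iota SuzP1.R Suz1.R SuzP1D.hrels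

theorem subH_range : subH.range = HH Suz1.R Suz1.Y :=
  subHom_range SuzP1D.iota SuzP1.R Suz1.R SuzP1D.hrels Suz1.Y SuzC.hY0

theorem subH_injective : Function.Injective subH := by
  have hker : subH.ker = ⊥ := by
    rcases G24C.simple.eq_bot_or_eq_top_of_normal subH.ker inferInstance with h | h
    · exact h
    · exfalso
      have hr : subH.range = ⊥ := by
        rw [MonoidHom.range_eq_bot_iff]
        exact MonoidHom.ker_eq_top_iff.mp h
      have hi := Suz1.main_index
      rw [← subH_range, hr, Subgroup.index_bot, SuzC.card_inj.1] at hi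
      omega
  exact (MonoidHom.ker_eq_bot_iff subH).mp hker

/-- the subgroup generated by `a, …, f` in the presented Suzuki group is the Chevalley group -/
noncomputable def isoSuz : ↥(HH Suz1.R Suz1.Y) ≃* ↥(Cfsg.Lie.chevG2.group GF4) :=
  ((MonoidHom.ofInjective subH_injective).trans (MulEquiv.subgroupCongr subH_range)).symm.trans isoM

end Cfsg.Agent.Helper28.G24M
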