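import Cfsg.Prelude.Def_ChevG2
import Cfsg.Agent.Helper28.SuzSub
import Cfsg.Agent.Helper27.GF4
set_option autoImplicit false
set_option maxRecDepth 100000

/-!
# Matrices in the Chevalley group of type `G₂` over the field with four elements
satisfying the relations of the sub-diagram `abcdef` of the Suzuki presentation
-/

namespace Cfsg.Agent.Helper28.G24M
open Cfsg.Agent.Helper28 Cfsg.Agent.Helper27 Cfsg.Agent.Helper27.GF4 Cfsg.Spor

/-- the matrices of degree 14 over the field with four elements, indexed as the Chevalley basis of type `G₂` -/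
abbrev MM : Type := Matrix Cfsg.Lie.chevG2.Idx Cfsg.Lie.chevG2.Idx GF4

/-- the image of the generator `a` -/
def mA : MM := Matrix.fromBlocks
    !![o, z; w2, o]
    !![w2, o, z, z, z, z, z, z, z, z, z, z; o, w2, z, z, z, w2, w, z, z, z, z, z]
    !![z, z; z, z; z, z; z, z; z, z; w, z; w2, z; z, z; z, z; z, z; w2, o; o, w2]
    !![w2, w2, z, z, z, z, z, z, z, z, z, z; o, w2, z, z, z, z, z, z, z, z, z, z; z, z, o, z, z, z, z, z, z, z, z, z; z, z, z, w2, w2, z, z, z, z, z, z, z; z, z, z, o, w2, z, z, z, z, z, z, z; w2, w2, z, z, z, w, w, z, z, z, z, z; w2, w, z, z, z, o, w, z, z, z, z, z; z, z, o, z, z, z, z, w2, w2, z, z, z; z, z, w2, z, z, z, z, o, w2, z, z, z; z, z, z, w2, o, z, z, z, z, o, z, z; w2, o, z, z, z, w, w2, z, z, z, w2, w2; w, w2, z, z, z, w2, w2, z, z, z, o, w2]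

/-- the image of the generator `b` -/
def mB : MM := Matrix.fromBlocks
    !![o, z; z, o]
    !![o, z, z, z, z, z, z, z, z, z, z, z; z, z, z, z, z, o, z, z, z, z, z, z]
    !![z, z; z, z; z, z; z, z; z, z; z, z; o, z; z, z; z, z; z, z; z, z; z, o]
    !![o, z, z, z, z, z, z, z, z, z, z, z; o, o, z, z, z, z, z, z, z, z, z, z; z, z, o, z, z, z, z, z, z, z, z, z; z, z, z, o, z, z, z, z, z, z, z, z; z, z, z, o, o, z, z, z, z, z, z, z; z, z, z, z, z, o, z, z, z, z, z, z; o, o, z, z, z, o, o, z, z, z, z, z; z, z, z, z, z, z, z, o, z, z, z, z; z, z, o, z, z, z, z, o, o, z, z, z; z, z, z, o, z, z, z, z, z, o, z, z; z, z, z, z, z, o, z, z, z, z, o, z; o, z, z, z, z, o, z, z, z, z, o, o]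

/-- the image of the generator `c` -/
def mC : MM := Matrix.fromBlocks
    !![z, w; w2, z]
    !![o, o, w, w, w2, w, w, w, w2, z, w, w2; o, w, w, w2, w2, w, w, w, o, z, w2, w2]
    !![w2, w2; w2, w; z, z; o, w2; w, w; w, w; w, w; w2, w2; w2, w; w, w; w, o; o, o]
    !![w, w, w2, w, w2, z, o, w, w2, z, w, w2; z, w2, w, o, w, w2, o, o, w, z, o, w; o, w, w, z, z, z, z, o, w, z, z, z; w, o, o, w, z, z, o, w, w2, w, w, w2; w2, z, w2, w, o, w2, o, o, w, o, o, w; o, w, w, o, o, z, w, o, o, z, o, o; w, o, w, w2, z, w, z, w2, z, z, w2, z; o, o, w, w, w2, z, o, o, z, z, w, w2; w2, w2, z, o, w, w2, o, w, w, z, o, w; w, w, w, z, w, w, w, w2, o, w, w, w2; w, w, w, w2, o, o, w, z, o, w, w2, w; w, w, w, w2, o, w, o, w2, w, o, z, w]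

/-- the image of the generator `d` -/
def mD : MM := Matrix.fromBlocks
    !![o, z; z, o]
    !![z, z, z, z, z, z, z, z, z, z, z, z; z, z, o, z, z, z, z, z, z, z, z, z]
    !![z, z; z, z; z, z; z, z; z, z; z, z; z, z; z, z; z, z; o, z; z, z; z, z]
    !![o, z, z, z, z, z, z, z, z, z, z, z; z, o, z, z, z, z, z, z, z, z, z, z; z, z, o, z, z, z, z, z, z, z, z, z; o, z, z, o, z, z, z, z, z, z, z, z; z, o, z, z, o, z, z, z, z, z, z, z; z, z, z, z, z, o, z, z, z, z, z, z; z, z, z, z, z, z, o, z, z, z, z, z; o, z, z, z, z, z, z, o, z, z, z, z; z, o, z, z, z, z, z, z, o, z, z, z; z, z, o, z, z, z, z, z, z, o, z, z; o, z, z, o, z, z, z, o, z, z, o, z; z, o, z, z, o, z, z, z, o, z, z, o]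

/-- the image of the generator `e` -/
def mE : MM := Matrix.fromBlocks
    !![z, z; o, z]
    !![o, o, z, z, z, o, o, z, z, z, o, o; z, o, z, z, z, z, o, z, z, z, z, o]
    !![o, o; z, o; z, z; z, z; z, z; o, o; z, o; z, z; z, z; z, z; o, o; z, o]
    !![o, o, z, z, z, o, z, z, z, z, o, z; o, o, z, z, z, z, o, z, z, z, z, o; z, z, z, o, o, z, z, z, z, o, z, z; z, z, o, z, z, z, z, o, z, z, z, z; z, z, o, z, z, z, z, z, o, z, z, z; z, o, z, z, z, z, z, z, z, z, o, z; o, z, z, z, z, z, z, z, z, z, z, o; z, z, z, z, o, z, z, z, z, o, z, z; z, z, z, o, z, z, z, z, z, o, z, z; z, z, o, z, z, z, z, o, o, z, z, z; z, o, z, z, z, z, o, z, z, z, o, o; o, z, z, z, z, o, z, z, z, z, o, o]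

/-- the image of the generator `f` -/
def mF : MM := Matrix.fromBlocks
    !![o, z; w, o]
    !![o, w, z, z, z, z, z, z, z, z, z, z; w2, w2, z, z, z, w2, w, z, z, z, z, z]
    !![z, z; z, z; z, z; z, z; z, z; w, z; w2, z; z, z; z, z; z, z; w2, w; w2, o]
    !![w, o, z, z, z, z, z, z, z, z, z, z; w, w, z, z, z, z, z, z, z, z, z, z; z, z, o, z, z, z, z, z, z, z, z, z; z, z, z, w, o, z, z, z, z, z, z, z; z, z, z, w, w, z, z, z, z, z, z, z; w2, w, z, z, z, w2, o, z, z, z, z, z; w, w, z, z, z, w2, w2, z, z, z, z, z; z, z, w, z, z, z, z, w, o, z, z, z; z, z, o, z, z, z, z, w, w, z, z, z; z, z, z, o, w, z, z, z, z, o, z, z; w, w2, z, z, z, w, w, z, z, z, w, o; o, w, z, z, z, w, w2, z, z, z, w, w]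

/-- the images of the generators -/
def mat : SuzP1D.Gen → MM
  | .a => mA | .b => mB | .c => mC | .d => mD | .e => mE | .f => mF

/-- the root elements of the Chevalley group as matrices -/
def X (r : Fin 12) (t : GF4) : MM := Cfsg.Lie.chevG2.xMat GF4 r t

theorem mat_sq : ∀ x : SuzP1D.Gen, mat x * mat x = 1 := by
  intro x; cases x <;> decide +kernel

theorem mA_ne_one : mA ≠ 1 := by decide +kernel

theorem X_sq_0 : ∀ t : GF4, X 0 t * X 0 t = 1 ∧ X 1 t * X 1 t = 1 ∧ X 2 t * X 2 t = 1 := by decide +kernel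
theorem X_sq_1 : ∀ t : GF4, X 3 t * X 3 t = 1 ∧ X 4 t * X 4 t = 1 ∧ X 5 t * X 5 t = 1 := by decide +kernel
theorem X_sq_2 : ∀ t : GF4, X 6 t * X 6 t = 1 ∧ X 7 t * X 7 t = 1 ∧ X 8 t * X 8 t = 1 := by decide +kernel
theorem X_sq_3 : ∀ t : GF4, X 9 t * X 9 t = 1 ∧ X 10 t * X 10 t = 1 ∧ X 11 t * X 11 t = 1 := by decide +kernel

theorem X_sq : ∀ (r : Fin 12) (t : GF4), X r t * X r t = 1
  | ⟨0, _⟩, t => (X_sq_0 t).1
  | ⟨1, _⟩, t => (X_sq_0 t).2.1
  | ⟨2, _⟩, t => (X_sq_0 t).2.2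
  | ⟨3, _⟩, t => (X_sq_1 t).1
  | ⟨4, _⟩, t => (X_sq_1 t).2.1
  | ⟨5, _⟩, t => (X_sq_1 t).2.2
  | ⟨6, _⟩, t => (X_sq_2 t).1
  | ⟨7, _⟩, t => (X_sq_2 t).2.1
  | ⟨8, _⟩, t => (X_sq_2 t).2.2
  | ⟨9, _⟩, t => (X_sq_3 t).1
  | ⟨10, _⟩, t => (X_sq_3 t).2.1
  | ⟨11, _⟩, t => (X_sq_3 t).2.2
  | ⟨n + 12, h⟩, _ => absurd h (by omega)

theorem mA_eq : mA = X 10 w * X 5 w * X 1 o * X 11 o * X 1 o * X 5 w * X 10 w := by decide +kernel
theorem mB_eq : mB = X 1 o * X 11 o * X 1 o := by decide +kernel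
theorem mC_eq : mC = X 8 o * X 5 w2 * X 2 w * X 0 o * X 11 o * X 0 o * X 2 w * X 5 w2 * X 8 o := by decide +kernel
theorem mD_eq : mD = X 9 o := by decide +kernel
theorem mE_eq : mE = X 6 o * X 10 o * X 2 o * X 9 o * X 2 o * X 10 o * X 6 o := by decide +kernel
theorem mF_eq : mF = X 5 w * X 1 w * X 11 o * X 1 w * X 5 w := by decide +kernel

end Cfsg.Agent.Helper28.G24M
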