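import Cfsg.Agent.Helper28.G24Mat
set_option autoImplicit false
set_option maxRecDepth 100000
namespace Cfsg.Agent.Helper28.G24M
open Cfsg.Agent.Helper28 Cfsg.Agent.Helper27 Cfsg.Agent.Helper27.GF4 Cfsg.Spor

theorem cox_a : ∀ y : SuzP1D.Gen, (mat .a * mat y) ^ coxLabel SuzP1D.edges .a y = 1 := by
  intro y; cases y <;> decide +kernel
theorem cox_b : ∀ y : SuzP1D.Gen, (mat .b * mat y) ^ coxLabel SuzP1D.edges .b y = 1 := by
  intro y; cases y <;> decide +kernel
theorem cox_c : ∀ y : SuzP1D.Gen, (mat .c * mat y) ^ coxLabel SuzP1D.edges .c y = 1 := by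
  intro y; cases y <;> decide +kernel

end Cfsg.Agent.Helper28.G24M
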