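import Cfsg.Prelude.Def_Spor_He
import Cfsg.Agent.Helper28.SubPres
set_option autoImplicit false
set_option maxRecDepth 100000
namespace Cfsg.Agent.Helper28
open Cfsg.Spor

namespace HeP1D
/-- the generators of the sub-diagram `abcde` -/
inductive Gen
  | a
  | b
  | c
  | d
  | e
  deriving DecidableEq
/-- the generator a as a word -/ abbrev a : FreeGroup Gen := FreeGroup.of Gen.a
/-- the generator b as a word -/ abbrev b : FreeGroup Gen := FreeGroup.of Gen.b
/-- the generator c as a word -/ abbrev c : FreeGroup Gen := FreeGroup.of Gen.c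
/-- the generator d as a word -/ abbrev d : FreeGroup Gen := FreeGroup.of Gen.d
/-- the generator e as a word -/ abbrev e : FreeGroup Gen := FreeGroup.of Gen.e
/-- the Coxeter graph of the sub-diagram -/
def edges : List (Gen × ℕ × Gen) :=
  [(.a, 4, .b), (.b, 3, .c), (.c, 10, .d), (.d, 3, .e)]
/-- the further relators that only involve the sub-diagram (and the Coxeter relators of isolated generators) -/
def extra : List (FreeGroup Gen) := [
  e * c⁻¹ * b⁻¹ * a⁻¹ * c⁻¹ * b⁻¹ * a⁻¹ * c⁻¹ * b⁻¹ * a⁻¹,
  a * d⁻¹ * c⁻¹ * d⁻¹ * c⁻¹ * d⁻¹ * c⁻¹ * d⁻¹ * c⁻¹ * d⁻¹ * c⁻¹]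
/-- the inclusion of the generators -/
def iota : Gen → He.Gen
  | .a => .a
  | .b => .b
  | .c => .c
  | .d => .d
  | .e => .e
theorem hcox : ∀ x ∈ coxNodes edges, ∀ y ∈ coxNodes edges,
    iota x ∈ coxNodes He.edges ∧ iota y ∈ coxNodes He.edges ∧
      coxLabel edges x y = coxLabel He.edges (iota x) (iota y) := by decide
theorem hextra : ∀ r ∈ extra, FreeGroup.map iota r ∈ He.extra ∨
    ∃ x ∈ coxNodes He.edges, ∃ y ∈ coxNodes He.edges,
      FreeGroup.map iota r = (FreeGroup.of x * FreeGroup.of y) ^ coxLabel He.edges x y := by decide +kernel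
theorem hrels : ∀ r ∈ coxRels edges extra,
    PresentedGroup.mk (coxRels He.edges He.extra) (FreeGroup.map iota r) = 1 :=
  subdiagram_rels iota edges extra He.edges He.extra hcox
    (fun r hr => (hextra r hr).elim Or.inr (fun ⟨x, hx, y, hy, h⟩ => Or.inl ⟨x, hx, y, hy, h⟩))
end HeP1D

namespace HeQD
/-- the element whose normal closure is the whole group -/
def xw : FreeGroup He.Gen := He.f * He.g * He.d
/-- the relators with `xw` added -/
def extra : List (FreeGroup He.Gen) := He.extra ++ [xw]
end HeQD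

end Cfsg.Agent.Helper28
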