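import Cfsg.Prelude.Def_SporCoxeter

set_option autoImplicit false

/-!
# A presentation of the symplectic group `Sp₄(4)` on two generators

`Sp₄(4) = ⟨a, x | a² = (ax)⁵ = x¹⁷ = (xax⁻¹ax⁻¹axaxax⁻¹a)² = (xax⁻¹axaxax⁻¹ax⁻¹a)² = (xaxax⁻¹ax⁻¹a)⁵ =
(x⁻¹ax⁻²ax⁻²)⁴ = 1⟩`, written in the format of the Coxeter-type presentations (with an empty graph), so that
the coset enumeration certificates apply to it.
-/

namespace Cfsg.Agent.Helper28

namespace S44P

/-- the generators `a, x` -/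
inductive Gen
  | a
  | x
  deriving DecidableEq

/-- the generator a as a word -/ abbrev a : FreeGroup Gen := FreeGroup.of Gen.a
/-- the generator x as a word -/ abbrev x : FreeGroup Gen := FreeGroup.of Gen.x

/-- no Coxeter graph -/
def edges : List (Gen × ℕ × Gen) := []

/-- the relators -/
def extra : List (FreeGroup Gen) := [
  a ^ 2,
  (a * x) ^ 5,
  (x * a * x⁻¹ * a * x⁻¹ * a * x * a * x * a * x⁻¹ * a) ^ 2,
  (x * a * x⁻¹ * a * x * a * x * a * x⁻¹ * a * x⁻¹ * a) ^ 2,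
  (x * a * x * a * x⁻¹ * a * x⁻¹ * a) ^ 5,
  (x⁻¹ * a * x⁻¹ * x⁻¹ * a * x⁻¹ * x⁻¹) ^ 4,
  x ^ 17 ]

end S44P

end Cfsg.Agent.Helper28
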