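import Cfsg.Agent.Helper28.S44Mat
import Cfsg.Agent.Helper28.S44C.Main
import Cfsg.Agent.Helper5.SpCard
set_option autoImplicit false

/-!
# The presented group `S44P` is isomorphic to the symplectic group of degree 4 over the field with 4 elements
-/

namespace Cfsg.Agent.Helper28.S44M
open Cfsg.Agent.Helper28 Cfsg.Agent.Helper27 Cfsg.Agent.Helper27.GF4 Cfsg.Spor

theorem card_sp44 : Nat.card ↥(Matrix.symplecticGroup (Fin 2) GF4) = 979200 := by
  rw [Cfsg.Agent.Helper5.card_sp, GF4.card_eq]
  norm_num [Finset.prod_range_succ]

theorem homM_injective : Function.Injective homM := by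
  have hker : homM.ker = ⊥ := by
    rcases S44C.simple.eq_bot_or_eq_top_of_normal homM.ker inferInstance with h | h
    · exact h
    · exfalso
      apply sA_ne_one
      have : PresentedGroup.of S44P.Gen.a ∈ homM.ker := by rw [h]; exact Subgroup.mem_top _
      rw [← homM_a]
      exact MonoidHom.mem_ker.mp this
  exact (MonoidHom.ker_eq_bot_iff homM).mp hker

theorem homM_bijective : Function.Bijective homM := by
  haveI : Finite ↥(Matrix.symplecticGroup (Fin 2) GF4) :=
    Nat.finite_of_card_ne_zero (by rw [card_sp44]; norm_num)
  rw [Nat.bijective_iff_injective_and_card]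
  exact ⟨homM_injective, by rw [card_sp44]; exact S44C.card_inj.1⟩

/-- the isomorphism with the symplectic group -/
noncomputable def isoM : PresentedGroup (coxRels S44P.edges S44P.extra) ≃*
    ↥(Matrix.symplecticGroup (Fin 2) GF4) :=
  MulEquiv.ofBijective homM homM_bijective

end Cfsg.Agent.Helper28.S44M
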