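import Cfsg.Prelude.Def_SporCoxeter

set_option autoImplicit false

/-!
# Presentations of the Janko group `J₁` and the Mathieu group `M₁₁` on standard generators

`J₁ = ⟨a, b | a² = b³ = (ab)⁷ = (ab(abab⁻¹)³)⁵ = (ab(abab⁻¹)⁶abab(ab⁻¹)²)² = 1⟩`,
`M₁₁ = ⟨a, b | a² = b⁴ = (ab)¹¹ = (ab²)⁶ = ababab⁻¹abab²ab⁻¹abab⁻¹ab⁻¹ = 1⟩`.
They are written in the format of the Coxeter-type presentations (with an empty graph), so that the coset
enumeration certificates apply to them.
-/

namespace Cfsg.Agent.Helper28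

namespace J1P

/-- the generators `a, b` -/
inductive Gen
  | a
  | b
  deriving DecidableEq

/-- the generator a as a word -/ abbrev a : FreeGroup Gen := FreeGroup.of Gen.a
/-- the generator b as a word -/ abbrev b : FreeGroup Gen := FreeGroup.of Gen.b

/-- no Coxeter graph -/
def edges : List (Gen × ℕ × Gen) := []

/-- the relators -/
def extra : List (FreeGroup Gen) := [
  a ^ 2,
  b ^ 3,
  (a * b) ^ 7,
  (a * b * (a * b * a * b⁻¹) ^ 3) ^ 5,
  (a * b * (a * b * a * b⁻¹) ^ 6 * a * b * a * b * (a * b⁻¹) ^ 2) ^ 2 ]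

end J1P

namespace M11P

/-- the generators `a, b` -/
inductive Gen
  | a
  | b
  deriving DecidableEq

/-- the generator a as a word -/ abbrev a : FreeGroup Gen := FreeGroup.of Gen.a
/-- the generator b as a word -/ abbrev b : FreeGroup Gen := FreeGroup.of Gen.b

/-- no Coxeter graph -/
def edges : List (Gen × ℕ × Gen) := []

/-- the relators -/
def extra : List (FreeGroup Gen) := [
  a ^ 2,
  b ^ 4,
  (a * b) ^ 11,
  (a * b * b) ^ 6,
  a * b * a * b * a * b⁻¹ * a * b * a * b * b * a * b⁻¹ * a * b * a * b⁻¹ * a * b⁻¹ ]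

end M11P

end Cfsg.Agent.Helper28
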