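import Cfsg.Prelude.Def_SporCoxeter

set_option autoImplicit false

/-!
# A presentation of the group `L₃(7) = PSL₃(7)` on two generators

`L₃(7) = ⟨a, x | a² = (ax)³ = x¹⁹ = (x²ax⁻²a)⁴ = (xax⁻¹a)⁸ = (x⁶ax⁻⁵a)² = (x³ax⁻¹axax⁻³a)³ = 1⟩`, written in the
format of the Coxeter-type presentations (with an empty graph), so that the coset enumeration certificates
apply to it.
-/

namespace Cfsg.Agent.Helper28

namespace L37P

/-- the generators `a, x` -/
inductive Gen
  | a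
  | x
  deriving DecidableEq

/-- the generator a as a word -/ abbrev a : FreeGroup Gen := FreeGroup.of Gen.a
/-- the generator x as a word -/ abbrev x : FreeGroup Gen := FreeGroup.of Gen.x

/-- no Coxeter graph -/
def edges : List (Gen × ℕ × Gen) := []

/-- the relators -/
def extra : List (FreeGroup Gen) := [
  a ^ 2,
  (a * x) ^ 3,
  (x * x * a * x⁻¹ * x⁻¹ * a) ^ 4,
  (x * a * x⁻¹ * a) ^ 8,
  x ^ 19,
  (x * x * x * x * x * x * a * x⁻¹ * x⁻¹ * x⁻¹ * x⁻¹ * x⁻¹ * a) ^ 2,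
  (x * x * x * a * x⁻¹ * a * x * a * x⁻¹ * x⁻¹ * x⁻¹ * a) ^ 3 ]

end L37P

end Cfsg.Agent.Helper28
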