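import Cfsg.Agent.Helper5.Card
set_option autoImplicit false

/-!
# The order of `PSL₃(7)`
-/

namespace Cfsg.Agent.Helper28.L37M
open Matrix

/-- 7 is prime -/
instance fact7 : Fact (Nat.Prime 7) := ⟨by norm_num⟩

theorem card_GL37 : Nat.card (GL (Fin 3) (ZMod 7)) = 33784128 := by
  rw [Matrix.card_GL_field, ZMod.card]
  simp [Fin.prod_univ_three]

theorem card_SL37 : Nat.card (SpecialLinearGroup (Fin 3) (ZMod 7)) = 5630688 := by
  have h := Cfsg.Agent.Helper5.card_GL_eq_card_SL_mul (n := Fin 3) (F := ZMod 7)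
  rw [card_GL37, ZMod.card] at h
  omega

theorem card_center_SL37 :
    Nat.card (Subgroup.center (SpecialLinearGroup (Fin 3) (ZMod 7))) = 3 := by
  rw [Nat.card_congr (Matrix.SpecialLinearGroup.center_equiv_rootsOfUnity' (0 : Fin 3)).toEquiv,
    Fintype.card_fin]
  have hp : IsPrimitiveRoot (2 : ZMod 7) 3 := by
    refine IsPrimitiveRoot.mk_of_lt (2 : ZMod 7) (by norm_num) (by decide) ?_
    intro l hl0 hl3
    interval_cases l <;> decide
  exact hp.card_rootsOfUnity

theorem card_PSL37 : Nat.card (ProjectiveSpecialLinearGroup (Fin 3) (ZMod 7)) = 1876896 := by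
  have h := Subgroup.card_eq_card_quotient_mul_card_subgroup
    (Subgroup.center (SpecialLinearGroup (Fin 3) (ZMod 7)))
  rw [card_SL37, card_center_SL37] at h
  have h2 : Nat.card (ProjectiveSpecialLinearGroup (Fin 3) (ZMod 7)) =
      Nat.card (SpecialLinearGroup (Fin 3) (ZMod 7) ⧸
        Subgroup.center (SpecialLinearGroup (Fin 3) (ZMod 7))) := rfl
  rw [h2]
  omega

end Cfsg.Agent.Helper28.L37M
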