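import Cfsg.Agent.Helper28.L37Mat
import Cfsg.Agent.Helper28.L37Card
import Cfsg.Agent.Helper28.L37C.Main
set_option autoImplicit false

/-!
# The presented group `L37P` is isomorphic to `PSL₃(7)`
-/

namespace Cfsg.Agent.Helper28.L37M
open Cfsg.Agent.Helper28 Cfsg.Spor Matrix

theorem homM_injective : Function.Injective homM := by
  have hker : homM.ker = ⊥ := by
    rcases L37C.simple.eq_bot_or_eq_top_of_normal homM.ker inferInstance with h | h
    · exact h
    · exfalso
      apply homM_a_ne_one
      have : PresentedGroup.of L37P.Gen.a ∈ homM.ker := by rw [h]; exact Subgroup.mem_top _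
      exact MonoidHom.mem_ker.mp this
  exact (MonoidHom.ker_eq_bot_iff homM).mp hker

theorem homM_bijective : Function.Bijective homM := by
  haveI : Finite (ProjectiveSpecialLinearGroup (Fin 3) (ZMod 7)) :=
    Nat.finite_of_card_ne_zero (by rw [card_PSL37]; norm_num)
  rw [Nat.bijective_iff_injective_and_card]
  exact ⟨homM_injective, by rw [card_PSL37]; exact L37C.card_inj.1⟩

/-- the isomorphism with the projective special linear group -/
noncomputable def isoM : PresentedGroup (coxRels L37P.edges L37P.extra) ≃*
    ProjectiveSpecialLinearGroup (Fin 3) (ZMod 7) :=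
  MulEquiv.ofBijective homM homM_bijective

end Cfsg.Agent.Helper28.L37M
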