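import Cfsg.Agent.Helper28.L37Pres
import Cfsg.Agent.Helper28.CosetCox
import Cfsg.Agent.Helper5.Card
set_option autoImplicit false
set_option maxRecDepth 100000
set_option linter.unusedSimpArgs false

/-!
# Matrices over the integers mod 7 satisfying the presentation of `L₃(7)` modulo scalars, and the order of
`PSL₃(7)`
-/

namespace Cfsg.Agent.Helper28.L37M
open Cfsg.Agent.Helper28 Cfsg.Spor Matrix

/-- the matrices of degree 3 over the integers mod 7 -/
abbrev M3 : Type := Matrix (Fin 3) (Fin 3) (ZMod 7)

/-- the image of the generator `a` -/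
def mA : M3 := !![4, 5, 0; 4, 3, 0; 3, 3, 6]
/-- the image of the generator `x` -/
def mX : M3 := !![1, 1, 3; 5, 2, 3; 5, 1, 1]
/-- the inverse of the image of the generator `x` -/
def mXi : M3 := !![6, 2, 4; 3, 0, 5; 2, 4, 4]

theorem det_mA : mA.det = 1 := by rw [Matrix.det_fin_three]; decide +kernel
theorem det_mX : mX.det = 1 := by rw [Matrix.det_fin_three]; decide +kernel
theorem det_mXi : mXi.det = 1 := by rw [Matrix.det_fin_three]; decide +kernel

/-- the image of `a` in the special linear group -/
def sA : SpecialLinearGroup (Fin 3) (ZMod 7) := ⟨mA, det_mA⟩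
/-- the image of `x` in the special linear group -/
def sX : SpecialLinearGroup (Fin 3) (ZMod 7) := ⟨mX, det_mX⟩
/-- the inverse of the image of `x` in the special linear group -/
def sXi : SpecialLinearGroup (Fin 3) (ZMod 7) := ⟨mXi, det_mXi⟩

theorem sX_inv : sX⁻¹ = sXi := by
  apply inv_eq_of_mul_eq_one_right
  apply Subtype.ext
  show mX * mXi = 1
  decide +kernel

/-- the scalar matrix `2` -/
def mS : M3 := !![2, 0, 0; 0, 2, 0; 0, 0, 2]
theorem det_mS : mS.det = 1 := by rw [Matrix.det_fin_three]; decide +kernel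
/-- the scalar matrix `2` in the special linear group -/
def sS : SpecialLinearGroup (Fin 3) (ZMod 7) := ⟨mS, det_mS⟩

theorem sS_mem_center : sS ∈ Subgroup.center (SpecialLinearGroup (Fin 3) (ZMod 7)) := by
  rw [Matrix.SpecialLinearGroup.mem_center_iff]
  refine ⟨2, by decide, ?_⟩
  show (Matrix.scalar (Fin 3)) (2 : ZMod 7) = mS
  ext i j
  fin_cases i <;> fin_cases j <;> rfl

theorem sA_not_mem_center : sA ∉ Subgroup.center (SpecialLinearGroup (Fin 3) (ZMod 7)) := by
  rw [Matrix.SpecialLinearGroup.mem_center_iff]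
  rintro ⟨r, -, hr⟩
  have h01 := congrFun (congrFun hr 0) 1
  revert h01
  simp [Matrix.scalar_apply, sA, mA]
  decide

theorem rel1 : sA ^ 2 = 1 := by
  apply Subtype.ext
  show mA ^ 2 = 1
  decide +kernel
theorem rel2 : (sA * sX) ^ 3 = 1 := by
  apply Subtype.ext
  show (mA * mX) ^ 3 = 1
  decide +kernel
theorem rel3 : (sX * sX * sA * sXi * sXi * sA) ^ 4 = 1 := by
  apply Subtype.ext
  show (mX * mX * mA * mXi * mXi * mA) ^ 4 = 1
  decide +kernel
theorem rel4 : (sX * sA * sXi * sA) ^ 8 = 1 := by
  apply Subtype.ext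
  show (mX * mA * mXi * mA) ^ 8 = 1
  decide +kernel
theorem rel5 : sX ^ 19 = 1 := by
  apply Subtype.ext
  show mX ^ 19 = 1
  decide +kernel
theorem rel6 : (sX * sX * sX * sX * sX * sX * sA * sXi * sXi * sXi * sXi * sXi * sA) ^ 2 = sS := by
  apply Subtype.ext
  show (mX * mX * mX * mX * mX * mX * mA * mXi * mXi * mXi * mXi * mXi * mA) ^ 2 = mS
  decide +kernel
theorem rel7 : (sX * sX * sX * sA * sXi * sA * sX * sA * sXi * sXi * sXi * sA) ^ 3 = 1 := by
  apply Subtype.ext
  show (mX * mX * mX * mA * mXi * mA * mX * mA * mXi * mXi * mXi * mA) ^ 3 = 1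
  decide +kernel

/-- the images of the generators in the special linear group -/
def fS : L37P.Gen → SpecialLinearGroup (Fin 3) (ZMod 7)
  | .a => sA
  | .x => sX

/-- the images of the generators in the projective special linear group -/
def fM (g : L37P.Gen) : ProjectiveSpecialLinearGroup (Fin 3) (ZMod 7) := QuotientGroup.mk (fS g)

theorem lift_fM (r : FreeGroup L37P.Gen) :
    FreeGroup.lift fM r = QuotientGroup.mk (FreeGroup.lift fS r) := by
  have h : FreeGroup.lift fM = (QuotientGroup.mk' _).comp (FreeGroup.lift fS) := by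
    ext g
    simp [fM]
  rw [h]
  rfl

theorem hrelsM : ∀ r ∈ coxRels L37P.edges L37P.extra, FreeGroup.lift fM r = 1 := by
  intro r hr
  rw [lift_fM, QuotientGroup.eq_one_iff]
  rcases hr with hr | hr
  · obtain ⟨y, hy, -⟩ := hr
    simp [Cfsg.Spor.coxNodes, L37P.edges] at hy
  · have hr' : r ∈ L37P.extra := hr
    simp only [L37P.extra, List.mem_cons, List.not_mem_nil, or_false] at hr'
    rcases hr' with rfl | rfl | rfl | rfl | rfl | rfl | rfl
    · simp only [map_pow, map_mul, map_inv, FreeGroup.lift_apply_of, fS, sX_inv]; rw [rel1]; exact Subgroup.one_mem _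
    · simp only [map_pow, map_mul, map_inv, FreeGroup.lift_apply_of, fS, sX_inv]; rw [rel2]; exact Subgroup.one_mem _
    · simp only [map_pow, map_mul, map_inv, FreeGroup.lift_apply_of, fS, sX_inv]; rw [rel3]; exact Subgroup.one_mem _
    · simp only [map_pow, map_mul, map_inv, FreeGroup.lift_apply_of, fS, sX_inv]; rw [rel4]; exact Subgroup.one_mem _
    · simp only [map_pow, map_mul, map_inv, FreeGroup.lift_apply_of, fS, sX_inv]; rw [rel5]; exact Subgroup.one_mem _
    · simp only [map_pow, map_mul, map_inv, FreeGroup.lift_apply_of, fS, sX_inv]; rw [rel6]; exact sS_mem_center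
    · simp only [map_pow, map_mul, map_inv, FreeGroup.lift_apply_of, fS, sX_inv]; rw [rel7]; exact Subgroup.one_mem _

/-- the homomorphism from the presented group to the projective special linear group -/
def homM : PresentedGroup (coxRels L37P.edges L37P.extra) →*
    ProjectiveSpecialLinearGroup (Fin 3) (ZMod 7) :=
  PresentedGroup.toGroup hrelsM

theorem homM_a : homM (PresentedGroup.of L37P.Gen.a) = QuotientGroup.mk sA := PresentedGroup.toGroup.of _

theorem homM_a_ne_one : homM (PresentedGroup.of L37P.Gen.a) ≠ 1 := by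
  rw [homM_a]
  intro h
  exact sA_not_mem_center ((QuotientGroup.eq_one_iff _).mp h)

end Cfsg.Agent.Helper28.L37M
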