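import Cfsg.Agent.Helper28.SmallPres
import Cfsg.Agent.Helper28.SubPres
set_option autoImplicit false
set_option maxRecDepth 100000
namespace Cfsg.Agent.Helper28
open Cfsg.Spor

namespace M11KD
/-- the generators of the sub-diagram `b` -/
inductive Gen
  | b
  deriving DecidableEq
/-- the generator b as a word -/ abbrev b : FreeGroup Gen := FreeGroup.of Gen.b
/-- the Coxeter graph of the sub-diagram -/
def edges : List (Gen × ℕ × Gen) :=
  []
/-- the further relators that only involve the sub-diagram (and the Coxeter relators of isolated generators) -/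
def extra : List (FreeGroup Gen) := [
  b * b * b * b]
/-- the inclusion of the generators -/
def iota : Gen → M11P.Gen
  | .b => .b
theorem hcox : ∀ x ∈ coxNodes edges, ∀ y ∈ coxNodes edges,
    iota x ∈ coxNodes M11P.edges ∧ iota y ∈ coxNodes M11P.edges ∧
      coxLabel edges x y = coxLabel M11P.edges (iota x) (iota y) := by decide
theorem hextra : ∀ r ∈ extra, FreeGroup.map iota r ∈ M11P.extra ∨
    ∃ x ∈ coxNodes M11P.edges, ∃ y ∈ coxNodes M11P.edges,
      FreeGroup.map iota r = (FreeGroup.of x * FreeGroup.of y) ^ coxLabel M11P.edges x y := by decide +kernel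
theorem hrels : ∀ r ∈ coxRels edges extra,
    PresentedGroup.mk (coxRels M11P.edges M11P.extra) (FreeGroup.map iota r) = 1 :=
  subdiagram_rels iota edges extra M11P.edges M11P.extra hcox
    (fun r hr => (hextra r hr).elim Or.inr (fun ⟨x, hx, y, hy, h⟩ => Or.inl ⟨x, hx, y, hy, h⟩))
end M11KD

namespace M11QD
/-- the element whose normal closure is the whole group -/
def xw : FreeGroup M11P.Gen := M11P.a * M11P.b
/-- the relators with `xw` added -/
def extra : List (FreeGroup M11P.Gen) := M11P.extra ++ [xw]
end M11QD

end Cfsg.Agent.Helper28
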