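import Cfsg.Agent.Helper28.Fi22Sub
set_option autoImplicit false
set_option maxRecDepth 100000
namespace Cfsg.Agent.Helper28
open Cfsg.Spor

namespace O73QD
/-- the element (of order 7) whose normal closure is the whole group -/
def xw : FreeGroup Fi22P1D.Gen := Fi22P1D.b * Fi22P1D.c * Fi22P1D.d * Fi22P1D.e * Fi22P1D.f * Fi22P1D.g
/-- the relators with `xw` added -/
def extra : List (FreeGroup Fi22P1D.Gen) := Fi22P1D.extra ++ [xw]
end O73QD

end Cfsg.Agent.Helper28
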