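import Cfsg.Agent.Helper28.O73Mat
import Cfsg.Agent.Helper28.O73C.Main
import Cfsg.Agent.Helper28.Fi22C.Main
import Cfsg.Agent.Helper28.DoubleCover
import Cfsg.Agent.Helper12.GammaOD
import Cfsg.Agent.Helper44.OmegaIndex
import Cfsg.Agent.Helper5.OrthSimpleStd
import Cfsg.Agent.S0286
set_option autoImplicit false
set_option maxRecDepth 100000

/-!
# The sub-diagram group `bcdefghi` of the presentation of `Fi₂₂` is `PΩ₇(3)`
-/

namespace Cfsg.Agent.Helper28.O73M
open Cfsg.Agent.Helper28 Cfsg.Spor

/-- the quadratic form -/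
abbrev Q3 : (II → ZMod 3) → ZMod 3 := Cfsg.quadFormOdd 3 (ZMod 3)
/-- the isometry group -/
abbrev OO : Subgroup (GL II (ZMod 3)) := Cfsg.isometryGroup (ZMod 3) Q3
/-- the presented group -/
abbrev PP : Type := PresentedGroup Fi22P1.R

/-- the images of the generators as invertible matrices -/
def u (x : Fi22P1D.Gen) : GL II (ZMod 3) := ⟨mat x, mat x, mat_sq x, mat_sq x⟩

theorem u_mem (x : Fi22P1D.Gen) : u x ∈ OO := by
  intro v _
  exact quad_inv (mat x) (mat_gram x) v

/-- the images of the generators as isometries -/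
def uO (x : Fi22P1D.Gen) : OO := ⟨u x, u_mem x⟩

theorem uO_inv (x : Fi22P1D.Gen) : (uO x)⁻¹ = uO x :=
  inv_eq_of_mul_eq_one_right (Subtype.ext (Units.ext (mat_sq x)))

theorem cox_ok (x y : Fi22P1D.Gen) : (mat x * mat y) ^ coxLabel Fi22P1D.edges x y = 1 := by
  cases x
  exacts [cox_b y, cox_c y, cox_d y, cox_e y, cox_f y, cox_g y, cox_h y, cox_i y]

theorem hrelsM : ∀ r ∈ Fi22P1.R, FreeGroup.lift uO r = 1 := by
  intro r hr
  rcases hr with ⟨x, -, y, -, rfl⟩ | hr
  · rw [map_pow, map_mul, FreeGroup.lift_apply_of, FreeGroup.lift_apply_of]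
    apply Subtype.ext
    apply Units.ext
    rw [Subgroup.coe_pow, Subgroup.coe_mul, Units.val_pow_eq_pow_val, Units.val_mul]
    exact cox_ok x y
  · have hr' : r ∈ Fi22P1D.extra := hr
    simp only [Fi22P1D.extra, List.mem_cons, List.not_mem_nil, or_false] at hr'
    rcases hr' with rfl | rfl
    · simp only [map_mul, FreeGroup.lift_apply_of]
      apply Subtype.ext
      apply Units.ext
      simp only [Subgroup.coe_mul, Units.val_mul, Subgroup.coe_one, Units.val_one]
      exact extra_0
    · simp only [map_mul, FreeGroup.lift_apply_of]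
      apply Subtype.ext
      apply Units.ext
      simp only [Subgroup.coe_mul, Units.val_mul, Subgroup.coe_one, Units.val_one]
      exact extra_1

/-- the homomorphism from the presented group to the isometry group -/
def homO : PP →* OO := PresentedGroup.toGroup hrelsM

theorem homO_of (x : Fi22P1D.Gen) : homO (PresentedGroup.of x) = uO x := PresentedGroup.toGroup.of _

instance : Finite PP := O73C.upper.1

theorem center_PP : Subgroup.center PP = ⊥ :=
  center_eq_bot_of_simple O73C.simple (by rw [O73C.card_inj.1]; norm_num)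

theorem commutator_PP : commutator PP = ⊤ := by
  rcases O73C.simple.eq_bot_or_eq_top_of_normal (commutator PP) inferInstance with h | h
  · exfalso
    rw [commutator_eq_bot_iff_center_eq_top, center_PP] at h
    haveI := O73C.simple
    exact bot_ne_top h
  · exact h

theorem homO_mem (p : PP) : homO p ∈ Cfsg.Omega (ZMod 3) Q3 := by
  have hp : p ∈ commutator PP := by rw [commutator_PP]; exact Subgroup.mem_top p
  have h1 : homO p ∈ (commutator PP).map homO := Subgroup.mem_map_of_mem homO hp
  rw [commutator_def, Subgroup.map_commutator] at h1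
  exact Subgroup.commutator_mono le_top le_top h1

/-- the homomorphism to the commutator subgroup -/
def homΩ : PP →* Cfsg.Omega (ZMod 3) Q3 := homO.codRestrict _ homO_mem

/-- the homomorphism to the projective group -/
def homP : PP →* Cfsg.POmega (ZMod 3) Q3 :=
  (QuotientGroup.mk' (Subgroup.center (Cfsg.Omega (ZMod 3) Q3))).comp homΩ

theorem homP_injective : Function.Injective homP := by
  have hker : homP.ker = ⊥ := by
    rcases O73C.simple.eq_bot_or_eq_top_of_normal homP.ker inferInstance with h | h
    · exact h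
    · exfalso
      have hb : PresentedGroup.of Fi22P1D.Gen.b ∈ homP.ker := by rw [h]; exact Subgroup.mem_top _
      rw [MonoidHom.mem_ker] at hb
      have hc : homΩ (PresentedGroup.of Fi22P1D.Gen.b) ∈ Subgroup.center (Cfsg.Omega (ZMod 3) Q3) :=
        (QuotientGroup.eq_one_iff _).mp hb
      have h1 := Subgroup.mem_center_iff.mp hc (homΩ (PresentedGroup.of Fi22P1D.Gen.c))
      have h2 : homO (PresentedGroup.of Fi22P1D.Gen.c) * homO (PresentedGroup.of Fi22P1D.Gen.b) =
          homO (PresentedGroup.of Fi22P1D.Gen.b) * homO (PresentedGroup.of Fi22P1D.Gen.c) :=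
        congrArg Subtype.val h1
      rw [homO_of, homO_of] at h2
      have h3 : mC * mB = mB * mC := congrArg (fun z : OO => ((z : GL II (ZMod 3)) : MM)) h2
      exact mB_mC_ne h3.symm
  exact (MonoidHom.ker_eq_bot_iff homP).mp hker

theorem card_POmega : Nat.card (Cfsg.POmega (ZMod 3) Q3) = 4585351680 := by
  have h2 : (2 : ZMod 3) ≠ 0 := by decide
  have hQ := Cfsg.Agent.Helper5.nondegenerate_oddForm (F := ZMod 3) h2 3
  have hcard : Fintype.card II = 7 := by decide
  have h1 := Cfsg.Agent.Helper12.GammaO.card_POmega_odd (Cfsg.Agent.Helper44.oddForm 3 (ZMod 3)) h2 hQ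
    (by rw [hcard]) (by rw [hcard]; decide)
  have h3 := Cfsg.Agent.Helper44.index_Omega_eq_four (Cfsg.Agent.Helper44.oddForm 3 (ZMod 3)) h2 hQ
    (by rw [Module.finrank_fintype_fun_eq_card, hcard]; norm_num)
  have h4 := Cfsg.Agent.S0286.result (F := ZMod 3) (q := 3) (ZMod.card 3) (by decide) 3
  have h5 := Subgroup.card_mul_index (Cfsg.Omega (ZMod 3) Q3)
  have e : (⇑(Cfsg.Agent.Helper44.oddForm 3 (ZMod 3)) : (II → ZMod 3) → ZMod 3) = Q3 := rfl
  rw [e] at h1 h3
  rw [h3, h4] at h5
  rw [h1]
  have hp : ∏ i ∈ Finset.range 3, (3 ^ (2 * (i + 1)) - 1) = 8 * 80 * 728 := by decide +kernel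
  rw [hp] at h5
  have h6 : (2 : ℕ) * 3 ^ 3 ^ 2 * (8 * 80 * 728) = 4585351680 * 4 := by norm_num
  rw [h6] at h5
  exact Nat.eq_of_mul_eq_mul_right (by norm_num) h5

theorem homP_bijective : Function.Bijective homP := by
  haveI : Finite (Cfsg.POmega (ZMod 3) Q3) :=
    Nat.finite_of_card_ne_zero (by rw [card_POmega]; norm_num)
  rw [Nat.bijective_iff_injective_and_card]
  exact ⟨homP_injective, by rw [card_POmega]; exact O73C.card_inj.1⟩

/-- the presented group on the sub-diagram is isomorphic to the projective orthogonal group -/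
noncomputable def isoP : PP ≃* Cfsg.POmega (ZMod 3) Q3 := MulEquiv.ofBijective homP homP_bijective

/-! ## The subgroup of the presented group `Fi₂₂` -/

/-- the homomorphism to the presented group `Fi₂₂` -/
noncomputable def subH : PP →* PresentedGroup Fi22a.R :=
  subHom Fi22P1D.iota Fi22P1.R Fi22a.R Fi22P1D.hrels

theorem subH_range : subH.range = HH Fi22a.R Fi22a.Y :=
  subHom_range Fi22P1D.iota Fi22P1.R Fi22a.R Fi22P1D.hrels Fi22a.Y Fi22C.hY0

theorem subH_injective : Function.Injective subH := by
  have hker : subH.ker = ⊥ := by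
    rcases O73C.simple.eq_bot_or_eq_top_of_normal subH.ker inferInstance with h | h
    · exact h
    · exfalso
      have hr : subH.range = ⊥ := by
        rw [MonoidHom.range_eq_bot_iff]
        exact MonoidHom.ker_eq_top_iff.mp h
      have hi := Fi22a.main_index
      rw [← subH_range, hr, Subgroup.index_bot, Fi22C.card_inj.1] at hi
      omega
  exact (MonoidHom.ker_eq_bot_iff subH).mp hker

/-- the subgroup generated by `b, …, i` in the presented group `Fi₂₂` is the projective orthogonal group -/
noncomputable def isoFi : ↥(HH Fi22a.R Fi22a.Y) ≃* Cfsg.POmega (ZMod 3) Q3 :=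
  ((MonoidHom.ofInjective subH_injective).trans (MulEquiv.subgroupCongr subH_range)).symm.trans isoP

end Cfsg.Agent.Helper28.O73M
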