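import Cfsg.Prelude.Def_Classical
import Cfsg.Agent.Helper28.Fi22Sub
set_option autoImplicit false
set_option maxRecDepth 100000

/-!
# Matrices in the orthogonal group of dimension 7 over the field with three elements
satisfying the relations of the sub-diagram `bcdefghi` of the presentation of `Fi₂₂`
-/

namespace Cfsg.Agent.Helper28.O73M
open Cfsg.Agent.Helper28 Cfsg.Spor

/-- the coordinates of the orthogonal space -/
abbrev II : Type := Unit ⊕ (Fin 3 ⊕ Fin 3)
/-- the matrices of degree 7 over the field with three elements -/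
abbrev MM : Type := Matrix II II (ZMod 3)

/-- the position of a coordinate -/
def code : II → Fin 7
  | .inl _ => 0
  | .inr (.inl i) => ⟨i.val + 1, by omega⟩
  | .inr (.inr i) => ⟨i.val + 4, by omega⟩

/-- the image of the generator `b`: the negative of a reflection -/
def mB : MM :=
  (!![0, 1, 1, 0, 0, 1, 0; 0, 2, 0, 0, 0, 0, 0; 2, 2, 1, 0, 0, 2, 0; 0, 0, 0, 2, 0, 0, 0; 2, 2, 2, 0, 2, 2, 0; 2, 2, 2, 0, 0, 1, 0; 0, 0, 0, 0, 0, 0, 2] : Matrix (Fin 7) (Fin 7) (ZMod 3)).submatrix code code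

/-- the image of the generator `c`: the negative of a reflection -/
def mC : MM :=
  (!![0, 2, 2, 2, 1, 0, 1; 2, 0, 1, 1, 2, 0, 2; 0, 0, 2, 0, 0, 0, 0; 2, 1, 1, 0, 2, 0, 2; 1, 2, 2, 2, 0, 0, 1; 1, 2, 2, 2, 1, 2, 1; 1, 2, 2, 2, 1, 0, 0] : Matrix (Fin 7) (Fin 7) (ZMod 3)).submatrix code code

/-- the image of the generator `d`: the negative of a reflection -/
def mD : MM :=
  (!![0, 1, 0, 2, 0, 1, 2; 0, 2, 0, 0, 0, 0, 0; 2, 2, 2, 1, 0, 2, 1; 1, 1, 0, 1, 0, 1, 2; 2, 2, 0, 1, 2, 2, 1; 0, 0, 0, 0, 0, 2, 0; 1, 1, 0, 2, 0, 1, 1] : Matrix (Fin 7) (Fin 7) (ZMod 3)).submatrix code code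

/-- the image of the generator `e`: the negative of a reflection -/
def mE : MM :=
  (!![0, 2, 2, 1, 1, 1, 0; 2, 0, 1, 2, 2, 2, 0; 2, 1, 0, 2, 2, 2, 0; 0, 0, 0, 2, 0, 0, 0; 1, 2, 2, 1, 0, 1, 0; 1, 2, 2, 1, 1, 0, 0; 2, 1, 1, 2, 2, 2, 2] : Matrix (Fin 7) (Fin 7) (ZMod 3)).submatrix code code

/-- the image of the generator `f`: the negative of a reflection -/
def mF : MM :=
  (!![0, 1, 2, 0, 0, 2, 1; 0, 2, 0, 0, 0, 0, 0; 1, 1, 1, 0, 0, 2, 1; 2, 2, 1, 2, 0, 1, 2; 2, 2, 1, 0, 2, 1, 2; 1, 1, 2, 0, 0, 1, 1; 0, 0, 0, 0, 0, 0, 2] : Matrix (Fin 7) (Fin 7) (ZMod 3)).submatrix code code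

/-- the image of the generator `g`: the negative of a reflection -/
def mG : MM :=
  (!![2, 0, 0, 0, 0, 0, 0; 0, 2, 0, 0, 0, 0, 0; 0, 0, 2, 0, 0, 0, 0; 0, 1, 0, 0, 0, 0, 2; 0, 2, 0, 2, 2, 0, 1; 0, 0, 0, 0, 0, 2, 0; 0, 2, 0, 2, 0, 0, 0] : Matrix (Fin 7) (Fin 7) (ZMod 3)).submatrix code code

/-- the image of the generator `h`: the negative of a reflection -/
def mH : MM :=
  (!![2, 0, 0, 0, 0, 0, 0; 0, 1, 2, 2, 2, 2, 0; 0, 2, 1, 2, 2, 2, 0; 0, 0, 0, 2, 0, 0, 0; 0, 2, 2, 2, 1, 2, 0; 0, 2, 2, 2, 2, 1, 0; 0, 2, 2, 2, 2, 2, 2] : Matrix (Fin 7) (Fin 7) (ZMod 3)).submatrix code code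

/-- the image of the generator `i`: the negative of a reflection -/
def mI : MM :=
  (!![0, 2, 2, 0, 1, 1, 2; 2, 0, 1, 0, 2, 2, 1; 2, 1, 0, 0, 2, 2, 1; 1, 2, 2, 2, 1, 1, 2; 1, 2, 2, 0, 0, 1, 2; 1, 2, 2, 0, 1, 0, 2; 0, 0, 0, 0, 0, 0, 2] : Matrix (Fin 7) (Fin 7) (ZMod 3)).submatrix code code

/-- the images of the generators -/
def mat : Fi22P1D.Gen → MM
  | .b => mB
  | .c => mC
  | .d => mD
  | .e => mE
  | .f => mF
  | .g => mG
  | .h => mH
  | .i => mI

/-- half the Gram matrix of the quadratic form -/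
def S : MM := (!![1,0,0,0,0,0,0; 0,0,0,0,2,0,0; 0,0,0,0,0,2,0; 0,0,0,0,0,0,2; 0,2,0,0,0,0,0; 0,0,2,0,0,0,0; 0,0,0,2,0,0,0] :
  Matrix (Fin 7) (Fin 7) (ZMod 3)).submatrix code code

theorem hS (u : II → ZMod 3) : Cfsg.quadFormOdd 3 (ZMod 3) u = dotProduct u (Matrix.mulVec S u) := by
  have h3 : (3 : ZMod 3) = 0 := by decide
  simp only [Cfsg.quadFormOdd, dotProduct, Matrix.mulVec, Fintype.sum_sum_type, Fin.sum_univ_three,
    Finset.univ_unique, Finset.sum_singleton, S, Matrix.submatrix_apply, code]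
  simp
  linear_combination (-(u (.inr (.inl 0)) * u (.inr (.inr 0)) + u (.inr (.inl 1)) * u (.inr (.inr 1)) + u (.inr (.inl 2)) * u (.inr (.inr 2)))) * h3

theorem quad_inv (M : MM) (h : M.transpose * S * M = S) (u : II → ZMod 3) :
    Cfsg.quadFormOdd 3 (ZMod 3) (Matrix.mulVec M u) = Cfsg.quadFormOdd 3 (ZMod 3) u := by
  rw [hS, hS]
  calc dotProduct (Matrix.mulVec M u) (Matrix.mulVec S (Matrix.mulVec M u))
      = dotProduct (Matrix.mulVec M u) (Matrix.mulVec (S * M) u) := by rw [Matrix.mulVec_mulVec]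
    _ = dotProduct (Matrix.vecMul (Matrix.mulVec M u) (S * M)) u := by rw [Matrix.dotProduct_mulVec]
    _ = dotProduct (Matrix.vecMul (Matrix.vecMul u M.transpose) (S * M)) u := by rw [Matrix.vecMul_transpose]
    _ = dotProduct (Matrix.vecMul u (M.transpose * (S * M))) u := by rw [Matrix.vecMul_vecMul]
    _ = dotProduct (Matrix.vecMul u S) u := by rw [← Matrix.mul_assoc, h]
    _ = dotProduct u (Matrix.mulVec S u) := by rw [← Matrix.dotProduct_mulVec]

theorem mat_gram : ∀ x : Fi22P1D.Gen, (mat x).transpose * S * mat x = S := by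
  intro x; cases x <;> decide +kernel

theorem mat_sq : ∀ x : Fi22P1D.Gen, mat x * mat x = 1 := by
  intro x; cases x <;> decide +kernel

theorem mB_mC_ne : mB * mC ≠ mC * mB := by decide +kernel


theorem cox_b : ∀ y : Fi22P1D.Gen, (mat .b * mat y) ^ coxLabel Fi22P1D.edges .b y = 1 := by
  intro y; cases y <;> decide +kernel
theorem cox_c : ∀ y : Fi22P1D.Gen, (mat .c * mat y) ^ coxLabel Fi22P1D.edges .c y = 1 := by
  intro y; cases y <;> decide +kernel
theorem cox_d : ∀ y : Fi22P1D.Gen, (mat .d * mat y) ^ coxLabel Fi22P1D.edges .d y = 1 := by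
  intro y; cases y <;> decide +kernel
theorem cox_e : ∀ y : Fi22P1D.Gen, (mat .e * mat y) ^ coxLabel Fi22P1D.edges .e y = 1 := by
  intro y; cases y <;> decide +kernel
theorem cox_f : ∀ y : Fi22P1D.Gen, (mat .f * mat y) ^ coxLabel Fi22P1D.edges .f y = 1 := by
  intro y; cases y <;> decide +kernel
theorem cox_g : ∀ y : Fi22P1D.Gen, (mat .g * mat y) ^ coxLabel Fi22P1D.edges .g y = 1 := by
  intro y; cases y <;> decide +kernel
theorem cox_h : ∀ y : Fi22P1D.Gen, (mat .h * mat y) ^ coxLabel Fi22P1D.edges .h y = 1 := by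
  intro y; cases y <;> decide +kernel
theorem cox_i : ∀ y : Fi22P1D.Gen, (mat .i * mat y) ^ coxLabel Fi22P1D.edges .i y = 1 := by
  intro y; cases y <;> decide +kernel
theorem extra_0 : mat .d * mat .c * mat .b * mat .d * mat .e * mat .f * mat .d * mat .h * mat .i * mat .d * mat .c * mat .b * mat .d * mat .e * mat .f * mat .d * mat .h * mat .i * mat .d * mat .c * mat .b * mat .d * mat .e * mat .f * mat .d * mat .h * mat .i * mat .d * mat .c * mat .b * mat .d * mat .e * mat .f * mat .d * mat .h * mat .i * mat .d * mat .c * mat .b * mat .d * mat .e * mat .f * mat .d * mat .h * mat .i * mat .d * mat .c * mat .b * mat .d * mat .e * mat .f * mat .d * mat .h * mat .i * mat .d * mat .c * mat .b * mat .d * mat .e * mat .f * mat .d * mat .h * mat .i * mat .d * mat .c * mat .b * mat .d * mat .e * mat .f * mat .d * mat .h * mat .i * mat .d * mat .c * mat .b * mat .d * mat .e * mat .f * mat .d * mat .h * mat .i * mat .d * mat .c * mat .b *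 mat .d * mat .e * mat .f * mat .d * mat .h * mat .i = 1 := by decide +kernel
theorem extra_1 : mat .b * mat .c * mat .d * mat .e * mat .f * mat .g * mat .h * mat .b * mat .c * mat .d * mat .e * mat .f * mat .g * mat .h * mat .b * mat .c * mat .d * mat .e * mat .f * mat .g * mat .h * mat .b * mat .c * mat .d * mat .e * mat .f * mat .g * mat .h * mat .b * mat .c * mat .d * mat .e * mat .f * mat .g * mat .h * mat .b * mat .c * mat .d * mat .e * mat .f * mat .g * mat .h * mat .b * mat .c * mat .d * mat .e * mat .f * mat .g * mat .h * mat .b * mat .c * mat .d * mat .e * mat .f * mat .g * mat .h * mat .b * mat .c * mat .d * mat .e * mat .f * mat .g * mat .h = 1 := by decide +kernel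

end Cfsg.Agent.Helper28.O73M
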