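import Cfsg.Prelude.Def_Spor_ON
import Cfsg.Agent.Helper28.SubPres
set_option autoImplicit false
set_option maxRecDepth 100000
namespace Cfsg.Agent.Helper28
open Cfsg.Spor

namespace ONP1D
/-- the generators of the sub-diagram `abcdef` -/
inductive Gen
  | a
  | b
  | c
  | d
  | e
  | f
  deriving DecidableEq
/-- the generator a as a word -/ abbrev a : FreeGroup Gen := FreeGroup.of Gen.a
/-- the generator b as a word -/ abbrev b : FreeGroup Gen := FreeGroup.of Gen.b
/-- the generator c as a word -/ abbrev c : FreeGroup Gen := FreeGroup.of Gen.c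
/-- the generator d as a word -/ abbrev d : FreeGroup Gen := FreeGroup.of Gen.d
/-- the generator e as a word -/ abbrev e : FreeGroup Gen := FreeGroup.of Gen.e
/-- the generator f as a word -/ abbrev f : FreeGroup Gen := FreeGroup.of Gen.f
/-- the Coxeter graph of the sub-diagram -/
def edges : List (Gen × ℕ × Gen) :=
  [(.a, 3, .b), (.b, 3, .c), (.c, 8, .d), (.d, 3, .e), (.e, 3, .f)]
/-- the further relators that only involve the sub-diagram (and the Coxeter relators of isolated generators) -/
def extra : List (FreeGroup Gen) := [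
  a * f * d⁻¹ * c⁻¹ * d⁻¹ * c⁻¹ * d⁻¹ * c⁻¹ * d⁻¹ * c⁻¹]
/-- the inclusion of the generators -/
def iota : Gen → ON.Gen
  | .a => .a
  | .b => .b
  | .c => .c
  | .d => .d
  | .e => .e
  | .f => .f
theorem hcox : ∀ x ∈ coxNodes edges, ∀ y ∈ coxNodes edges,
    iota x ∈ coxNodes ON.edges ∧ iota y ∈ coxNodes ON.edges ∧
      coxLabel edges x y = coxLabel ON.edges (iota x) (iota y) := by decide
theorem hextra : ∀ r ∈ extra, FreeGroup.map iota r ∈ ON.extra ∨
    ∃ x ∈ coxNodes ON.edges, ∃ y ∈ coxNodes ON.edges,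
      FreeGroup.map iota r = (FreeGroup.of x * FreeGroup.of y) ^ coxLabel ON.edges x y := by decide +kernel
theorem hrels : ∀ r ∈ coxRels edges extra,
    PresentedGroup.mk (coxRels ON.edges ON.extra) (FreeGroup.map iota r) = 1 :=
  subdiagram_rels iota edges extra ON.edges ON.extra hcox
    (fun r hr => (hextra r hr).elim Or.inr (fun ⟨x, hx, y, hy, h⟩ => Or.inl ⟨x, hx, y, hy, h⟩))
end ONP1D

namespace ONP2D
/-- the generators of the sub-diagram `acdef` -/
inductive Gen
  | a
  | c
  | d
  | e
  | f
  deriving DecidableEq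
/-- the generator a as a word -/ abbrev a : FreeGroup Gen := FreeGroup.of Gen.a
/-- the generator c as a word -/ abbrev c : FreeGroup Gen := FreeGroup.of Gen.c
/-- the generator d as a word -/ abbrev d : FreeGroup Gen := FreeGroup.of Gen.d
/-- the generator e as a word -/ abbrev e : FreeGroup Gen := FreeGroup.of Gen.e
/-- the generator f as a word -/ abbrev f : FreeGroup Gen := FreeGroup.of Gen.f
/-- the Coxeter graph of the sub-diagram -/
def edges : List (Gen × ℕ × Gen) :=
  [(.c, 8, .d), (.d, 3, .e), (.e, 3, .f)]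
/-- the further relators that only involve the sub-diagram (and the Coxeter relators of isolated generators) -/
def extra : List (FreeGroup Gen) := [
  a * f * d⁻¹ * c⁻¹ * d⁻¹ * c⁻¹ * d⁻¹ * c⁻¹ * d⁻¹ * c⁻¹,
  a * a,
  a * c * a * c,
  a * d * a * d,
  a * e * a * e,
  a * f * a * f]
/-- the inclusion of the generators -/
def iota : Gen → ONP1D.Gen
  | .a => .a
  | .c => .c
  | .d => .d
  | .e => .e
  | .f => .f
theorem hcox : ∀ x ∈ coxNodes edges, ∀ y ∈ coxNodes edges,
    iota x ∈ coxNodes ONP1D.edges ∧ iota y ∈ coxNodes ONP1D.edges ∧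
      coxLabel edges x y = coxLabel ONP1D.edges (iota x) (iota y) := by decide
theorem hextra : ∀ r ∈ extra, FreeGroup.map iota r ∈ ONP1D.extra ∨
    ∃ x ∈ coxNodes ONP1D.edges, ∃ y ∈ coxNodes ONP1D.edges,
      FreeGroup.map iota r = (FreeGroup.of x * FreeGroup.of y) ^ coxLabel ONP1D.edges x y := by decide +kernel
theorem hrels : ∀ r ∈ coxRels edges extra,
    PresentedGroup.mk (coxRels ONP1D.edges ONP1D.extra) (FreeGroup.map iota r) = 1 :=
  subdiagram_rels iota edges extra ONP1D.edges ONP1D.extra hcox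
    (fun r hr => (hextra r hr).elim Or.inr (fun ⟨x, hx, y, hy, h⟩ => Or.inl ⟨x, hx, y, hy, h⟩))
end ONP2D

namespace ONQD
/-- the element whose normal closure is the whole group -/
def xw : FreeGroup ON.Gen := ON.d * ON.g * ON.b * ON.c
/-- the relators with `xw` added -/
def extra : List (FreeGroup ON.Gen) := ON.extra ++ [xw]
end ONQD

end Cfsg.Agent.Helper28
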