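import Cfsg.Agent.Helper28.HomWords

set_option autoImplicit false

/-!
# The permutation group of a coset table as a model of the presented group

If the action `rhoG` of the presented group on the points of the table is faithful, the permutation group
`KK` is isomorphic to the presented group; it is transitive if the first level of orbit records reaches every
point from the point `0`, and then the order of a point stabiliser is the order divided by the degree.
-/

namespace Cfsg.Agent.Helper28

section

variable {α : Type} (rels : Set (FreeGroup α)) (gen : Nat → α) (idx : α → Nat) (ngen : Nat)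
variable (P : PTabs) (hinv : invOk P = true) (hL : P.L = 2 * ngen)
variable (hrels : ∀ r ∈ rels, rhoF idx ngen P hinv hL r = 1)

/-- the presented group is isomorphic to the permutation group -/
noncomputable def equivKK (hinj : Function.Injective (rhoG rels idx ngen P hinv hL hrels)) :
    PresentedGroup rels ≃* ↥(KK idx ngen P hinv hL) :=
  (MonoidHom.ofInjective hinj).trans
    (MulEquiv.subgroupCongr (rhoG_range rels idx ngen P hinv hL hrels))

theorem equivKK_coe (hinj : Function.Injective (rhoG rels idx ngen P hinv hL hrels))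
    (g : PresentedGroup rels) :
    ((equivKK rels idx ngen P hinv hL hrels hinj g : ↥(KK idx ngen P hinv hL)) :
      Equiv.Perm (Fin P.n)) = rhoG rels idx ngen P hinv hL hrels g := rfl

theorem simple_KK (hinj : Function.Injective (rhoG rels idx ngen P hinv hL hrels))
    (hs : IsSimpleGroup (PresentedGroup rels)) : IsSimpleGroup ↥(KK idx ngen P hinv hL) :=
  MulEquiv.isSimpleGroup (equivKK rels idx ngen P hinv hL hrels hinj).symm

/-- transitivity from the first level of orbit records -/
theorem pretransitive_KK (hig : ∀ k, k < ngen → idx (gen k) = k) (hn : 0 < P.n)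
    (ws1 : Nat → List Nat) (nw1 : Nat) (hlet1 : lettersOkW ws1 nw1 P.L = true)
    (hfix1 : fixOkW ws1 nw1 P [] = true) (orb1 : Nat → Nat) (hok1 : checkOrbW ws1 nw1 P orb1 = true)
    (hroot1 : allLt (fun i => Nat.beq (oRoot (orb1 i)) 0) P.n = true) :
    MulAction.IsPretransitive ↥(KK idx ngen P hinv hL) (Fin P.n) := by
  have hreach : ∀ δ : Fin P.n, ∃ σ : ↥(KK idx ngen P hinv hL), σ • (⟨0, hn⟩ : Fin P.n) = δ := by
    intro δ
    obtain ⟨σ, hσ, k, hk, hkδ⟩ :=
      level_reach gen idx ngen P hinv hL hig ws1 nw1 hlet1 [] hfix1 orb1 hok1 δ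
    refine ⟨⟨σ, hσ.1⟩, ?_⟩
    have : k = ⟨0, hn⟩ := by
      apply Fin.ext
      rw [hk]
      have := allLt_sound _ _ hroot1 δ.val δ.2
      rwa [nbeq_eq] at this
    rw [← this]
    exact hkδ
  refine ⟨fun x y => ?_⟩
  obtain ⟨σ, hσ⟩ := hreach x
  obtain ⟨τ, hτ⟩ := hreach y
  refine ⟨τ * σ⁻¹, ?_⟩
  rw [mul_smul, ← hσ, inv_smul_smul, hτ]

/-- the order of a point stabiliser of a transitive group -/
theorem card_stabilizer_of_pretransitive {n : ℕ} (K : Subgroup (Equiv.Perm (Fin n)))
    [MulAction.IsPretransitive ↥K (Fin n)] (x : Fin n) (N m : ℕ) (hK : Nat.card ↥K = N)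
    (hN : N = m * n) (hn : 0 < n) : Nat.card ↥(MulAction.stabilizer (↥K) x) = m := by
  have h1 := Subgroup.card_mul_index (MulAction.stabilizer (↥K) x)
  rw [MulAction.index_stabilizer_of_transitive, hK, hN, Nat.card_fin] at h1
  exact Nat.eq_of_mul_eq_mul_right hn h1

end

end Cfsg.Agent.Helper28
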