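import Cfsg.Agent.Helper28.S44Pres
import Cfsg.Agent.Helper28.CosetCox
import Cfsg.Agent.Helper27.GF4
set_option autoImplicit false
set_option maxRecDepth 100000
set_option linter.unusedSimpArgs false

/-!
# Matrices over the field with four elements satisfying the presentation of `Sp₄(4)`
-/

namespace Cfsg.Agent.Helper28.S44M
open Cfsg.Agent.Helper28 Cfsg.Agent.Helper27 Cfsg.Agent.Helper27.GF4 Cfsg.Spor

/-- the matrices of degree 4 over the field with four elements, in the block form of the symplectic group -/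
abbrev MM : Type := Matrix (Fin 2 ⊕ Fin 2) (Fin 2 ⊕ Fin 2) GF4

/-- the image of the generator `a` -/
def mA : MM := Matrix.fromBlocks !![w, z; z, w] !![z, w; w, z] !![z, o; o, z] !![w, z; z, w]
/-- the image of the generator `x` -/
def mX : MM := Matrix.fromBlocks !![w2, w; w2, z] !![w, o; z, w2] !![w2, w; z, z] !![w, w; w, w2]
/-- the inverse of the image of the generator `x` -/
def mXi : MM := Matrix.fromBlocks !![w, w; w, w2] !![w, z; o, w2] !![w2, z; w, z] !![w2, w2; w, z]

theorem mA_mem : mA ∈ Matrix.symplecticGroup (Fin 2) GF4 :=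
  SymplecticGroup.mem_iff.mpr (by decide +kernel)
theorem mX_mem : mX ∈ Matrix.symplecticGroup (Fin 2) GF4 :=
  SymplecticGroup.mem_iff.mpr (by decide +kernel)
theorem mXi_mem : mXi ∈ Matrix.symplecticGroup (Fin 2) GF4 :=
  SymplecticGroup.mem_iff.mpr (by decide +kernel)

/-- the image of `a` in the symplectic group -/
def sA : Matrix.symplecticGroup (Fin 2) GF4 := ⟨mA, mA_mem⟩
/-- the image of `x` in the symplectic group -/
def sX : Matrix.symplecticGroup (Fin 2) GF4 := ⟨mX, mX_mem⟩
/-- the inverse of the image of `x` in the symplectic group -/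
def sXi : Matrix.symplecticGroup (Fin 2) GF4 := ⟨mXi, mXi_mem⟩

theorem sX_inv : sX⁻¹ = sXi := by
  apply inv_eq_of_mul_eq_one_right
  apply Subtype.ext
  show mX * mXi = 1
  decide +kernel

theorem sA_ne_one : sA ≠ 1 := by
  intro h
  have h1 : mA = 1 := congrArg Subtype.val h
  revert h1
  decide +kernel

/-- the images of the generators -/
def fM : S44P.Gen → Matrix.symplecticGroup (Fin 2) GF4
  | .a => sA
  | .x => sX

theorem rel1 : sA ^ 2 = 1 := by
  apply Subtype.ext
  show mA ^ 2 = 1
  decide +kernel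
theorem rel2 : (sA * sX) ^ 5 = 1 := by
  apply Subtype.ext
  show (mA * mX) ^ 5 = 1
  decide +kernel
theorem rel3 : (sX * sA * sXi * sA * sXi * sA * sX * sA * sX * sA * sXi * sA) ^ 2 = 1 := by
  apply Subtype.ext
  show (mX * mA * mXi * mA * mXi * mA * mX * mA * mX * mA * mXi * mA) ^ 2 = 1
  decide +kernel
theorem rel4 : (sX * sA * sXi * sA * sX * sA * sX * sA * sXi * sA * sXi * sA) ^ 2 = 1 := by
  apply Subtype.ext
  show (mX * mA * mXi * mA * mX * mA * mX * mA * mXi * mA * mXi * mA) ^ 2 = 1
  decide +kernel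
theorem rel5 : (sX * sA * sX * sA * sXi * sA * sXi * sA) ^ 5 = 1 := by
  apply Subtype.ext
  show (mX * mA * mX * mA * mXi * mA * mXi * mA) ^ 5 = 1
  decide +kernel
theorem rel6 : (sXi * sA * sXi * sXi * sA * sXi * sXi) ^ 4 = 1 := by
  apply Subtype.ext
  show (mXi * mA * mXi * mXi * mA * mXi * mXi) ^ 4 = 1
  decide +kernel
theorem rel7 : sX ^ 17 = 1 := by
  apply Subtype.ext
  show mX ^ 17 = 1
  decide +kernel

theorem hrelsM : ∀ r ∈ coxRels S44P.edges S44P.extra, FreeGroup.lift fM r = 1 := by
  intro r hr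
  rcases hr with hr | hr
  · obtain ⟨y, hy, -⟩ := hr
    simp [Cfsg.Spor.coxNodes, S44P.edges] at hy
  · have hr' : r ∈ S44P.extra := hr
    simp only [S44P.extra, List.mem_cons, List.not_mem_nil, or_false] at hr'
    rcases hr' with rfl | rfl | rfl | rfl | rfl | rfl | rfl
    · simp only [map_pow, map_mul, map_inv, FreeGroup.lift_apply_of, fM, sX_inv]; exact rel1
    · simp only [map_pow, map_mul, map_inv, FreeGroup.lift_apply_of, fM, sX_inv]; exact rel2
    · simp only [map_pow, map_mul, map_inv, FreeGroup.lift_apply_of, fM, sX_inv]; exact rel3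
    · simp only [map_pow, map_mul, map_inv, FreeGroup.lift_apply_of, fM, sX_inv]; exact rel4
    · simp only [map_pow, map_mul, map_inv, FreeGroup.lift_apply_of, fM, sX_inv]; exact rel5
    · simp only [map_pow, map_mul, map_inv, FreeGroup.lift_apply_of, fM, sX_inv]; exact rel6
    · simp only [map_pow, map_mul, map_inv, FreeGroup.lift_apply_of, fM, sX_inv]; exact rel7

/-- the homomorphism from the presented group to the symplectic group -/
def homM : PresentedGroup (coxRels S44P.edges S44P.extra) →* Matrix.symplecticGroup (Fin 2) GF4 :=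
  PresentedGroup.toGroup hrelsM

theorem homM_a : homM (PresentedGroup.of S44P.Gen.a) = sA := PresentedGroup.toGroup.of _

end Cfsg.Agent.Helper28.S44M
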