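import Cfsg.Prelude.Def_SporCoxeter

set_option autoImplicit false

/-!
# A presentation of the unitary group `U₆(2)` on eight involutions

The generators `c, d, e, f, g, h, i, t` form the Coxeter graph consisting of the hexagon `d – e – f – t – i – h – d`
with the two tails `c – d` and `g – f` (every edge labelled 3), and there are four further relations
`(cdefghi)⁹ = (deftih)⁵ = (cdehit)⁵ = (cdefgit)⁹ = 1`.
-/

namespace Cfsg.Agent.Helper28

namespace U62P

/-- the generators `c, d, e, f, g, h, i, t` -/
inductive Gen
  | c
  | d
  | e
  | f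
  | g
  | h
  | i
  | t
  deriving DecidableEq

/-- the generator c as a word -/ abbrev c : FreeGroup Gen := FreeGroup.of Gen.c
/-- the generator d as a word -/ abbrev d : FreeGroup Gen := FreeGroup.of Gen.d
/-- the generator e as a word -/ abbrev e : FreeGroup Gen := FreeGroup.of Gen.e
/-- the generator f as a word -/ abbrev f : FreeGroup Gen := FreeGroup.of Gen.f
/-- the generator g as a word -/ abbrev g : FreeGroup Gen := FreeGroup.of Gen.g
/-- the generator h as a word -/ abbrev h : FreeGroup Gen := FreeGroup.of Gen.h
/-- the generator i as a word -/ abbrev i : FreeGroup Gen := FreeGroup.of Gen.i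
/-- the generator t as a word -/ abbrev t : FreeGroup Gen := FreeGroup.of Gen.t

/-- the Coxeter graph: a hexagon with two tails -/
def edges : List (Gen × ℕ × Gen) :=
  [(.c, 3, .d), (.d, 3, .e), (.d, 3, .h), (.e, 3, .f), (.f, 3, .g), (.h, 3, .i), (.f, 3, .t), (.i, 3, .t)]

/-- the further relators -/
def extra : List (FreeGroup Gen) := [
  (c * d * e * f * g * h * i) ^ 9,
  (d * e * f * t * i * h) ^ 5,
  (c * d * e * h * i * t) ^ 5,
  (c * d * e * f * g * i * t) ^ 9 ]

end U62P

end Cfsg.Agent.Helper28
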