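import Cfsg.Agent.Helper28.U62Pres
import Cfsg.Agent.Helper28.SubPres
set_option autoImplicit false
set_option maxRecDepth 100000
namespace Cfsg.Agent.Helper28
open Cfsg.Spor

namespace U62K1D
/-- the generators of the sub-diagram `cdefghi` -/
inductive Gen
  | c
  | d
  | e
  | f
  | g
  | h
  | i
  deriving DecidableEq
/-- the generator c as a word -/ abbrev c : FreeGroup Gen := FreeGroup.of Gen.c
/-- the generator d as a word -/ abbrev d : FreeGroup Gen := FreeGroup.of Gen.d
/-- the generator e as a word -/ abbrev e : FreeGroup Gen := FreeGroup.of Gen.e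
/-- the generator f as a word -/ abbrev f : FreeGroup Gen := FreeGroup.of Gen.f
/-- the generator g as a word -/ abbrev g : FreeGroup Gen := FreeGroup.of Gen.g
/-- the generator h as a word -/ abbrev h : FreeGroup Gen := FreeGroup.of Gen.h
/-- the generator i as a word -/ abbrev i : FreeGroup Gen := FreeGroup.of Gen.i
/-- the Coxeter graph of the sub-diagram -/
def edges : List (Gen × ℕ × Gen) :=
  [(.c, 3, .d), (.d, 3, .e), (.d, 3, .h), (.e, 3, .f), (.f, 3, .g), (.h, 3, .i)]
/-- the further relators that only involve the sub-diagram (and the Coxeter relators of isolated generators) -/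
def extra : List (FreeGroup Gen) := [
  c * d * e * f * g * h * i * c * d * e * f * g * h * i * c * d * e * f * g * h * i * c * d * e * f * g * h * i * c * d * e * f * g * h * i * c * d * e * f * g * h * i * c * d * e * f * g * h * i * c * d * e * f * g * h * i * c * d * e * f * g * h * i]
/-- the inclusion of the generators -/
def iota : Gen → U62P.Gen
  | .c => .c
  | .d => .d
  | .e => .e
  | .f => .f
  | .g => .g
  | .h => .h
  | .i => .i
theorem hcox : ∀ x ∈ coxNodes edges, ∀ y ∈ coxNodes edges,
    iota x ∈ coxNodes U62P.edges ∧ iota y ∈ coxNodes U62P.edges ∧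
      coxLabel edges x y = coxLabel U62P.edges (iota x) (iota y) := by decide
theorem hextra : ∀ r ∈ extra, FreeGroup.map iota r ∈ U62P.extra ∨
    ∃ x ∈ coxNodes U62P.edges, ∃ y ∈ coxNodes U62P.edges,
      FreeGroup.map iota r = (FreeGroup.of x * FreeGroup.of y) ^ coxLabel U62P.edges x y := by decide +kernel
theorem hrels : ∀ r ∈ coxRels edges extra,
    PresentedGroup.mk (coxRels U62P.edges U62P.extra) (FreeGroup.map iota r) = 1 :=
  subdiagram_rels iota edges extra U62P.edges U62P.extra hcox
    (fun r hr => (hextra r hr).elim Or.inr (fun ⟨x, hx, y, hy, h⟩ => Or.inl ⟨x, hx, y, hy, h⟩))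
end U62K1D

namespace U62K2D
/-- the generators of the sub-diagram `cdefhi` -/
inductive Gen
  | c
  | d
  | e
  | f
  | h
  | i
  deriving DecidableEq
/-- the generator c as a word -/ abbrev c : FreeGroup Gen := FreeGroup.of Gen.c
/-- the generator d as a word -/ abbrev d : FreeGroup Gen := FreeGroup.of Gen.d
/-- the generator e as a word -/ abbrev e : FreeGroup Gen := FreeGroup.of Gen.e
/-- the generator f as a word -/ abbrev f : FreeGroup Gen := FreeGroup.of Gen.f
/-- the generator h as a word -/ abbrev h : FreeGroup Gen := FreeGroup.of Gen.h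
/-- the generator i as a word -/ abbrev i : FreeGroup Gen := FreeGroup.of Gen.i
/-- the Coxeter graph of the sub-diagram -/
def edges : List (Gen × ℕ × Gen) :=
  [(.c, 3, .d), (.d, 3, .e), (.d, 3, .h), (.e, 3, .f), (.h, 3, .i)]
/-- the further relators that only involve the sub-diagram (and the Coxeter relators of isolated generators) -/
def extra : List (FreeGroup Gen) := [
  ]
/-- the inclusion of the generators -/
def iota : Gen → U62K1D.Gen
  | .c => .c
  | .d => .d
  | .e => .e
  | .f => .f
  | .h => .h
  | .i => .i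
theorem hcox : ∀ x ∈ coxNodes edges, ∀ y ∈ coxNodes edges,
    iota x ∈ coxNodes U62K1D.edges ∧ iota y ∈ coxNodes U62K1D.edges ∧
      coxLabel edges x y = coxLabel U62K1D.edges (iota x) (iota y) := by decide
theorem hextra : ∀ r ∈ extra, FreeGroup.map iota r ∈ U62K1D.extra ∨
    ∃ x ∈ coxNodes U62K1D.edges, ∃ y ∈ coxNodes U62K1D.edges,
      FreeGroup.map iota r = (FreeGroup.of x * FreeGroup.of y) ^ coxLabel U62K1D.edges x y := by decide +kernel
theorem hrels : ∀ r ∈ coxRels edges extra,
    PresentedGroup.mk (coxRels U62K1D.edges U62K1D.extra) (FreeGroup.map iota r) = 1 :=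
  subdiagram_rels iota edges extra U62K1D.edges U62K1D.extra hcox
    (fun r hr => (hextra r hr).elim Or.inr (fun ⟨x, hx, y, hy, h⟩ => Or.inl ⟨x, hx, y, hy, h⟩))
end U62K2D

namespace U62K3D
/-- the generators of the sub-diagram `cdehi` -/
inductive Gen
  | c
  | d
  | e
  | h
  | i
  deriving DecidableEq
/-- the generator c as a word -/ abbrev c : FreeGroup Gen := FreeGroup.of Gen.c
/-- the generator d as a word -/ abbrev d : FreeGroup Gen := FreeGroup.of Gen.d
/-- the generator e as a word -/ abbrev e : FreeGroup Gen := FreeGroup.of Gen.e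
/-- the generator h as a word -/ abbrev h : FreeGroup Gen := FreeGroup.of Gen.h
/-- the generator i as a word -/ abbrev i : FreeGroup Gen := FreeGroup.of Gen.i
/-- the Coxeter graph of the sub-diagram -/
def edges : List (Gen × ℕ × Gen) :=
  [(.c, 3, .d), (.d, 3, .e), (.d, 3, .h), (.h, 3, .i)]
/-- the further relators that only involve the sub-diagram (and the Coxeter relators of isolated generators) -/
def extra : List (FreeGroup Gen) := [
  ]
/-- the inclusion of the generators -/
def iota : Gen → U62K2D.Gen
  | .c => .c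
  | .d => .d
  | .e => .e
  | .h => .h
  | .i => .i
theorem hcox : ∀ x ∈ coxNodes edges, ∀ y ∈ coxNodes edges,
    iota x ∈ coxNodes U62K2D.edges ∧ iota y ∈ coxNodes U62K2D.edges ∧
      coxLabel edges x y = coxLabel U62K2D.edges (iota x) (iota y) := by decide
theorem hextra : ∀ r ∈ extra, FreeGroup.map iota r ∈ U62K2D.extra ∨
    ∃ x ∈ coxNodes U62K2D.edges, ∃ y ∈ coxNodes U62K2D.edges,
      FreeGroup.map iota r = (FreeGroup.of x * FreeGroup.of y) ^ coxLabel U62K2D.edges x y := by decide +kernel
theorem hrels : ∀ r ∈ coxRels edges extra,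
    PresentedGroup.mk (coxRels U62K2D.edges U62K2D.extra) (FreeGroup.map iota r) = 1 :=
  subdiagram_rels iota edges extra U62K2D.edges U62K2D.extra hcox
    (fun r hr => (hextra r hr).elim Or.inr (fun ⟨x, hx, y, hy, h⟩ => Or.inl ⟨x, hx, y, hy, h⟩))
end U62K3D

namespace U62K4D
/-- the generators of the sub-diagram `cdhi` -/
inductive Gen
  | c
  | d
  | h
  | i
  deriving DecidableEq
/-- the generator c as a word -/ abbrev c : FreeGroup Gen := FreeGroup.of Gen.c
/-- the generator d as a word -/ abbrev d : FreeGroup Gen := FreeGroup.of Gen.d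
/-- the generator h as a word -/ abbrev h : FreeGroup Gen := FreeGroup.of Gen.h
/-- the generator i as a word -/ abbrev i : FreeGroup Gen := FreeGroup.of Gen.i
/-- the Coxeter graph of the sub-diagram -/
def edges : List (Gen × ℕ × Gen) :=
  [(.c, 3, .d), (.d, 3, .h), (.h, 3, .i)]
/-- the further relators that only involve the sub-diagram (and the Coxeter relators of isolated generators) -/
def extra : List (FreeGroup Gen) := [
  ]
/-- the inclusion of the generators -/
def iota : Gen → U62K3D.Gen
  | .c => .c
  | .d => .d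
  | .h => .h
  | .i => .i
theorem hcox : ∀ x ∈ coxNodes edges, ∀ y ∈ coxNodes edges,
    iota x ∈ coxNodes U62K3D.edges ∧ iota y ∈ coxNodes U62K3D.edges ∧
      coxLabel edges x y = coxLabel U62K3D.edges (iota x) (iota y) := by decide
theorem hextra : ∀ r ∈ extra, FreeGroup.map iota r ∈ U62K3D.extra ∨
    ∃ x ∈ coxNodes U62K3D.edges, ∃ y ∈ coxNodes U62K3D.edges,
      FreeGroup.map iota r = (FreeGroup.of x * FreeGroup.of y) ^ coxLabel U62K3D.edges x y := by decide +kernel
theorem hrels : ∀ r ∈ coxRels edges extra,
    PresentedGroup.mk (coxRels U62K3D.edges U62K3D.extra) (FreeGroup.map iota r) = 1 :=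
  subdiagram_rels iota edges extra U62K3D.edges U62K3D.extra hcox
    (fun r hr => (hextra r hr).elim Or.inr (fun ⟨x, hx, y, hy, h⟩ => Or.inl ⟨x, hx, y, hy, h⟩))
end U62K4D

end Cfsg.Agent.Helper28
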