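import Cfsg.Agent.Helper28.U62Pres
import Cfsg.Agent.Helper28.SubPres
set_option autoImplicit false
set_option maxRecDepth 100000
namespace Cfsg.Agent.Helper28
open Cfsg.Spor

namespace U62QD
/-- the element (of order 11) whose normal closure is the whole group -/
def xw : FreeGroup U62P.Gen := U62P.e * U62P.d * U62P.g * U62P.h * U62P.i * U62P.f * U62P.d * U62P.t * U62P.c
/-- the relators with `xw` added -/
def extra : List (FreeGroup U62P.Gen) := U62P.extra ++ [xw]
end U62QD

end Cfsg.Agent.Helper28
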