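import Cfsg.Agent.Helper28.U62Iso
import Cfsg.Agent.Helper28.Fi22W.Base
import Cfsg.Agent.Helper28.CoxHom
set_option autoImplicit false
set_option maxRecDepth 1000000

/-!
# The centraliser `2·U₆(2)` of a generator in the presented group `Fi₂₂`
-/

namespace Cfsg.Agent.Helper28.U62F
open Cfsg.Agent.Helper28 Cfsg.Agent.Helper27 Cfsg.Spor

/-- the presented group `Fi₂₂` -/
abbrev GG : Type := PresentedGroup Fi22b.R
/-- the subgroup generated by `a, c, …, i, (abcdeh)⁵` -/
abbrev HG : Subgroup GG := HH Fi22b.R Fi22b.Y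
/-- the presented group `U₆(2)` -/
abbrev PU : Type := PresentedGroup U62A.R

/-- the word of `t = (abcdeh)⁵` -/
def wT : List Nat := [0, 2, 4, 6, 8, 14, 0, 2, 4, 6, 8, 14, 0, 2, 4, 6, 8, 14, 0, 2, 4, 6, 8, 14, 0, 2, 4, 6, 8, 14]

/-- the images of the generators `c, d, e, f, g, h, i, t` as words of the generators of `Fi₂₂` -/
def waU (k : Nat) : List Nat :=
  if k = 0 then [4] else if k = 1 then [6] else if k = 2 then [8] else if k = 3 then [10] else
  if k = 4 then [12] else if k = 5 then [14] else if k = 6 then [16] else wT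

/-- the correction of a relator word: the relators `(cdehit)⁵` and `(cdefgit)⁹` evaluate to `a` -/
def epsU (r : Nat) : List Nat := if r = 73 ∨ r = 74 then [0] else []

/-- the substituted relator words, corrected -/
noncomputable def rwU (j : Nat) : List Nat :=
  (U62A.tabs.word (7 + j)).flatMap (substL waU) ++ epsU (7 + j)

theorem letU : lettersOkW rwU 68 Fi22b.ptabs.L = true := by decide +kernel
theorem fixU : fixOkW rwU 68 Fi22b.ptabs [18, 5, 4, 3, 2, 1, 0] = true := by decide +kernel

/-- the generator `a` -/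
def aG : GG := PresentedGroup.mk Fi22b.R Fi22.a

/-- the images of the generators -/
noncomputable def F0 : FreeGroup U62P.Gen →* GG :=
  FreeGroup.lift (homF U62A.idx Fi22b.R Fi22b.gen 9 waU)

theorem ev_eps (r : Nat) : PresentedGroup.mk Fi22b.R (ev Fi22b.gen 9 (epsU r)) = 1 ∨
    PresentedGroup.mk Fi22b.R (ev Fi22b.gen 9 (epsU r)) = aG := by
  unfold epsU
  split
  · right
    have e : ev Fi22b.gen 9 [0] = Fi22.a := by decide +kernel
    rw [e]
    rfl
  · left
    simp [ev, wv_nil]

/-- the exact value of a relator word -/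
theorem F0_word (r : Nat) (h1 : 7 ≤ r) (h2 : r < 75) :
    F0 (ev U62A.gen 8 (U62A.tabs.word r)) *
      PresentedGroup.mk Fi22b.R (ev Fi22b.gen 9 (epsU r)) = 1 := by
  have hl : ∀ l ∈ U62A.tabs.word r, l < 2 * 8 := by
    intro l hl
    have h := U62A.layout.hletters r (by rw [U62A.layout.hnwords]; decide +revert) l hl
    rw [U62A.layout.hL] at h
    exact h
  unfold F0
  rw [lift_homF_ev U62A.gen U62A.idx 8 Fi22b.R Fi22b.gen 9 waU U62A.layout.hig _ hl, ← map_mul]
  have e : ev Fi22b.gen 9 ((U62A.tabs.word r).flatMap (substL waU)) * ev Fi22b.gen 9 (epsU r) =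
      ev Fi22b.gen 9 (rwU (r - 7)) := by
    unfold rwU ev
    rw [wv_append]
    have : 7 + (r - 7) = r := by omega
    rw [this]
  rw [e]
  apply Fi22W.mk_eq_one_of_base
  · intro l hl
    have := allL_sound _ _ (allLt_sound _ _ letU (r - 7) (by omega)) l hl
    rwa [blt_eq] at this
  · intro b hb
    have := allL_sound _ _ (allLt_sound _ _ fixU (r - 7) (by omega)) b hb
    rwa [nbeq_eq] at this

/-! ## The generator `a` -/

theorem aG_sq : aG * aG = 1 := by
  have h := U62A.layout.hgi  -- unused, keeps the namespace open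
  have h1 : (FreeGroup.of Fi22.Gen.a * FreeGroup.of Fi22.Gen.a) ^ coxLabel Fi22.edges Fi22.Gen.a Fi22.Gen.a ∈
      Fi22b.R := Or.inl ⟨.a, by decide, .a, by decide, rfl⟩
  have h2 := (PresentedGroup.mk_eq_one_iff (rels := Fi22b.R)).mpr (Subgroup.subset_normalClosure h1)
  have e : coxLabel Fi22.edges Fi22.Gen.a Fi22.Gen.a = 1 := by decide
  rw [e, pow_one, map_mul] at h2
  exact h2

theorem aG_ne_one : aG ≠ 1 := by
  have e : ev Fi22b.gen 9 [0] = Fi22.a := by decide +kernel
  have h := Fi22W.mk_ne_one_of_move [0] (by decide +kernel) 1 (by decide +kernel) (by decide +kernel)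
  rw [e] at h
  exact h

theorem aG_inv : aG⁻¹ = aG := inv_eq_of_mul_eq_one_right aG_sq

/-- the two-element subgroup generated by `a` -/
def A0 : Subgroup GG where
  carrier := {g | g = 1 ∨ g = aG}
  one_mem' := Or.inl rfl
  mul_mem' := by
    rintro x y (rfl | rfl) (rfl | rfl)
    · exact Or.inl (one_mul 1)
    · exact Or.inr (one_mul _)
    · exact Or.inr (mul_one _)
    · exact Or.inl aG_sq
  inv_mem' := by
    rintro x (rfl | rfl)
    · exact Or.inl inv_one
    · exact Or.inr aG_inv

theorem mem_A0 (g : GG) : g ∈ A0 ↔ g = 1 ∨ g = aG := Iff.rfl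

/-- every relator of `U₆(2)` evaluates to `1` or `a` -/
theorem F0_rels : ∀ r ∈ U62A.R, F0 r ∈ A0 := by
  apply U62A.layout.map_rels_mem F0 A0
  intro r h1 h2
  have hr1 : 7 ≤ r := by
    have : U62A.tabs.nsub = 7 := by decide +kernel
    omega
  have hr2 : r < 75 := by
    have h3 : U62A.tabs.nsub = 7 := by decide +kernel
    have h4 : U62P.extra.length = 4 := by decide
    omega
  have h := F0_word r hr1 hr2
  have h' : F0 (ev U62A.gen 8 (U62A.tabs.word r)) =
      (PresentedGroup.mk Fi22b.R (ev Fi22b.gen 9 (epsU r)))⁻¹ := eq_inv_of_mul_eq_one_left h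
  rw [h']
  apply A0.inv_mem
  exact ev_eps r

/-! ## The subgroup `H` -/

theorem ev_waU_mem : ∀ k, k < 8 → ev Fi22b.gen 9 (waU k) ∈ Fi22b.Ylist := by decide +kernel

theorem F0_of (x : U62P.Gen) :
    F0 (FreeGroup.of x) = PresentedGroup.mk Fi22b.R (ev Fi22b.gen 9 (waU (U62A.idx x))) := by
  unfold F0
  rw [FreeGroup.lift_apply_of]
  rfl

theorem F0_of_mem (x : U62P.Gen) : F0 (FreeGroup.of x) ∈ HG := by
  rw [F0_of]
  exact Subgroup.mem_map_of_mem _ (Subgroup.subset_closure (ev_waU_mem _ (U62A.layout.hgi x).1))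

theorem aG_mem : aG ∈ HG :=
  Subgroup.mem_map_of_mem _ (Subgroup.subset_closure (by
    show Fi22.a ∈ Fi22b.Ylist
    simp [Fi22b.Ylist]))

/-- the commutator words of the generators of `H` with `a` -/
noncomputable def cwU (s : Nat) : List Nat :=
  Fi22b.tabs.word s ++ [0] ++ invW (Fi22b.tabs.word s) ++ [1]

theorem letC : lettersOkW cwU 9 Fi22b.ptabs.L = true := by decide +kernel
theorem fixC : fixOkW cwU 9 Fi22b.ptabs [18, 5, 4, 3, 2, 1, 0] = true := by decide +kernel

theorem comm_gen (s : Nat) (hs : s < 9) :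
    PresentedGroup.mk Fi22b.R (Fi22b.Ylist.getD s 1) * aG = aG * PresentedGroup.mk Fi22b.R (Fi22b.Ylist.getD s 1) := by
  have h := Fi22W.mk_eq_one_of_base (cwU s)
    (by
      intro l hl
      have := allL_sound _ _ (allLt_sound _ _ letC s hs) l hl
      rwa [blt_eq] at this)
    (by
      intro b hb
      have := allL_sound _ _ (allLt_sound _ _ fixC s hs) b hb
      rwa [nbeq_eq] at this)
  have e : ev Fi22b.gen 9 (cwU s) =
      Fi22b.Ylist.getD s 1 * Fi22.a * (Fi22b.Ylist.getD s 1)⁻¹ * Fi22.a⁻¹ := by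
    unfold cwU ev
    rw [wv_append, wv_append, wv_append, wv_invW]
    have h0 : wv (gF Fi22b.gen 9) [0] = Fi22.a := by decide +kernel
    have h1 : wv (gF Fi22b.gen 9) [1] = Fi22.a⁻¹ := by decide +kernel
    have h2 : wv (gF Fi22b.gen 9) (Fi22b.tabs.word s) = Fi22b.Ylist.getD s 1 :=
      Fi22b.layout.hY s (by rw [Fi22b.layout.hnsub]; exact hs)
    rw [h0, h1, h2]
  rw [e, map_mul, map_mul, map_mul, map_inv, map_inv] at h
  have h' : PresentedGroup.mk Fi22b.R (Fi22b.Ylist.getD s 1) * aG *
      (PresentedGroup.mk Fi22b.R (Fi22b.Ylist.getD s 1))⁻¹ * aG⁻¹ = 1 := h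
  calc PresentedGroup.mk Fi22b.R (Fi22b.Ylist.getD s 1) * aG
      = (PresentedGroup.mk Fi22b.R (Fi22b.Ylist.getD s 1) * aG *
          (PresentedGroup.mk Fi22b.R (Fi22b.Ylist.getD s 1))⁻¹ * aG⁻¹) * aG *
            PresentedGroup.mk Fi22b.R (Fi22b.Ylist.getD s 1) := by group
    _ = aG * PresentedGroup.mk Fi22b.R (Fi22b.Ylist.getD s 1) := by rw [h', one_mul]

/-- `a` is central in `H` -/
theorem aG_comm : ∀ h ∈ HG, h * aG = aG * h := by
  have hle : HG ≤ Subgroup.centralizer {aG} := by
    rw [Subgroup.map_le_iff_le_comap, Subgroup.closure_le]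
    intro y hy
    have hy' : y ∈ Fi22b.Ylist := hy
    obtain ⟨s, hs, rfl⟩ := List.getElem_of_mem hy'
    have hs9 : s < 9 := by
      have : Fi22b.Ylist.length = 9 := by decide
      omega
    show PresentedGroup.mk Fi22b.R _ ∈ Subgroup.centralizer {aG}
    rw [Subgroup.mem_centralizer_iff]
    intro g hg
    rw [Set.mem_singleton_iff] at hg
    rw [hg]
    have := comm_gen s hs9
    rw [List.getD_eq_getElem _ _ hs] at this
    exact this.symm
  intro h hh
  have := Subgroup.mem_centralizer_iff.mp (hle hh) aG (Set.mem_singleton _)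
  exact this.symm

/-! ## The quotient by the centre -/

/-- the generator `a` as an element of `H` -/
def aH : HG := ⟨aG, aG_mem⟩

/-- the two-element subgroup of `H` -/
def AH : Subgroup HG := A0.subgroupOf HG

theorem mem_AH (h : HG) : h ∈ AH ↔ (h : GG) = 1 ∨ (h : GG) = aG := by
  unfold AH
  rw [Subgroup.mem_subgroupOf]
  exact mem_A0 _

instance AH_normal : AH.Normal := by
  constructor
  intro n hn g
  rw [mem_AH] at hn ⊢
  rcases hn with h | h
  · left
    show (g : GG) * (n : GG) * (g : GG)⁻¹ = 1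
    rw [h, mul_one, mul_inv_cancel]
  · right
    show (g : GG) * (n : GG) * (g : GG)⁻¹ = aG
    rw [h, aG_comm g g.2, mul_assoc, mul_inv_cancel, mul_one]

theorem card_AH : Nat.card AH = 2 := by
  rw [Nat.card_eq_two_iff]
  refine ⟨⟨1, (mem_AH 1).mpr (Or.inl rfl)⟩, ⟨aH, (mem_AH aH).mpr (Or.inr rfl)⟩, ?_, ?_⟩
  · intro h
    have h1 : (1 : GG) = aG := congrArg (fun z : AH => ((z : HG) : GG)) h
    exact aG_ne_one h1.symm
  · ext z
    simp only [Set.mem_insert_iff, Set.mem_singleton_iff, Set.mem_univ, iff_true]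
    rcases (mem_AH z.1).mp z.2 with h | h
    · left; exact Subtype.ext (Subtype.ext h)
    · right; exact Subtype.ext (Subtype.ext h)

theorem card_HG : Nat.card HG = 18393661440 := by
  have h := Subgroup.card_mul_index HG
  rw [Fi22b.main_index, Fi22C.card_inj.1] at h
  omega

instance finite_HG : Finite HG := Nat.finite_of_card_ne_zero (by rw [card_HG]; norm_num)

theorem card_quot : Nat.card (HG ⧸ AH) = 9196830720 := by
  have h := Subgroup.card_eq_card_quotient_mul_card_subgroup AH
  rw [card_HG, card_AH] at h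
  omega

/-- the images of the generators in `H` -/
noncomputable def fH (x : U62P.Gen) : HG := ⟨F0 (FreeGroup.of x), F0_of_mem x⟩

theorem lift_fH_val (r : FreeGroup U62P.Gen) : ((FreeGroup.lift fH r : HG) : GG) = F0 r := by
  have h : HG.subtype.comp (FreeGroup.lift fH) = F0 := by
    ext x
    simp [fH]
  exact DFunLike.congr_fun h r

theorem lift_fH_eq_one (r : FreeGroup U62P.Gen) (h : F0 r = 1) : FreeGroup.lift fH r = 1 := by
  apply Subtype.ext
  rw [lift_fH_val, h]
  rfl

/-- the images of the generators in the quotient -/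
noncomputable def fQ (x : U62P.Gen) : HG ⧸ AH := QuotientGroup.mk (fH x)

theorem lift_fQ (r : FreeGroup U62P.Gen) :
    FreeGroup.lift fQ r = QuotientGroup.mk (FreeGroup.lift fH r) := by
  have h : FreeGroup.lift fQ = (QuotientGroup.mk' AH).comp (FreeGroup.lift fH) := by
    ext g
    simp [fQ]
  rw [h]
  rfl

theorem hrelsQ : ∀ r ∈ U62A.R, FreeGroup.lift fQ r = 1 := by
  intro r hr
  rw [lift_fQ, QuotientGroup.eq_one_iff, mem_AH, lift_fH_val]
  exact (mem_A0 _).mp (F0_rels r hr)

/-- the homomorphism from the presented group `U₆(2)` to the quotient of `H` -/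
noncomputable def rho : PU →* HG ⧸ AH := PresentedGroup.toGroup hrelsQ

theorem rho_of (x : U62P.Gen) : rho (PresentedGroup.of x) = QuotientGroup.mk (fH x) :=
  PresentedGroup.toGroup.of _

theorem rho_injective : Function.Injective rho := by
  have hker : rho.ker = ⊥ := by
    rcases U62C.simple.eq_bot_or_eq_top_of_normal rho.ker inferInstance with h | h
    · exact h
    · exfalso
      have hc : PresentedGroup.of U62P.Gen.c ∈ rho.ker := by rw [h]; exact Subgroup.mem_top _
      rw [MonoidHom.mem_ker, rho_of, QuotientGroup.eq_one_iff, mem_AH] at hc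
      have hv : ((fH .c : HG) : GG) = PresentedGroup.mk Fi22b.R (ev Fi22b.gen 9 [4]) := F0_of .c
      rw [hv] at hc
      rcases hc with h1 | h1
      · exact Fi22W.mk_ne_one_of_move [4] (by decide +kernel) 1 (by decide +kernel) (by decide +kernel) h1
      · have e : ev Fi22b.gen 9 [4, 1] = ev Fi22b.gen 9 [4] * Fi22.a⁻¹ := by decide +kernel
        apply Fi22W.mk_ne_one_of_move [4, 1] (by decide +kernel) 1 (by decide +kernel) (by decide +kernel)
        rw [e, map_mul, map_inv, h1]
        exact mul_inv_cancel aG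
  exact (MonoidHom.ker_eq_bot_iff rho).mp hker

theorem rho_bijective : Function.Bijective rho := by
  haveI : Finite (HG ⧸ AH) := Nat.finite_of_card_ne_zero (by rw [card_quot]; norm_num)
  rw [Nat.bijective_iff_injective_and_card]
  exact ⟨rho_injective, by rw [card_quot]; exact U62C.card_inj.1⟩

/-- the quotient of `H` by its centre is the presented group `U₆(2)` -/
noncomputable def eQ : PU ≃* HG ⧸ AH := MulEquiv.ofBijective rho rho_bijective

/-- the homomorphism from `H` onto the projective special unitary group -/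
noncomputable def piH : HG →* Cfsg.PSU 6 GF4 2 :=
  (U62M.isoM.toMonoidHom.comp eQ.symm.toMonoidHom).comp (QuotientGroup.mk' AH)

theorem piH_surj : Function.Surjective piH := by
  intro y
  obtain ⟨p, rfl⟩ := U62M.isoM.surjective y
  obtain ⟨q, rfl⟩ := eQ.symm.surjective p
  obtain ⟨h, rfl⟩ := QuotientGroup.mk'_surjective AH q
  exact ⟨h, rfl⟩

theorem card_ker : Nat.card piH.ker = 2 := by
  have e := QuotientGroup.quotientKerEquivOfSurjective piH piH_surj
  have h1 := Subgroup.card_eq_card_quotient_mul_card_subgroup piH.ker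
  rw [Nat.card_congr e.toEquiv, U62M.card_PSU62, card_HG] at h1
  omega

/-! ## `H` has no subgroup of index two -/

theorem eq_of_braid3 {Q : Type*} [Group Q] (hc : ∀ u v : Q, u * v = v * u) (s t : Q)
    (hs : s * s = 1) (ht : t * t = 1) (h3 : (s * t) ^ 3 = 1) : s = t := by
  have h2 : (s * t) ^ 2 = 1 := by
    rw [pow_two]
    calc s * t * (s * t) = s * (t * s) * t := by group
      _ = s * (s * t) * t := by rw [hc t s]
      _ = (s * s) * (t * t) := by group
      _ = 1 := by rw [hs, ht, one_mul]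
  have h1 : s * t = 1 := by
    have : (s * t) ^ 3 = (s * t) ^ 2 * (s * t) := pow_succ _ 2
    rw [this, h2, one_mul] at h3
    exact h3
  have : s = t⁻¹ := eq_inv_of_mul_eq_one_left h1
  rw [this]
  exact inv_eq_of_mul_eq_one_left ht

theorem nsub7 : U62A.tabs.nsub = 7 := by decide +kernel

/-- the Coxeter relators hold exactly -/
theorem F0_cox (x y : U62P.Gen) :
    F0 ((FreeGroup.of x * FreeGroup.of y) ^ coxLabel U62P.edges x y) = 1 := by
  rw [U62A.layout.cox_eq_ev x y (by cases x <;> decide) (by cases y <;> decide)]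
  have hlt := U62A.layout.cox_index_lt x y
  have hn := nsub7
  have h := F0_word (U62A.tabs.nsub + U62A.idx x * 8 + U62A.idx y) (by omega) (by omega)
  have he : epsU (U62A.tabs.nsub + U62A.idx x * 8 + U62A.idx y) = [] := by
    unfold epsU
    rw [if_neg]
    omega
  rw [he] at h
  simpa [ev, wv_nil] using h

/-- the relator `(cdefghi)⁹` holds exactly -/
theorem F0_E7 : F0 ((U62P.c * U62P.d * U62P.e * U62P.f * U62P.g * U62P.h * U62P.i) ^ 9) = 1 := by
  have h := F0_word 71 (by omega) (by omega)
  have e1 : ev U62A.gen 8 (U62A.tabs.word 71) = U62P.extra.getD 0 1 := by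
    have := U62A.layout.hextra 0 (by decide)
    rw [nsub7] at this
    exact this
  have e2 : U62P.extra.getD 0 1 =
      (U62P.c * U62P.d * U62P.e * U62P.f * U62P.g * U62P.h * U62P.i) ^ 9 := rfl
  have he : epsU 71 = [] := by decide
  rw [e1, e2, he] at h
  simpa [ev, wv_nil] using h

/-- the relator `(cdehit)⁵` evaluates to `a` -/
theorem F0_Z : F0 ((U62P.c * U62P.d * U62P.e * U62P.h * U62P.i * U62P.t) ^ 5) = aG := by
  have h := F0_word 73 (by omega) (by omega)
  have e1 : ev U62A.gen 8 (U62A.tabs.word 73) = U62P.extra.getD 2 1 := by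
    have := U62A.layout.hextra 2 (by decide)
    rw [nsub7] at this
    exact this
  have e2 : U62P.extra.getD 2 1 =
      (U62P.c * U62P.d * U62P.e * U62P.h * U62P.i * U62P.t) ^ 5 := rfl
  have he : PresentedGroup.mk Fi22b.R (ev Fi22b.gen 9 (epsU 73)) = aG := by
    have e : ev Fi22b.gen 9 (epsU 73) = Fi22.a := by decide +kernel
    rw [e]
    rfl
  rw [e1, e2, he] at h
  have h' := eq_inv_of_mul_eq_one_left h
  rw [aG_inv] at h'
  exact h'

theorem no_index_two (L : Subgroup HG) (hL : L.index = 2) : False := by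
  have hN : L.Normal := Subgroup.normal_of_index_eq_two hL
  let q : HG →* HG ⧸ L := QuotientGroup.mk' L
  have hcard : Nat.card (HG ⧸ L) = 2 := by
    rw [← Subgroup.index_eq_card]; exact hL
  haveI : Fact (Nat.Prime 2) := ⟨Nat.prime_two⟩
  have hcyc : IsCyclic (HG ⧸ L) := isCyclic_of_prime_card hcard
  have hc : ∀ u v : HG ⧸ L, u * v = v * u := by
    letI := hcyc
    letI : CommGroup (HG ⧸ L) := IsCyclic.commGroup
    exact fun u v => mul_comm u v
  let θ : FreeGroup U62P.Gen →* HG ⧸ L := q.comp (FreeGroup.lift fH)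
  have hθ : ∀ r, F0 r = 1 → θ r = 1 := by
    intro r hr
    show q (FreeGroup.lift fH r) = 1
    rw [lift_fH_eq_one r hr, map_one]
  let s : U62P.Gen → HG ⧸ L := fun x => θ (FreeGroup.of x)
  have hsq : ∀ x : U62P.Gen, s x * s x = 1 := by
    intro x
    have h := hθ _ (F0_cox x x)
    have e : coxLabel U62P.edges x x = 1 := by cases x <;> decide
    rw [e, pow_one, map_mul] at h
    exact h
  have hedge : ∀ x y : U62P.Gen, coxLabel U62P.edges x y = 3 → s x = s y := by
    intro x y hxy
    apply eq_of_braid3 hc _ _ (hsq x) (hsq y)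
    have h := hθ _ (F0_cox x y)
    rw [hxy, map_pow, map_mul] at h
    exact h
  have hd : s .d = s .c := (hedge .c .d (by decide)).symm
  have he : s .e = s .c := (hedge .d .e (by decide)).symm.trans hd
  have hf : s .f = s .c := (hedge .e .f (by decide)).symm.trans he
  have hg : s .g = s .c := (hedge .f .g (by decide)).symm.trans hf
  have hh : s .h = s .c := (hedge .d .h (by decide)).symm.trans hd
  have hi : s .i = s .c := (hedge .h .i (by decide)).symm.trans hh
  have ht : s .t = s .c := (hedge .f .t (by decide)).symm.trans hf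
  have h2 : s .c ^ 2 = 1 := by rw [pow_two]; exact hsq .c
  -- the odd relator kills the common image
  have hodd : (s .c * s .d * s .e * s .f * s .g * s .h * s .i) ^ 9 = 1 := by
    have h := hθ _ F0_E7
    simpa [map_pow, map_mul, s] using h
  rw [hd, he, hf, hg, hh, hi] at hodd
  have hc1 : s .c = 1 := by
    have e7 : s .c * s .c * s .c * s .c * s .c * s .c * s .c = s .c ^ 7 := by
      simp only [pow_succ, pow_zero, one_mul]
    have e : (s .c ^ 7) ^ 9 = (s .c ^ 2) ^ 31 * s .c := by
      rw [← pow_mul, ← pow_mul, ← pow_succ]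
    rw [e7, e, h2, one_pow, one_mul] at hodd
    exact hodd
  have hall : ∀ x : U62P.Gen, fH x ∈ L := by
    intro x
    have hx : s x = 1 := by
      cases x
      · exact hc1
      · rw [hd, hc1]
      · rw [he, hc1]
      · rw [hf, hc1]
      · rw [hg, hc1]
      · rw [hh, hc1]
      · rw [hi, hc1]
      · rw [ht, hc1]
    have hx' : q (fH x) = 1 := by
      have : θ (FreeGroup.of x) = q (fH x) := by
        show q (FreeGroup.lift fH (FreeGroup.of x)) = q (fH x)
        rw [FreeGroup.lift_apply_of]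
      rw [← this]
      exact hx
    exact (QuotientGroup.eq_one_iff _).mp hx'
  have haL : aH ∈ L := by
    have e : FreeGroup.lift fH ((U62P.c * U62P.d * U62P.e * U62P.h * U62P.i * U62P.t) ^ 5) = aH := by
      apply Subtype.ext
      rw [lift_fH_val, F0_Z]
      rfl
    have hc' : ∀ x : U62P.Gen, FreeGroup.lift fH (FreeGroup.of x) ∈ L := by
      intro x
      rw [FreeGroup.lift_apply_of]
      exact hall x
    rw [← e, map_pow]
    refine L.pow_mem ?_ 5
    simp only [map_mul]
    exact L.mul_mem (L.mul_mem (L.mul_mem (L.mul_mem (L.mul_mem (hc' .c) (hc' .d)) (hc' .e)) (hc' .h))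
      (hc' .i)) (hc' .t)
  -- all generators of `H` lie in `L`
  have hgen : ∀ k, k < 9 → ∃ h : HG, h ∈ L ∧ (h : GG) = PresentedGroup.mk Fi22b.R (Fi22b.Ylist.getD k 1) := by
    intro k hk
    interval_cases k
    · exact ⟨aH, haL, rfl⟩
    · exact ⟨fH .c, hall _, (F0_of .c).trans (congrArg _ (by decide +kernel))⟩
    · exact ⟨fH .d, hall _, (F0_of .d).trans (congrArg _ (by decide +kernel))⟩
    · exact ⟨fH .e, hall _, (F0_of .e).trans (congrArg _ (by decide +kernel))⟩
    · exact ⟨fH .f, hall _, (F0_of .f).trans (congrArg _ (by decide +kernel))⟩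
    · exact ⟨fH .g, hall _, (F0_of .g).trans (congrArg _ (by decide +kernel))⟩
    · exact ⟨fH .h, hall _, (F0_of .h).trans (congrArg _ (by decide +kernel))⟩
    · exact ⟨fH .i, hall _, (F0_of .i).trans (congrArg _ (by decide +kernel))⟩
    · exact ⟨fH .t, hall _, (F0_of .t).trans (congrArg _ (by decide +kernel))⟩
  have hle : HG ≤ L.map HG.subtype := by
    rw [Subgroup.map_le_iff_le_comap, Subgroup.closure_le]
    intro y hy
    have hy' : y ∈ Fi22b.Ylist := hy
    obtain ⟨k, hk, rfl⟩ := List.getElem_of_mem hy'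
    have hk9 : k < 9 := by
      have : Fi22b.Ylist.length = 9 := by decide
      omega
    obtain ⟨h, hhL, hv⟩ := hgen k hk9
    rw [List.getD_eq_getElem _ _ hk] at hv
    exact ⟨h, hhL, hv⟩
  have htop : L = ⊤ := by
    rw [eq_top_iff]
    intro h _
    obtain ⟨h', hh', hv⟩ := hle h.2
    have : h' = h := Subtype.ext hv
    rw [← this]
    exact hh'
  rw [htop, Subgroup.index_top] at hL
  omega

/-- the subgroup `H` is a non-split double cover of the projective special unitary group -/
theorem main : Cfsg.IsNonsplitDoubleCover HG (Cfsg.PSU 6 GF4 2) :=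
  isNonsplitDoubleCover_of_hom piH piH_surj card_ker U62M.center_PSU62 no_index_two

theorem aux (Y' : Set (FreeGroup Fi22.Gen)) (hY : Y' = {y | y ∈ Fi22b.Ylist}) :
    Cfsg.IsNonsplitDoubleCover (HH Fi22b.R Y') (Cfsg.PSU 6 GF4 2) := by
  subst hY
  exact main

end Cfsg.Agent.Helper28.U62F
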