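import Cfsg.Agent.Helper28.U62Mat
import Cfsg.Agent.Helper28.U62C.Main
import Cfsg.Agent.Helper28.DoubleCover
import Cfsg.Agent.Helper45.SUCard
set_option autoImplicit false
set_option maxRecDepth 100000

/-!
# The presented group `U62P` is isomorphic to `PSU₆(2)`
-/

namespace Cfsg.Agent.Helper28.U62M
open Cfsg.Agent.Helper28 Cfsg.Agent.Helper27 Cfsg.Agent.Helper27.GF4 Cfsg.Spor Matrix

/-- the special unitary group -/
abbrev SUg : Subgroup (SpecialLinearGroup (Fin 6) GF4) := Cfsg.SU 6 GF4 2
/-- the presented group -/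
abbrev PU : Type := PresentedGroup U62A.R

/-- the images of the generators in the special linear group -/
def sM (x : U62P.Gen) : SpecialLinearGroup (Fin 6) GF4 := ⟨mat x, mat_det x⟩

theorem sM_mem (x : U62P.Gen) : sM x ∈ SUg := by
  intro u v
  exact herm_inv (mat x) (mat_unitary x) u v

/-- the images of the generators in the special unitary group -/
def uM (x : U62P.Gen) : SUg := ⟨sM x, sM_mem x⟩

theorem det_mS : mS.det = 1 := by
  unfold mS
  rw [Matrix.det_smul, Matrix.det_one, Fintype.card_fin, mul_one]
  decide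

/-- the scalar matrix in the special linear group -/
def sS : SpecialLinearGroup (Fin 6) GF4 := ⟨mS, det_mS⟩

theorem sS_mem : sS ∈ SUg := by
  intro u v
  exact herm_inv mS (by decide +kernel) u v

/-- the scalar matrix in the special unitary group -/
def uS : SUg := ⟨sS, sS_mem⟩

theorem uS_mem_center : uS ∈ Subgroup.center SUg := by
  rw [Subgroup.mem_center_iff]
  intro g
  apply Subtype.ext
  apply Subtype.ext
  show (g : SpecialLinearGroup (Fin 6) GF4).1 * mS = mS * (g : SpecialLinearGroup (Fin 6) GF4).1
  unfold mS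
  rw [Matrix.mul_smul, Matrix.smul_mul, mul_one, one_mul]

theorem cox_ok (x y : U62P.Gen) : (mat x * mat y) ^ coxLabel U62P.edges x y = 1 := by
  cases x
  exacts [cox_c y, cox_d y, cox_e y, cox_f y, cox_g y, cox_h y, cox_i y, cox_t y]

theorem rel_cox (x y : U62P.Gen) : (uM x * uM y) ^ coxLabel U62P.edges x y = 1 := by
  apply Subtype.ext
  apply Subtype.ext
  show (mat x * mat y) ^ coxLabel U62P.edges x y = 1
  exact cox_ok x y

theorem rel_0 : (uM .c * uM .d * uM .e * uM .f * uM .g * uM .h * uM .i) ^ 9 = 1 := by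
  apply Subtype.ext
  apply Subtype.ext
  show (mat .c * mat .d * mat .e * mat .f * mat .g * mat .h * mat .i) ^ 9 = 1
  exact extra_0
theorem rel_1 : (uM .d * uM .e * uM .f * uM .t * uM .i * uM .h) ^ 5 = uS := by
  apply Subtype.ext
  apply Subtype.ext
  show (mat .d * mat .e * mat .f * mat .t * mat .i * mat .h) ^ 5 = mS
  exact extra_1
theorem rel_2 : (uM .c * uM .d * uM .e * uM .h * uM .i * uM .t) ^ 5 = 1 := by
  apply Subtype.ext
  apply Subtype.ext
  show (mat .c * mat .d * mat .e * mat .h * mat .i * mat .t) ^ 5 = 1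
  exact extra_2
theorem rel_3 : (uM .c * uM .d * uM .e * uM .f * uM .g * uM .i * uM .t) ^ 9 = 1 := by
  apply Subtype.ext
  apply Subtype.ext
  show (mat .c * mat .d * mat .e * mat .f * mat .g * mat .i * mat .t) ^ 9 = 1
  exact extra_3

/-- the images of the generators in the projective special unitary group -/
def fM (x : U62P.Gen) : Cfsg.PSU 6 GF4 2 := QuotientGroup.mk (uM x)

theorem lift_fM (r : FreeGroup U62P.Gen) :
    FreeGroup.lift fM r = QuotientGroup.mk (FreeGroup.lift uM r) := by
  have h : FreeGroup.lift fM = (QuotientGroup.mk' _).comp (FreeGroup.lift uM) := by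
    ext g
    simp [fM]
  rw [h]
  rfl

theorem hrelsM : ∀ r ∈ U62A.R, FreeGroup.lift fM r = 1 := by
  intro r hr
  rw [lift_fM, QuotientGroup.eq_one_iff]
  rcases hr with ⟨x, -, y, -, rfl⟩ | hr
  · rw [map_pow, map_mul, FreeGroup.lift_apply_of, FreeGroup.lift_apply_of, rel_cox]
    exact Subgroup.one_mem _
  · have hr' : r ∈ U62P.extra := hr
    simp only [U62P.extra, List.mem_cons, List.not_mem_nil, or_false] at hr'
    rcases hr' with rfl | rfl | rfl | rfl
    · simp only [map_pow, map_mul, FreeGroup.lift_apply_of]; rw [rel_0]; exact Subgroup.one_mem _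
    · simp only [map_pow, map_mul, FreeGroup.lift_apply_of]; rw [rel_1]; exact uS_mem_center
    · simp only [map_pow, map_mul, FreeGroup.lift_apply_of]; rw [rel_2]; exact Subgroup.one_mem _
    · simp only [map_pow, map_mul, FreeGroup.lift_apply_of]; rw [rel_3]; exact Subgroup.one_mem _

/-- the homomorphism from the presented group to the projective special unitary group -/
def homM : PU →* Cfsg.PSU 6 GF4 2 := PresentedGroup.toGroup hrelsM

theorem homM_of (x : U62P.Gen) : homM (PresentedGroup.of x) = QuotientGroup.mk (uM x) :=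
  PresentedGroup.toGroup.of _

theorem homM_injective : Function.Injective homM := by
  have hker : homM.ker = ⊥ := by
    rcases U62C.simple.eq_bot_or_eq_top_of_normal homM.ker inferInstance with h | h
    · exact h
    · exfalso
      have hc : PresentedGroup.of U62P.Gen.c ∈ homM.ker := by rw [h]; exact Subgroup.mem_top _
      rw [MonoidHom.mem_ker, homM_of] at hc
      have hcen : uM .c ∈ Subgroup.center SUg := (QuotientGroup.eq_one_iff _).mp hc
      have h1 := Subgroup.mem_center_iff.mp hcen (uM .d)
      have h2 : mat .d * mat .c = mat .c * mat .d :=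
        congrArg (fun z : SUg => ((z : SpecialLinearGroup (Fin 6) GF4) : M6)) h1
      exact mat_c_d_ne h2.symm
  exact (MonoidHom.ker_eq_bot_iff homM).mp hker

theorem card_PSU62 : Nat.card (Cfsg.PSU 6 GF4 2) = 9196830720 := by
  have h := Cfsg.Agent.Helper45.GU.card_PSU (F := GF4) (q := 2) GF4.card_eq 6 (by norm_num)
  have hp : (2 ^ (6 * (6 - 1) / 2) *
      ∏ i ∈ Finset.range 6, (if Even i then 2 ^ (i + 1) + 1 else 2 ^ (i + 1) - 1) : ℕ) = 82771476480 := by
    decide +kernel
  have hg : Nat.gcd 6 (2 + 1) = 3 := by decide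
  rw [hp, hg] at h
  omega

theorem homM_bijective : Function.Bijective homM := by
  haveI : Finite (Cfsg.PSU 6 GF4 2) :=
    Nat.finite_of_card_ne_zero (by rw [card_PSU62]; norm_num)
  rw [Nat.bijective_iff_injective_and_card]
  exact ⟨homM_injective, by rw [card_PSU62]; exact U62C.card_inj.1⟩

/-- the isomorphism of the presented group with the projective special unitary group -/
noncomputable def isoM : PU ≃* Cfsg.PSU 6 GF4 2 := MulEquiv.ofBijective homM homM_bijective

theorem center_PSU62 : Subgroup.center (Cfsg.PSU 6 GF4 2) = ⊥ := by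
  haveI : Finite PU := U62C.upper.1
  haveI : Finite (Cfsg.PSU 6 GF4 2) :=
    Nat.finite_of_card_ne_zero (by rw [card_PSU62]; norm_num)
  haveI : IsSimpleGroup PU := U62C.simple
  exact center_eq_bot_of_simple (MulEquiv.isSimpleGroup isoM.symm) (by rw [card_PSU62]; norm_num)

end Cfsg.Agent.Helper28.U62M
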