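import Cfsg.Prelude.Def_Classical
import Cfsg.Agent.Helper28.U62Pres
import Cfsg.Agent.Helper28.CosetCox
import Cfsg.Agent.Helper27.GF4
set_option autoImplicit false
set_option maxRecDepth 100000

/-!
# Unitary transvections over the field with four elements satisfying the presentation of `U₆(2)` modulo scalars
-/

namespace Cfsg.Agent.Helper28.U62M
open Cfsg.Agent.Helper28 Cfsg.Agent.Helper27 Cfsg.Agent.Helper27.GF4 Cfsg.Spor Matrix

/-- the matrices of degree 6 over the field with four elements -/
abbrev M6 : Type := Matrix (Fin 6) (Fin 6) GF4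

/-- squaring, the field automorphism of order two -/
def sq : GF4 →+* GF4 where
  toFun x := x ^ 2
  map_one' := by decide
  map_mul' := by decide
  map_zero' := by decide
  map_add' := by decide

theorem herm_eq (u v : Fin 6 → GF4) : Cfsg.hermForm 6 GF4 2 u v = u ⬝ᵥ (sq ∘ v) := rfl

/-- a matrix `A` with `Aᵀ * Ā = 1` preserves the hermitian form -/
theorem herm_inv (A : M6) (h : Aᵀ * A.map sq = 1) (u v : Fin 6 → GF4) :
    Cfsg.hermForm 6 GF4 2 (A *ᵥ u) (A *ᵥ v) = Cfsg.hermForm 6 GF4 2 u v := by
  rw [herm_eq, herm_eq]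
  have h1 : sq ∘ (A *ᵥ v) = (A.map sq) *ᵥ (sq ∘ v) := by
    funext i
    exact RingHom.map_mulVec sq A v i
  rw [h1, Matrix.dotProduct_mulVec, ← Matrix.vecMul_transpose, Matrix.vecMul_vecMul, h, Matrix.vecMul_one]

/-- the unitary transvection of an isotropic vector -/
def tv (v : Fin 6 → GF4) : M6 := 1 + Matrix.replicateCol Unit v * Matrix.replicateRow Unit (fun i => v i ^ 2)

theorem det_tv (v : Fin 6 → GF4) (h : (fun i => v i ^ 2) ⬝ᵥ v = 0) : (tv v).det = 1 := by
  unfold tv
  rw [Matrix.det_one_add_replicateCol_mul_replicateRow, h, add_zero]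

/-- the isotropic vectors of the generators -/
def vec : U62P.Gen → Fin 6 → GF4
  | .c => ![o, w2, w2, w2, o, w2]
  | .d => ![o, w, z, z, w, w2]
  | .e => ![o, o, w2, z, w, z]
  | .f => ![o, w2, z, w, z, w]
  | .g => ![o, w, w2, o, w2, o]
  | .h => ![o, o, o, w, w2, w2]
  | .i => ![o, w, w, w2, z, z]
  | .t => ![o, w2, w, w, w, o]

/-- the images of the generators -/
def mat (x : U62P.Gen) : M6 := tv (vec x)

theorem mat_det (x : U62P.Gen) : (mat x).det = 1 := by
  apply det_tv
  cases x <;> decide +kernel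

theorem mat_unitary : ∀ x : U62P.Gen, (mat x)ᵀ * (mat x).map sq = 1 := by
  intro x; cases x <;> decide +kernel

theorem mat_sq : ∀ x : U62P.Gen, mat x * mat x = 1 := by
  intro x; cases x <;> decide +kernel

theorem mat_c_d_ne : mat .c * mat .d ≠ mat .d * mat .c := by decide +kernel

/-- the scalar matrix of the primitive element -/
def mS : M6 := w • (1 : M6)

theorem cox_c : ∀ y : U62P.Gen, (mat .c * mat y) ^ coxLabel U62P.edges .c y = 1 := by
  intro y; cases y <;> decide +kernel
theorem cox_d : ∀ y : U62P.Gen, (mat .d * mat y) ^ coxLabel U62P.edges .d y = 1 := by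
  intro y; cases y <;> decide +kernel
theorem cox_e : ∀ y : U62P.Gen, (mat .e * mat y) ^ coxLabel U62P.edges .e y = 1 := by
  intro y; cases y <;> decide +kernel
theorem cox_f : ∀ y : U62P.Gen, (mat .f * mat y) ^ coxLabel U62P.edges .f y = 1 := by
  intro y; cases y <;> decide +kernel
theorem cox_g : ∀ y : U62P.Gen, (mat .g * mat y) ^ coxLabel U62P.edges .g y = 1 := by
  intro y; cases y <;> decide +kernel
theorem cox_h : ∀ y : U62P.Gen, (mat .h * mat y) ^ coxLabel U62P.edges .h y = 1 := by
  intro y; cases y <;> decide +kernel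
theorem cox_i : ∀ y : U62P.Gen, (mat .i * mat y) ^ coxLabel U62P.edges .i y = 1 := by
  intro y; cases y <;> decide +kernel
theorem cox_t : ∀ y : U62P.Gen, (mat .t * mat y) ^ coxLabel U62P.edges .t y = 1 := by
  intro y; cases y <;> decide +kernel
theorem extra_0 : (mat .c * mat .d * mat .e * mat .f * mat .g * mat .h * mat .i) ^ 9 = 1 := by decide +kernel
theorem extra_1 : (mat .d * mat .e * mat .f * mat .t * mat .i * mat .h) ^ 5 = mS := by decide +kernel
theorem extra_2 : (mat .c * mat .d * mat .e * mat .h * mat .i * mat .t) ^ 5 = 1 := by decide +kernel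
theorem extra_3 : (mat .c * mat .d * mat .e * mat .f * mat .g * mat .i * mat .t) ^ 9 = 1 := by decide +kernel

end Cfsg.Agent.Helper28.U62M
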